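import Mathlib

set_option autoImplicit false
set_option linter.unusedSectionVars false

namespace Cfsg.Agent.Lib.Helper48

open Module

variable {F : Type*} [Field F]

/-- left multiplication on the first factor, identity on the second -/
noncomputable def algEmbAux (A U : Type*) [Ring A] [Algebra F A] [AddCommGroup U] [Module F U] :
    A →* End F (A × U) where
  toFun a := LinearMap.prodMap (Algebra.lmul F A a) LinearMap.id
  map_one' := by
    ext <;> simp
  map_mul' a b := by
    ext <;> simp [mul_assoc]

theorem algEmbAux_injective (A U : Type*) [Ring A] [Algebra F A] [AddCommGroup U] [Module F U] :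
    Function.Injective (algEmbAux (F := F) A U) := by
  intro a b h
  have := congrArg (fun f : End F (A × U) => (f (1, 0)).1) h
  simpa [algEmbAux] using this

/-- The units of a finite-dimensional algebra of dimension at most `n` embed in `GL_n`. -/
theorem exists_injective_units_hom (A : Type*) [Ring A] [Algebra F A] [Module.Finite F A] (n : ℕ)
    (h : finrank F A ≤ n) : ∃ φ : Aˣ →* GL (Fin n) F, Function.Injective φ := by
  have hV : finrank F (A × (Fin (n - finrank F A) → F)) = finrank F (Fin n → F) := by
    rw [finrank_prod, finrank_fin_fun, finrank_fin_fun]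
    omega
  let e : (A × (Fin (n - finrank F A) → F)) ≃ₗ[F] (Fin n → F) := LinearEquiv.ofFinrankEq _ _ hV
  let ρ : A →* Matrix (Fin n) (Fin n) F :=
    ((Matrix.toLinAlgEquiv' (R := F) (n := Fin n)).symm.toMulEquiv.toMonoidHom).comp
      ((e.conjRingEquiv.toMulEquiv.toMonoidHom).comp
        (algEmbAux (F := F) A (Fin (n - finrank F A) → F)))
  have hρ : Function.Injective ρ := by
    intro a b hab
    apply algEmbAux_injective (F := F) A (Fin (n - finrank F A) → F)
    apply e.conjRingEquiv.injective
    apply (Matrix.toLinAlgEquiv' (R := F) (n := Fin n)).symm.injective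
    exact hab
  exact ⟨Units.map ρ, Units.map_injective hρ⟩

end Cfsg.Agent.Lib.Helper48
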