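import Mathlib

set_option autoImplicit false

namespace Cfsg.Agent.Lib.Helper48

open Module LinearMap

variable {F : Type*} [Field F] {ι : Type*} [Fintype ι] [DecidableEq ι]

/-- `GL` as units of the endomorphism ring -/
noncomputable def glEquivEnd : GL ι F ≃* (End F (ι → F))ˣ :=
  Units.mapEquiv (Matrix.toLinAlgEquiv' (R := F) (n := ι)).toMulEquiv

theorem glEquivEnd_coe (g : GL ι F) :
    ((glEquivEnd g : (End F (ι → F))ˣ) : End F (ι → F)) =
      Matrix.mulVecLin (g : Matrix ι ι F) := rfl

theorem commute_mulVecLin_iff (A B : Matrix ι ι F) :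
    Commute (Matrix.mulVecLin A : End F (ι → F)) (Matrix.mulVecLin B) ↔ Commute A B := by
  have h : ∀ M : Matrix ι ι F, (Matrix.mulVecLin M : End F (ι → F)) =
    Matrix.toLinAlgEquiv' (R := F) (n := ι) M := fun M => rfl
  rw [h, h]
  constructor
  · intro hc
    have := hc.map (Matrix.toLinAlgEquiv' (R := F) (n := ι)).symm
    simpa using this
  · intro hc
    exact hc.map (Matrix.toLinAlgEquiv' (R := F) (n := ι))

theorem mem_centralizer_iff_commute (u g : GL ι F) :
    g ∈ Subgroup.centralizer ({u} : Set (GL ι F)) ↔
      Commute ((glEquivEnd g : (End F (ι → F))ˣ) : End F (ι → F))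
        (Matrix.mulVecLin ((u : Matrix ι ι F) - 1)) := by
  rw [glEquivEnd_coe, commute_mulVecLin_iff, Subgroup.mem_centralizer_singleton_iff]
  constructor
  · intro h
    have h2 : (g : Matrix ι ι F) * (u : Matrix ι ι F) = (u : Matrix ι ι F) * (g : Matrix ι ι F) := by
      have := congrArg (fun x : GL ι F => (x : Matrix ι ι F)) h
      simpa using this
    exact (show Commute (g : Matrix ι ι F) (u : Matrix ι ι F) from h2).sub_right
      (Commute.one_right _)
  · intro h
    have h2 : Commute (g : Matrix ι ι F) (u : Matrix ι ι F) := by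
      have := h.add_right (Commute.one_right (g : Matrix ι ι F))
      simpa using this
    apply Units.ext
    exact h2.eq

theorem card_centralizer_GL (u : GL ι F) :
    Nat.card ↥(Subgroup.centralizer ({u} : Set (GL ι F))) =
      Nat.card {g : (End F (ι → F))ˣ //
        Commute (g : End F (ι → F)) (Matrix.mulVecLin ((u : Matrix ι ι F) - 1))} :=
  Nat.card_congr (Equiv.subtypeEquiv glEquivEnd.toEquiv (fun g => mem_centralizer_iff_commute u g))

end Cfsg.Agent.Lib.Helper48
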