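import Mathlib

set_option autoImplicit false
set_option linter.unusedSectionVars false

namespace Cfsg.Agent.Lib.Helper48

open Module LinearMap

variable {K V : Type*} [Field K] [AddCommGroup V] [Module K V] [FiniteDimensional K V]

section Perp

variable (β : LinearMap.BilinForm K V)

/-- the part of `W` orthogonal to `x` -/
def perp1 (W : Submodule K V) (x : V) : Submodule K V := W ⊓ ker (β x)

theorem mem_perp1 (W : Submodule K V) (x w : V) : w ∈ perp1 β W x ↔ w ∈ W ∧ β x w = 0 := by
  simp [perp1]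

variable {β}

theorem finrank_perp1 {W : Submodule K V} {x : V} (hx : x ∈ W) (h1 : β x x = 1) {n : ℕ}
    (hW : finrank K W = n + 1) : finrank K (perp1 β W x) = n := by
  have hx0 : x ≠ 0 := by
    rintro rfl
    simp at h1
  have hinf : (K ∙ x) ⊓ perp1 β W x = ⊥ := by
    rw [eq_bot_iff]
    rintro w ⟨hw1, hw2⟩
    obtain ⟨c, rfl⟩ := Submodule.mem_span_singleton.1 hw1
    have h2 := ((mem_perp1 β W x _).1 hw2).2
    rw [map_smul, h1, smul_eq_mul, mul_one] at h2
    rw [h2, zero_smul]
    exact Submodule.zero_mem _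
  have hsup : (K ∙ x) ⊔ perp1 β W x = W := by
    apply le_antisymm
    · apply sup_le
      · rw [Submodule.span_singleton_le_iff_mem]; exact hx
      · exact inf_le_left
    · intro w hw
      have : w = β x w • x + (w - β x w • x) := by abel
      rw [this]
      apply Submodule.add_mem_sup
      · exact Submodule.smul_mem _ _ (Submodule.mem_span_singleton_self x)
      · rw [mem_perp1]
        refine ⟨W.sub_mem hw (W.smul_mem _ hx), ?_⟩
        rw [map_sub, map_smul, h1, smul_eq_mul, mul_one, sub_self]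
  have h := Submodule.finrank_sup_add_finrank_inf_eq (K ∙ x) (perp1 β W x)
  rw [hinf, hsup, finrank_bot, finrank_span_singleton hx0, hW] at h
  omega

theorem nondeg_perp1 (hs : ∀ u v, β u v = β v u) {W : Submodule K V} {x : V} (hx : x ∈ W)
    (h1 : β x x = 1) (hW : ∀ w ∈ W, w ≠ 0 → ∃ w' ∈ W, β w w' ≠ 0) :
    ∀ w ∈ perp1 β W x, w ≠ 0 → ∃ w' ∈ perp1 β W x, β w w' ≠ 0 := by
  intro w hw hw0
  obtain ⟨hwW, hxw⟩ := (mem_perp1 β W x w).1 hw
  obtain ⟨a, haW, ha⟩ := hW w hwW hw0
  refine ⟨a - β x a • x, ?_, ?_⟩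
  · rw [mem_perp1]
    refine ⟨W.sub_mem haW (W.smul_mem _ hx), ?_⟩
    rw [map_sub, map_smul, h1, smul_eq_mul, mul_one, sub_self]
  · rw [map_sub, map_smul, hs w x, hxw, smul_zero, sub_zero]
    exact ha

end Perp

/-- a nondegenerate, non alternating symmetric bilinear form over a perfect field of
characteristic two has an orthonormal basis -/
theorem exists_orthonormal_char_two [CharP K 2] (hK : ∀ c : K, IsSquare c)
    (β : LinearMap.BilinForm K V) (hs : ∀ u v, β u v = β v u) :
    ∀ (n : ℕ) (W : Submodule K V), finrank K W = n →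
      (∀ w ∈ W, w ≠ 0 → ∃ w' ∈ W, β w w' ≠ 0) → (∃ w ∈ W, β w w ≠ 0) →
      ∃ x : Fin n → V, (∀ i, x i ∈ W) ∧ ∀ i j, β (x i) (x j) = if i = j then 1 else 0 := by
  have h2 : (2 : K) = 0 := CharP.cast_eq_zero K 2
  intro n
  induction n with
  | zero =>
    intro W hW _ hna
    exfalso
    obtain ⟨w, hw, hww⟩ := hna
    rw [Submodule.finrank_eq_zero] at hW
    rw [hW, Submodule.mem_bot] at hw
    rw [hw] at hww
    simp at hww
  | succ n ih =>
    intro W hW hnd hna
    -- a good first vector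
    have key : ∃ x ∈ W, β x x = 1 ∧ (n = 0 ∨ ∃ w ∈ perp1 β W x, β w w ≠ 0) := by
      obtain ⟨w₀, hw₀, hww⟩ := hna
      obtain ⟨d, hd⟩ := hK (β w₀ w₀)
      have hd0 : d ≠ 0 := by
        rintro rfl
        rw [mul_zero] at hd
        exact hww hd
      have hx₀ : d⁻¹ • w₀ ∈ W := W.smul_mem _ hw₀
      have h1 : β (d⁻¹ • w₀) (d⁻¹ • w₀) = 1 := by
        simp only [map_smul, LinearMap.smul_apply, smul_eq_mul, hd]
        field_simp
      generalize d⁻¹ • w₀ = x₀ at hx₀ h1
      by_cases hn : n = 0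
      · exact ⟨x₀, hx₀, h1, Or.inl hn⟩
      by_cases hex : ∃ w ∈ perp1 β W x₀, β w w ≠ 0
      · exact ⟨x₀, hx₀, h1, Or.inr hex⟩
      push Not at hex
      have hfr := finrank_perp1 hx₀ h1 hW
      have hne : perp1 β W x₀ ≠ ⊥ := by
        intro hbot
        rw [hbot, finrank_bot] at hfr
        exact hn hfr.symm
      obtain ⟨u, hu, hu0⟩ := Submodule.exists_mem_ne_zero_of_ne_bot hne
      obtain ⟨w', hw', huw'⟩ := nondeg_perp1 hs hx₀ h1 hnd u hu hu0
      have hwm : (β u w')⁻¹ • w' ∈ perp1 β W x₀ := Submodule.smul_mem _ _ hw'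
      have huw : β u ((β u w')⁻¹ • w') = 1 := by
        rw [map_smul, smul_eq_mul, inv_mul_cancel₀ huw']
      generalize (β u w')⁻¹ • w' = w at hwm huw
      obtain ⟨huW, hxu⟩ := (mem_perp1 β W x₀ u).1 hu
      obtain ⟨hwW, hxw⟩ := (mem_perp1 β W x₀ w).1 hwm
      refine ⟨x₀ + u, W.add_mem hx₀ huW, ?_, Or.inr ⟨x₀ + w, ?_, ?_⟩⟩
      · simp only [map_add, LinearMap.add_apply]
        rw [h1, hxu, hs u x₀, hxu, hex u hu]
        ring
      · rw [mem_perp1]
        refine ⟨W.add_mem hx₀ hwW, ?_⟩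
        simp only [map_add, LinearMap.add_apply]
        rw [h1, hxw, hs u x₀, hxu, huw]
        linear_combination h2
      · simp only [map_add, LinearMap.add_apply]
        rw [h1, hxw, hs w x₀, hxw, hex w hwm]
        simp
    obtain ⟨x, hx, h1, hcase⟩ := key
    have hfr := finrank_perp1 hx h1 hW
    have hnd' := nondeg_perp1 hs hx h1 hnd
    rcases hcase with rfl | hna'
    · refine ⟨fun _ => x, fun _ => hx, fun i j => ?_⟩
      have hij : i = j := by
        have hi := i.2
        have hj := j.2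
        apply Fin.ext
        omega
      rw [if_pos hij]
      exact h1
    · obtain ⟨xs, hxs, hgram⟩ := ih (perp1 β W x) hfr hnd' hna'
      refine ⟨Fin.cons x xs, ?_, ?_⟩
      · intro i
        refine Fin.cases ?_ (fun i => ?_) i
        · exact hx
        · rw [Fin.cons_succ]
          exact ((mem_perp1 β W x _).1 (hxs i)).1
      · intro i j
        refine Fin.cases ?_ (fun i => ?_) i <;> refine Fin.cases ?_ (fun j => ?_) j
        · simpa using h1
        · rw [Fin.cons_zero, Fin.cons_succ, ((mem_perp1 β W x _).1 (hxs j)).2,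
            if_neg (Fin.succ_ne_zero j).symm]
        · rw [Fin.cons_zero, Fin.cons_succ, hs, ((mem_perp1 β W x _).1 (hxs i)).2,
            if_neg (Fin.succ_ne_zero i)]
        · rw [Fin.cons_succ, Fin.cons_succ, hgram]
          simp only [Fin.succ_inj]

end Cfsg.Agent.Lib.Helper48
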