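import Mathlib
import Cfsg.Agent.Lib.Helper48.SympInvol

set_option autoImplicit false
set_option linter.unusedSectionVars false

namespace Cfsg.Agent.Lib.Helper48

open Module LinearMap

variable {K V : Type*} [Field K] [CharP K 2] [AddCommGroup V] [Module K V] [FiniteDimensional K V]
variable {B : LinearMap.BilinForm K V} {N : End K V}

/-- orthonormal family for `(x, y) ↦ B x (N y)`, non alternating case -/
theorem exists_gram_nonalt (hK : ∀ c : K, IsSquare c) (hA : B.IsAlt)
    (hnd : ∀ x, (∀ y, B x y = 0) → x = 0)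
    (hadj : ∀ x y, B (N x) y = B x (N y)) (hna : ∃ v, B v (N v) ≠ 0) :
    ∃ x : Fin (finrank K (range N)) → V, ∀ a b, B (x a) (N (x b)) = if a = b then 1 else 0 := by
  have hrk := LinearMap.finrank_range_add_finrank_ker N
  obtain ⟨C, hC⟩ := Submodule.exists_isCompl (ker N)
  have hCdim : finrank K C = finrank K (range N) := by
    have := Submodule.finrank_add_eq_of_isCompl hC
    omega
  have hdec : ∀ a : V, ∃ c ∈ C, N a = N c := by
    intro a
    have ha : a ∈ ker N ⊔ C := by rw [hC.sup_eq_top]; exact Submodule.mem_top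
    obtain ⟨k, hk, c, hc, rfl⟩ := Submodule.mem_sup.1 ha
    exact ⟨c, hc, by rw [map_add, LinearMap.mem_ker.1 hk, zero_add]⟩
  have hs : ∀ u v, (B.compRight N) u v = (B.compRight N) v u := by
    intro u v
    rw [LinearMap.BilinForm.compRight_apply, LinearMap.BilinForm.compRight_apply, ← hadj,
      symm_of_isAlt_char_two hA]
  have hndC : ∀ w ∈ C, w ≠ 0 → ∃ w' ∈ C, (B.compRight N) w w' ≠ 0 := by
    intro u hu hu0
    have hNu : N u ≠ 0 := by
      intro h0
      exact hu0 (Submodule.disjoint_def.1 hC.disjoint u h0 hu)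
    obtain ⟨a, ha⟩ : ∃ a, B (N u) a ≠ 0 := by
      by_contra hcon
      push Not at hcon
      exact hNu (hnd _ hcon)
    obtain ⟨c, hc, hac⟩ := hdec a
    refine ⟨c, hc, ?_⟩
    rw [LinearMap.BilinForm.compRight_apply, ← hac, ← hadj]
    exact ha
  have hnaC : ∃ w ∈ C, (B.compRight N) w w ≠ 0 := by
    obtain ⟨v, hv⟩ := hna
    obtain ⟨c, hc, hvc⟩ := hdec v
    refine ⟨c, hc, ?_⟩
    rw [LinearMap.BilinForm.compRight_apply, ← hvc, ← hadj, ← hvc, hadj]
    exact hv
  obtain ⟨x, -, hx⟩ := exists_orthonormal_char_two hK (B.compRight N) hs _ C hCdim hndC hnaC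
  exact ⟨x, fun a b => by rw [← LinearMap.BilinForm.compRight_apply, hx]⟩

/-- symplectic family for `(x, y) ↦ B x (N y)`, alternating case -/
theorem exists_gram_alt (hA : B.IsAlt) (hnd : ∀ x, (∀ y, B x y = 0) → x = 0)
    (hadj : ∀ x y, B (N x) y = B x (N y)) (halt : ∀ v, B v (N v) = 0) :
    ∃ s : ℕ, 2 * s = finrank K (range N) ∧ ∃ x : Fin s ⊕ Fin s → V,
      ∀ a c, B (x a) (N (x c)) = if a.swap = c then 1 else 0 := by
  have hrk := LinearMap.finrank_range_add_finrank_ker N
  have hAβ : (B.compRight N).IsAlt := by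
    intro v
    rw [LinearMap.BilinForm.compRight_apply]
    exact halt v
  obtain ⟨s, k, b, h1, h2, h3, h4⟩ := Cfsg.Agent.S0752.result (B.compRight N) hAβ
  simp only [LinearMap.BilinForm.compRight_apply] at h1 h2 h3 h4
  let x : Fin s ⊕ Fin s → V := fun a => b (Sum.inl a)
  have hx : ∀ a c, B (x a) (N (x c)) = if Sum.swap a = c then 1 else 0 := by
    rintro (i | i) (j | j)
    · simp [x, h2]
    · simp [x, h1]
    · have : B (x (Sum.inr i)) (N (x (Sum.inl j))) = B (x (Sum.inl j)) (N (x (Sum.inr i))) := by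
        rw [← hadj, symm_of_isAlt_char_two hA]
      rw [this]
      simp [x, h1, eq_comm]
    · simp [x, h3]
  have hli := linearIndependent_of_gram (π := Sum.swap) Sum.swap_swap hx
  have hdim : finrank K V = 2 * s + k := by
    rw [Module.finrank_eq_card_basis b]
    simp only [Fintype.card_sum, Fintype.card_fin]
    ring
  have hle1 : 2 * s ≤ finrank K (range N) := by
    have h5 : Submodule.span K (Set.range (fun a => N (x a))) ≤ range N := by
      rw [Submodule.span_le]
      rintro _ ⟨a, rfl⟩
      exact ⟨x a, rfl⟩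
    have h6 := Submodule.finrank_mono h5
    rw [finrank_span_eq_card hli] at h6
    simp only [Fintype.card_sum, Fintype.card_fin] at h6
    omega
  have hle2 : k ≤ finrank K (ker N) := by
    have hli2 : LinearIndependent K (fun j : Fin k => b (Sum.inr j)) :=
      b.linearIndependent.comp _ Sum.inr_injective
    have h5 : Submodule.span K (Set.range (fun j : Fin k => b (Sum.inr j))) ≤ ker N := by
      rw [Submodule.span_le]
      rintro _ ⟨j, rfl⟩
      rw [SetLike.mem_coe, LinearMap.mem_ker]
      apply hnd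
      intro y
      rw [hadj]
      exact h4 j y
    have h6 := Submodule.finrank_mono h5
    rw [finrank_span_eq_card hli2, Fintype.card_fin] at h6
    exact h6
  exact ⟨s, by omega, x, hx⟩

end Cfsg.Agent.Lib.Helper48
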