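import Mathlib
import Cfsg.Agent.Lib.Helper48.SympInvol2
import Cfsg.Agent.Lib.Helper49.WittUse
import Cfsg.Agent.Lib.Helper49.InvolSplit

set_option autoImplicit false
set_option linter.unusedSectionVars false

namespace Cfsg.Agent.Lib.Helper48

open Module LinearMap QuadraticMap Cfsg.Agent.Lib.Helper49

variable {F V : Type*} [Field F] [AddCommGroup V] [Module F V] (Q : QuadraticForm F V)

section Sums

theorem Q_sum_orth {I : Type*} (s : Finset I) (f : I → V)
    (h : ∀ a b, polar Q (f a) (f b) = 0) : Q (∑ a ∈ s, f a) = ∑ a ∈ s, Q (f a) := by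
  classical
  induction s using Finset.induction_on with
  | empty => simp
  | insert a s ha ih =>
    rw [Finset.sum_insert ha, Finset.sum_insert ha, QuadraticMap.map_add Q, ih]
    have : polar Q (f a) (∑ b ∈ s, f b) = 0 := by
      rw [← polarBilin_apply_apply, map_sum]
      apply Finset.sum_eq_zero
      intro b _
      rw [polarBilin_apply_apply, h]
    rw [this, add_zero]

theorem Q_sum_smul_orth {I : Type*} (s : Finset I) (c : I → F) (e : I → V)
    (h : ∀ a b, polar Q (e a) (e b) = 0) :
    Q (∑ a ∈ s, c a • e a) = ∑ a ∈ s, c a * c a * Q (e a) := by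
  rw [Q_sum_orth Q s (fun a => c a • e a) (fun a b => by
    rw [polar_smul_left, polar_smul_right, h, smul_zero, smul_zero])]
  apply Finset.sum_congr rfl
  intro a _
  rw [QuadraticMap.map_smul, smul_eq_mul]

end Sums

section Witt

variable [Finite F] [FiniteDimensional F V]

/-- Witt's lemma for orthogonal frames -/
theorem witt_frame_OG (hQ : (polarBilin Q).Nondegenerate) {I : Type*} [Fintype I]
    (e e' : I → V) (hli : LinearIndependent F e) (hli' : LinearIndependent F e')
    (horth : ∀ a b, polar Q (e a) (e b) = 0) (horth' : ∀ a b, polar Q (e' a) (e' b) = 0)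
    (hQe : ∀ a, Q (e a) = Q (e' a)) : ∃ g : OG Q, ∀ a, g.1 (e a) = e' a := by
  let bx := Module.Basis.span hli
  let by' := Module.Basis.span hli'
  let φ := bx.equiv by' (Equiv.refl I)
  have hbx : ∀ i, ((bx i : _) : V) = e i := fun i =>
    congrArg Subtype.val (Module.Basis.span_apply hli i)
  have hby : ∀ i, ((by' i : _) : V) = e' i := fun i =>
    congrArg Subtype.val (Module.Basis.span_apply hli' i)
  obtain ⟨g, hg⟩ := witt_OG Q hQ _ _ φ (by
    intro y
    have h1 : (y : V) = ∑ a, bx.repr y a • e a := by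
      calc (y : V) = ((∑ a, bx.repr y a • bx a : Submodule.span F (Set.range e)) : V) := by
            rw [bx.sum_repr]
        _ = ∑ a, bx.repr y a • e a := by
            rw [Submodule.coe_sum]
            simp only [Submodule.coe_smul, hbx]
    have h2 : ((φ y : _) : V) = ∑ a, bx.repr y a • e' a := by
      calc ((φ y : _) : V) = ((φ (∑ a, bx.repr y a • bx a) : _) : V) := by
            rw [bx.sum_repr]
        _ = ∑ a, bx.repr y a • e' a := by
            rw [map_sum, Submodule.coe_sum]
            simp only [map_smul, Submodule.coe_smul, φ, Module.Basis.equiv_apply,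
              Equiv.refl_apply, hby]
    rw [h1, h2, Q_sum_smul_orth Q _ _ _ horth, Q_sum_smul_orth Q _ _ _ horth']
    apply Finset.sum_congr rfl
    intro a _
    rw [hQe])
  refine ⟨g, fun a => ?_⟩
  have := hg (bx a)
  rw [hbx] at this
  rw [this]
  simp [φ, hby]

end Witt

section Invol

variable [CharP F 2]

theorem polarBilin_isAlt : (polarBilin Q).IsAlt := by
  intro x
  rw [polarBilin_apply_apply, polar_self]
  have h2 : (2 : F) = 0 := CharP.cast_eq_zero F 2
  rw [nsmul_eq_mul]
  simp [h2]

variable {Q}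

theorem OG_apply_apply {t : OG Q} (ht : t * t = 1) (x : V) : t.1 (t.1 x) = x := by
  rw [← LinearEquiv.mul_apply, ← Subgroup.coe_mul, ht]; rfl

theorem dOG_sq {t : OG Q} (ht : t * t = 1) : (dOG Q t : End F V) * dOG Q t = 0 := by
  apply LinearMap.ext
  intro x
  exact dOG_dOG_of_involution Q (CharP.cast_eq_zero F 2) t ht x

theorem dOG_adj {t : OG Q} (ht : t * t = 1) (x y : V) :
    polarBilin Q (dOG Q t x) y = polarBilin Q x (dOG Q t y) := by
  simp only [polarBilin_apply_apply, dOG_apply, polar_sub_left, polar_sub_right]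
  congr 1
  conv_lhs => rw [← OG_apply_apply ht y]
  rw [OG_polar]

theorem Q_dOG (t : OG Q) (x : V) : Q (dOG Q t x) = polarBilin Q x (dOG Q t x) := by
  have h2 : (2 : F) = 0 := CharP.cast_eq_zero F 2
  have h1 : Q (t.1 x) = Q x := OG_apply Q t x
  have h3 : t.1 x = x + dOG Q t x := by rw [dOG_apply]; abel
  rw [h3, QuadraticMap.map_add Q] at h1
  rw [polarBilin_apply_apply]
  have h4 : polar Q x (dOG Q t x) + polar Q x (dOG Q t x) = 0 := by
    rw [← two_mul, h2, zero_mul]
  linear_combination h1 - h4

theorem OG_apply_eq (t : OG Q) (x : V) : t.1 x = x + dOG Q t x := by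
  rw [dOG_apply]; abel

variable [Finite F] [FiniteDimensional F V]

/-- involutions with the same Gram data are conjugate -/
theorem exists_conj_of_gram (hQ : (polarBilin Q).Nondegenerate) {I : Type*} [Fintype I]
    [DecidableEq I] (π : I → I) (hπ : Function.Involutive π) (t s : OG Q) (ht : t * t = 1)
    (hs : s * s = 1) (x x' : I → V)
    (hx : ∀ a b, polarBilin Q (x a) (dOG Q t (x b)) = if π a = b then 1 else 0)
    (hx' : ∀ a b, polarBilin Q (x' a) (dOG Q s (x' b)) = if π a = b then 1 else 0)
    (hcard : Fintype.card I = finrank F (range (dOG Q t)))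
    (hcard' : Fintype.card I = finrank F (range (dOG Q s))) :
    ∃ g : OG Q, g * t * g⁻¹ = s := by
  have hA := polarBilin_isAlt Q
  obtain ⟨g, hg⟩ := witt_frame_OG Q hQ (fun a => dOG Q t (x a)) (fun a => dOG Q s (x' a))
    (linearIndependent_of_gram (N := dOG Q t) hπ hx)
    (linearIndependent_of_gram (N := dOG Q s) hπ hx')
    (fun a b => isotropic_of_sq_zero (B := polarBilin Q) (dOG_sq ht) (dOG_adj ht) _ _)
    (fun a b => isotropic_of_sq_zero (B := polarBilin Q) (dOG_sq hs) (dOG_adj hs) _ _)
    (fun a => by rw [Q_dOG, Q_dOG, hx, hx'])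
  refine ⟨g, ?_⟩
  rw [mul_inv_eq_iff_eq_mul]
  apply Subtype.ext
  apply LinearEquiv.ext
  intro v
  simp only [Subgroup.coe_mul, LinearEquiv.mul_apply]
  rw [OG_apply_eq t, OG_apply_eq s, map_add]
  congr 1
  rw [apply_eq_sum_of_gram (N := dOG Q t) hA (dOG_adj ht) hπ hx hcard v,
    apply_eq_sum_of_gram (N := dOG Q s) hA (dOG_adj hs) hπ hx' hcard' (g.1 v), map_sum]
  apply Finset.sum_congr rfl
  intro a _
  rw [map_smul, hg, ← hg a, polarBilin_apply_apply, polarBilin_apply_apply, OG_polar]

/-- classification of involutions of an orthogonal group in characteristic two -/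
theorem exists_conj_OG_iff (hQ : (polarBilin Q).Nondegenerate) (t s : OG Q) (ht : t * t = 1)
    (hs : s * s = 1) :
    (∃ g : OG Q, g * t * g⁻¹ = s) ↔
      (finrank F (range (dOG Q t)) = finrank F (range (dOG Q s)) ∧
        ((∀ v, polar Q v (dOG Q t v) = 0) ↔ (∀ v, polar Q v (dOG Q s v) = 0))) := by
  have hK : ∀ c : F, IsSquare c := by
    have := Fintype.ofFinite F
    exact FiniteField.isSquare_of_char_two (ringChar.eq F 2)
  have hA := polarBilin_isAlt Q
  constructor
  · rintro ⟨g, rfl⟩
    have hgg : ∀ v, g.1 (g⁻¹.1 v) = v := by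
      intro v
      rw [← LinearEquiv.mul_apply, ← Subgroup.coe_mul, mul_inv_cancel]; rfl
    have hd : ∀ v, dOG Q (g * t * g⁻¹) (g.1 v) = g.1 (dOG Q t v) := by
      intro v
      have hgg' : g⁻¹.1 (g.1 v) = v := by
        rw [← LinearEquiv.mul_apply, ← Subgroup.coe_mul, inv_mul_cancel]; rfl
      simp only [dOG_apply, Subgroup.coe_mul, LinearEquiv.mul_apply, map_sub, hgg']
    constructor
    · rw [range_dOG_conj]
      exact (LinearEquiv.finrank_map_eq g.1 _).symm
    · constructor
      · intro h v
        rw [← hgg v, hd, OG_polar]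
        exact h _
      · intro h v
        rw [← OG_polar Q g, ← hd]
        exact h _
  · rintro ⟨hrank, halt⟩
    by_cases hT : ∀ v, polar Q v (dOG Q t v) = 0
    · obtain ⟨k, hk, x, hx⟩ := exists_gram_alt (B := polarBilin Q) (N := dOG Q t) hA hQ.1
        (dOG_adj ht) hT
      obtain ⟨k', hk', x', hx'⟩ := exists_gram_alt (B := polarBilin Q) (N := dOG Q s) hA hQ.1
        (dOG_adj hs) (halt.1 hT)
      obtain rfl : k = k' := by omega
      exact exists_conj_of_gram hQ Sum.swap Sum.swap_swap t s ht hs x x' hx hx'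
        (by simp only [Fintype.card_sum, Fintype.card_fin]; omega)
        (by simp only [Fintype.card_sum, Fintype.card_fin]; omega)
    · have hS : ¬ ∀ v, polar Q v (dOG Q s v) = 0 := fun h => hT (halt.2 h)
      push Not at hT hS
      obtain ⟨x, hx⟩ := exists_gram_nonalt (B := polarBilin Q) (N := dOG Q t) hK hA hQ.1
        (dOG_adj ht) hT
      obtain ⟨x', hx'⟩ := exists_gram_nonalt (B := polarBilin Q) (N := dOG Q s) hK hA hQ.1
        (dOG_adj hs) hS
      generalize hr : finrank F (range (dOG Q t)) = r at hrank x hx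
      subst hrank
      exact exists_conj_of_gram hQ _root_.id (fun _ => rfl) t s ht hs x x' hx hx'
        (by rw [Fintype.card_fin, hr]) (by rw [Fintype.card_fin])

end Invol

end Cfsg.Agent.Lib.Helper48
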