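import Mathlib
import Cfsg.Agent.Lib.Helper48.OrthInvol
import Cfsg.Agent.Lib.Helper49.Transfer

set_option autoImplicit false
set_option linter.unusedSectionVars false

namespace Cfsg.Agent.Lib.Helper48

open Module LinearMap QuadraticMap Cfsg.Agent.Lib.Helper49

section Abstract

variable {F V : Type*} [Field F] [AddCommGroup V] [Module F V] {Q : QuadraticForm F V}

theorem invariants_of_polar_conj (t s : OG Q) (G : V ≃ₗ[F] V)
    (hG : ∀ u v, polar Q (G u) (G v) = polar Q u v) (hconj : ∀ v, G (t.1 v) = s.1 (G v)) :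
    finrank F (range (dOG Q t)) = finrank F (range (dOG Q s)) ∧
      ((∀ v, polar Q v (dOG Q t v) = 0) ↔ (∀ v, polar Q v (dOG Q s v) = 0)) := by
  have hd : ∀ v, dOG Q s (G v) = G (dOG Q t v) := by
    intro v
    rw [dOG_apply, dOG_apply, map_sub, hconj]
  constructor
  · have hr : range (dOG Q s) = (range (dOG Q t)).map (G : V →ₗ[F] V) := by
      ext y
      constructor
      · rintro ⟨x, rfl⟩
        refine ⟨dOG Q t (G.symm x), ⟨_, rfl⟩, ?_⟩
        rw [LinearEquiv.coe_coe, ← hd, LinearEquiv.apply_symm_apply]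
      · rintro ⟨_, ⟨x, rfl⟩, rfl⟩
        exact ⟨G x, by rw [hd]; rfl⟩
    rw [hr]
    exact (LinearEquiv.finrank_map_eq G _).symm
  · constructor
    · intro h v
      rw [← G.apply_symm_apply v, hd, hG]
      exact h _
    · intro h v
      rw [← hG, ← hd]
      exact h _

end Abstract

section Count

/-- counting conjugacy classes by a complete invariant given as a relation -/
theorem card_classes_of_relation {G : Type*} [Group G] {L : Type*} [Fintype L] (P : G → Prop)
    (R : G → L → Prop) (htot : ∀ a, P a → ∃ l, R a l)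
    (hconj : ∀ a b l l', P a → P b → R a l → R b l' → (IsConj a b ↔ l = l'))
    (hsurj : ∀ l, ∃ a, P a ∧ R a l) :
    Nat.card {C : ConjClasses G // ∃ g : G, ConjClasses.mk g = C ∧ P g} = Fintype.card L := by
  choose rep hP hR using hsurj
  let Φ : L → {C : ConjClasses G // ∃ g : G, ConjClasses.mk g = C ∧ P g} :=
    fun l => ⟨ConjClasses.mk (rep l), rep l, rfl, hP l⟩
  have hbij : Function.Bijective Φ := by
    constructor
    · intro l l' h
      have hc : IsConj (rep l) (rep l') :=
        ConjClasses.mk_eq_mk_iff_isConj.1 (congrArg Subtype.val h)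
      exact (hconj _ _ l l' (hP l) (hP l') (hR l) (hR l')).1 hc
    · rintro ⟨_, g, rfl, hg⟩
      obtain ⟨l, hl⟩ := htot g hg
      refine ⟨l, ?_⟩
      apply Subtype.ext
      apply ConjClasses.mk_eq_mk_iff_isConj.2
      exact (hconj _ _ l l (hP l) hg (hR l) hl).2 rfl
  rw [← Nat.card_congr (Equiv.ofBijective Φ hbij), Nat.card_eq_fintype_card]

end Count

section Mat

variable {ι : Type} [Fintype ι] [DecidableEq ι] {F : Type*} [Field F]
variable (Q : QuadraticForm F (ι → F))

theorem isConj_iff_exists_OG (t s : ↥(Cfsg.isometryGroup F ⇑Q)) :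
    IsConj t s ↔ ∃ k : OG Q, k * isoEquiv Q t * k⁻¹ = isoEquiv Q s := by
  rw [isConj_iff]
  constructor
  · rintro ⟨c, rfl⟩
    exact ⟨isoEquiv Q c, by simp⟩
  · rintro ⟨k, hk⟩
    refine ⟨(isoEquiv Q).symm k, ?_⟩
    apply (isoEquiv Q).injective
    simp [hk]

theorem isoEquiv_mul_self {t : ↥(Cfsg.isometryGroup F ⇑Q)} (ht : orderOf t = 2) :
    isoEquiv Q t * isoEquiv Q t = 1 := by
  rw [← map_mul, ← pow_two, ← ht, pow_orderOf_eq_one, map_one]

variable [Finite F] [CharP F 2]

/-- involutions of an orthogonal group in characteristic two are conjugate if and only if they are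
conjugate in the symplectic group of the polar form -/
theorem isConj_iff_polar_conj (hQ : (polarBilin Q).Nondegenerate)
    (t s : ↥(Cfsg.isometryGroup F ⇑Q)) (ht : orderOf t = 2) (hs : orderOf s = 2) :
    IsConj t s ↔ ∃ g ∈ Cfsg.preserving (Units.coeHom (Matrix ι ι F))
      (fun u v => Q (u + v) - Q u - Q v),
      g * (t : Matrix.GeneralLinearGroup ι F) * g⁻¹ = (s : Matrix.GeneralLinearGroup ι F) := by
  constructor
  · intro h
    obtain ⟨c, hc⟩ := isConj_iff.1 h
    refine ⟨c.1, ?_, ?_⟩
    · intro u v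
      have hcQ : ∀ w, Q (Matrix.mulVec ((c : Matrix.GeneralLinearGroup ι F) : Matrix ι ι F) w) =
          Q w := fun w => c.2 w w
      change Q (Matrix.mulVec ((c : Matrix.GeneralLinearGroup ι F) : Matrix ι ι F) u +
        Matrix.mulVec ((c : Matrix.GeneralLinearGroup ι F) : Matrix ι ι F) v) -
        Q (Matrix.mulVec ((c : Matrix.GeneralLinearGroup ι F) : Matrix ι ι F) u) -
        Q (Matrix.mulVec ((c : Matrix.GeneralLinearGroup ι F) : Matrix ι ι F) v) = _
      rw [← Matrix.mulVec_add, hcQ, hcQ, hcQ]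
    · rw [← hc]; rfl
  · rintro ⟨g, hg, hgt⟩
    rw [isConj_iff_exists_OG,
      exists_conj_OG_iff hQ _ _ (isoEquiv_mul_self Q ht) (isoEquiv_mul_self Q hs)]
    apply invariants_of_polar_conj _ _ (glEquiv ι F g)
    · intro u v
      exact hg u v
    · intro v
      have h1 : g * (t : Matrix.GeneralLinearGroup ι F) = (s : Matrix.GeneralLinearGroup ι F) * g := by
        rw [← hgt]; group
      have h2 := congrArg (fun x : Matrix.GeneralLinearGroup ι F => glEquiv ι F x v) h1
      simp only [map_mul, LinearEquiv.mul_apply] at h2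
      exact h2

end Mat

end Cfsg.Agent.Lib.Helper48
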