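import Mathlib
import Cfsg.Agent.Lib.Helper48.JordanConj
import Cfsg.Agent.Lib.Helper48.GLTransfer
import Cfsg.Agent.Lib.Helper48.OrthInvolMat

set_option autoImplicit false
set_option linter.unusedSectionVars false

namespace Cfsg.Agent.Lib.Helper48

open Module LinearMap Polynomial

universe u

variable {F : Type u} [Field F]

section Abs

variable {V : Type u} [AddCommGroup V] [Module F V] [FiniteDimensional F V]

theorem isConj_units_iff (a b : (End F V)ˣ) :
    IsConj a b ↔ ∃ φ : V ≃ₗ[F] V, ∀ x, φ ((a : End F V) x) = (b : End F V) (φ x) := by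
  rw [isConj_iff]
  constructor
  · rintro ⟨c, hc⟩
    refine ⟨LinearMap.GeneralLinearGroup.generalLinearEquiv F V c, ?_⟩
    intro x
    have h : c * a = b * c := by rw [← hc]; group
    have h' := congrArg (fun w : (End F V)ˣ => (w : End F V) x) h
    simpa using h'
  · rintro ⟨φ, hφ⟩
    refine ⟨(LinearMap.GeneralLinearGroup.generalLinearEquiv F V).symm φ, ?_⟩
    rw [mul_inv_eq_iff_eq_mul]
    apply Units.ext
    apply LinearMap.ext
    intro x
    exact hφ x

theorem intertwine_sub_one {a b : End F V} (φ : V ≃ₗ[F] V) (h : ∀ x, φ (a x) = b (φ x)) (x : V) :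
    φ ((a - 1) x) = (b - 1) (φ x) := by
  simp only [LinearMap.sub_apply, Module.End.one_apply, map_sub, h]

theorem isConj_units_iff_jtype (a b : (End F V)ˣ) {μ ν : Multiset ℕ}
    (ha : JType ((a : End F V) - 1) μ) (hb : JType ((b : End F V) - 1) ν)
    (hNa : IsNilpotent ((a : End F V) - 1)) (hNb : IsNilpotent ((b : End F V) - 1))
    (hμ : ∀ i ∈ μ, 1 ≤ i) (hν : ∀ i ∈ ν, 1 ≤ i) : IsConj a b ↔ μ = ν := by
  rw [isConj_units_iff]
  constructor
  · rintro ⟨φ, hφ⟩
    exact (ha.of_intertwine φ (intertwine_sub_one φ hφ)).unique hb hμ hν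
  · rintro rfl
    obtain ⟨φ, hφ⟩ := ha.exists_equiv hb hNa hNb
    refine ⟨φ, fun x => ?_⟩
    have := hφ x
    simp only [LinearMap.sub_apply, Module.End.one_apply, map_sub] at this
    exact sub_left_injective this

theorem sum_min_eq_sum_iff (μ : Multiset ℕ) (k : ℕ) :
    (μ.map (fun a => min a k)).sum ≤ μ.sum ∧
      ((μ.map (fun a => min a k)).sum = μ.sum ↔ ∀ a ∈ μ, a ≤ k) := by
  induction μ using Multiset.induction_on with
  | empty => simp
  | cons a μ ih =>
    simp only [Multiset.map_cons, Multiset.sum_cons, Multiset.mem_cons, forall_eq_or_imp]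
    obtain ⟨h1, h2⟩ := ih
    refine ⟨by omega, ?_⟩
    rw [← h2]
    omega

theorem JType.pow_eq_zero_iff {N : End F V} {μ : Multiset ℕ} (h : JType N μ)
    (hN : IsNilpotent N) (k : ℕ) : N ^ k = 0 ↔ ∀ a ∈ μ, a ≤ k := by
  rw [pow_eq_zero_iff_finrank_ker, h k, ← h.sum_eq hN]
  exact (sum_min_eq_sum_iff μ k).2

end Abs

section Exist

theorem exists_nilpotent_of_space {V : Type*} [AddCommGroup V] [Module F V]
    [FiniteDimensional F V] {μ : Multiset ℕ} (N : End F V) (hN : IsNilpotent N) (hJ : JType N μ) :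
    ∃ (n : ℕ) (N' : End F (Fin n → F)), IsNilpotent N' ∧ JType N' μ := by
  let e : V ≃ₗ[F] (Fin (finrank F V) → F) := (Module.finBasis F V).equivFun
  let N' : End F (Fin (finrank F V) → F) := (e : V →ₗ[F] _) ∘ₗ N ∘ₗ (e.symm : _ →ₗ[F] V)
  have hint : ∀ x, e (N x) = N' (e x) := by
    intro x
    change e (N x) = e (N (e.symm (e x)))
    rw [e.symm_apply_apply]
  refine ⟨_, N', ?_, hJ.of_intertwine e hint⟩
  obtain ⟨k, hk⟩ := hN
  refine ⟨k, ?_⟩
  apply LinearMap.ext
  intro y
  have := intertwine_pow e N N' hint k (e.symm y)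
  rw [e.apply_symm_apply, hk] at this
  rw [← this]
  simp

theorem exists_nilpotent_jtype (μ : Multiset ℕ) :
    ∃ (n : ℕ) (N : End F (Fin n → F)), IsNilpotent N ∧ JType N μ := by
  induction μ using Multiset.induction_on with
  | empty =>
    refine ⟨0, 0, IsNilpotent.zero, ?_⟩
    intro k
    have := Submodule.finrank_le (ker ((0 : End F (Fin 0 → F)) ^ k))
    have h0 : finrank F (Fin 0 → F) = 0 := by simp
    simp only [Multiset.map_zero, Multiset.sum_zero]
    omega
  | cons a μ ih =>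
    obtain ⟨n, N, hN, hJ⟩ := ih
    apply exists_nilpotent_of_space (LinearMap.prodMap (shiftEnd F a) N :
      End F ((Fin a → F) × (Fin n → F)))
    · obtain ⟨k, hk⟩ := hN
      refine ⟨a + k, ?_⟩
      rw [prodMap_pow', pow_eq_zero_of_le (Nat.le_add_right _ _) shiftEnd_pow,
        pow_eq_zero_of_le (Nat.le_add_left _ _) hk]
      apply LinearMap.ext
      rintro ⟨x, y⟩
      rfl
    · rw [← Multiset.singleton_add]
      exact (jtype_shiftEnd a).prodMap hJ

theorem exists_unit_jtype {n : ℕ} (μ : Multiset ℕ) (hμ : μ.sum = n) :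
    ∃ a : (End F (Fin n → F))ˣ, IsNilpotent ((a : End F (Fin n → F)) - 1) ∧
      JType ((a : End F (Fin n → F)) - 1) μ := by
  obtain ⟨n', N, hN, hJ⟩ := exists_nilpotent_jtype (F := F) μ
  have : n' = n := by
    have := hJ.sum_eq hN
    rw [finrank_fin_fun] at this
    omega
  subst this
  obtain ⟨a, ha⟩ := IsNilpotent.isUnit_one_add hN
  refine ⟨a, ?_, ?_⟩ <;> rw [ha, add_sub_cancel_left]
  · exact hN
  · exact hJ

end Exist

section Order

variable {V : Type*} [AddCommGroup V] [Module F V] (p : ℕ) [Fact p.Prime] [CharP F p]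

theorem sub_one_pow_char_pow (A : End F V) (k : ℕ) : (A - 1) ^ (p ^ k) = A ^ (p ^ k) - 1 := by
  have h : ((X : F[X]) - 1) ^ (p ^ k) = X ^ (p ^ k) - 1 := by rw [sub_pow_char_pow, one_pow]
  have := congrArg (aeval A) h
  simpa using this

theorem units_pow_eq_one_iff (a : (End F V)ˣ) (k : ℕ) :
    a ^ (p ^ k) = 1 ↔ ((a : End F V) - 1) ^ (p ^ k) = 0 := by
  rw [sub_one_pow_char_pow, sub_eq_zero, ← Units.val_pow_eq_pow_val, Units.val_eq_one]

theorem exists_orderOf_eq_pow_iff (a : (End F V)ˣ) :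
    (∃ k, orderOf a = p ^ k) ↔ IsNilpotent ((a : End F V) - 1) := by
  constructor
  · rintro ⟨k, hk⟩
    exact ⟨p ^ k, (units_pow_eq_one_iff p a k).1 (by rw [← hk]; exact pow_orderOf_eq_one a)⟩
  · rintro ⟨m, hm⟩
    have h1 : a ^ (p ^ m) = 1 := (units_pow_eq_one_iff p a m).2
      (pow_eq_zero_of_le (Nat.lt_pow_self (Fact.out : p.Prime).one_lt).le hm)
    obtain ⟨k, -, hk⟩ := (Nat.dvd_prime_pow (Fact.out : p.Prime)).1 (orderOf_dvd_of_pow_eq_one h1)
    exact ⟨k, hk⟩

theorem orderOf_eq_prime_iff' (a : (End F V)ˣ) :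
    orderOf a = p ↔ ((a : End F V) - 1) ^ p = 0 ∧ ((a : End F V) - 1) ^ 1 ≠ 0 := by
  have h1 := units_pow_eq_one_iff p a 1
  rw [pow_one] at h1
  have h2 : a = 1 ↔ ((a : End F V) - 1) ^ 1 = 0 := by
    rw [pow_one, sub_eq_zero, Units.val_eq_one]
  rw [← h1, Ne, ← h2]
  constructor
  · intro h
    refine ⟨by rw [← h]; exact pow_orderOf_eq_one a, ?_⟩
    rintro rfl
    rw [orderOf_one] at h
    exact (Fact.out : p.Prime).one_lt.ne h
  · rintro ⟨h3, h4⟩
    exact orderOf_eq_prime h3 h4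

end Order

end Cfsg.Agent.Lib.Helper48
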