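import Mathlib
import Cfsg.Agent.Lib.Helper48.AlgEmb
import Cfsg.Agent.Lib.Helper48.JordanGL

set_option autoImplicit false
set_option linter.unusedSectionVars false

namespace Cfsg.Agent.Lib.Helper48

open Module Polynomial

theorem exists_units_orderOf_eq (K : Type*) [Field K] [Finite K] :
    ∃ x : Kˣ, orderOf x = Nat.card K - 1 := by
  classical
  have := Fintype.ofFinite K
  obtain ⟨x, hx⟩ := IsCyclic.exists_generator (α := Kˣ)
  refine ⟨x, ?_⟩
  rw [orderOf_eq_card_of_forall_mem_zpowers hx, Nat.card_eq_fintype_card, Fintype.card_units,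
    Nat.card_eq_fintype_card]

section Fin

variable {F : Type*} [Field F] [Finite F]

/-- Singer cycles of a block. -/
theorem exists_GL_orderOf_singer (n d : ℕ) (hd : 1 ≤ d) (hdn : d ≤ n) :
    ∃ g : GL (Fin n) F, orderOf g = Nat.card F ^ d - 1 := by
  obtain ⟨p, hp⟩ := CharP.exists F
  have : Fact p.Prime := ⟨CharP.char_is_prime F p⟩
  have : NeZero d := ⟨by omega⟩
  obtain ⟨φ, hφ⟩ := exists_injective_units_hom (F := F) (FiniteField.Extension F p d) n
    (by rw [FiniteField.finrank_extension]; exact hdn)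
  obtain ⟨x, hx⟩ := exists_units_orderOf_eq (FiniteField.Extension F p d)
  refine ⟨φ x, ?_⟩
  rw [orderOf_injective φ hφ, hx, FiniteField.natCard_extension]

theorem exists_GL_orderOf_pair (n d e : ℕ) (hd : 1 ≤ d) (he : 1 ≤ e) (hdn : d + e ≤ n) :
    ∃ g : GL (Fin n) F, orderOf g = Nat.lcm (Nat.card F ^ d - 1) (Nat.card F ^ e - 1) := by
  obtain ⟨p, hp⟩ := CharP.exists F
  have : Fact p.Prime := ⟨CharP.char_is_prime F p⟩
  have : NeZero d := ⟨by omega⟩
  have : NeZero e := ⟨by omega⟩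
  obtain ⟨φ, hφ⟩ := exists_injective_units_hom (F := F)
    (FiniteField.Extension F p d × FiniteField.Extension F p e) n
    (by rw [finrank_prod, FiniteField.finrank_extension, FiniteField.finrank_extension]; exact hdn)
  obtain ⟨x, hx⟩ := exists_units_orderOf_eq (FiniteField.Extension F p d)
  obtain ⟨y, hy⟩ := exists_units_orderOf_eq (FiniteField.Extension F p e)
  refine ⟨φ (MulEquiv.prodUnits.symm (x, y)), ?_⟩
  rw [orderOf_injective φ hφ, MulEquiv.orderOf_eq, Prod.orderOf_mk, hx, hy,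
    FiniteField.natCard_extension, FiniteField.natCard_extension]

end Fin

section Unip

universe u

variable {F : Type u} [Field F] (p : ℕ) [Fact p.Prime] [CharP F p]

/-- the regular unipotent element has order the least power of `p` that is at least `n` -/
theorem exists_GL_orderOf_unip (n : ℕ) : ∃ g : GL (Fin n) F, orderOf g = p ^ Nat.clog p n := by
  have hp : p.Prime := Fact.out
  obtain ⟨a, hN, hJ⟩ := exists_unit_jtype (F := F) (n := n) {n} (by simp)
  have key : ∀ k, a ^ (p ^ k) = 1 ↔ n ≤ p ^ k := by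
    intro k
    rw [units_pow_eq_one_iff, hJ.pow_eq_zero_iff hN]
    simp
  refine ⟨glEquivEnd.symm a, ?_⟩
  rw [MulEquiv.orderOf_eq]
  have h1 : orderOf a ∣ p ^ Nat.clog p n :=
    orderOf_dvd_of_pow_eq_one ((key _).2 (Nat.le_pow_clog hp.one_lt n))
  obtain ⟨j, hj, hj2⟩ := (Nat.dvd_prime_pow hp).1 h1
  have h2 : n ≤ p ^ j := (key j).1 (by rw [← hj2]; exact pow_orderOf_eq_one a)
  have h3 : Nat.clog p n ≤ j := Nat.clog_le_of_le_pow h2
  rw [hj2, le_antisymm hj h3]

/-- `p`-power element orders of `GL_n` divide the order of the regular unipotent element -/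
theorem pow_dvd_of_orderOf_GL_eq (n e : ℕ) (g : GL (Fin n) F) (hg : orderOf g = p ^ e) :
    p ^ e ∣ p ^ Nat.clog p n := by
  have hp : p.Prime := Fact.out
  rw [← hg, ← MulEquiv.orderOf_eq glEquivEnd g]
  set a := glEquivEnd g with ha
  have h1 : a ^ (p ^ e) = 1 := by
    rw [← hg, ← MulEquiv.orderOf_eq glEquivEnd g]
    exact pow_orderOf_eq_one a
  have h2 : ((a : End F (Fin n → F)) - 1) ^ (p ^ e) = 0 := (units_pow_eq_one_iff p a e).1 h1
  have hN : IsNilpotent ((a : End F (Fin n → F)) - 1) := ⟨_, h2⟩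
  obtain ⟨μ, hμ, hJ⟩ := exists_jtype n (Fin n → F) _ finrank_fin_fun hN
  apply orderOf_dvd_of_pow_eq_one
  rw [units_pow_eq_one_iff, hJ.pow_eq_zero_iff hN]
  intro b hb
  have h3 : b ≤ μ.sum := Multiset.single_le_sum (fun _ _ => Nat.zero_le _) b hb
  rw [hJ.sum_eq hN, finrank_fin_fun] at h3
  exact h3.trans (Nat.le_pow_clog hp.one_lt n)

end Unip

section Semi

variable {F : Type*} [Field F] [Fintype F]

/-- an element of `GL_n(q)` of prime power order `r^e`, `r` not the characteristic: `r^e` divides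
`q^d - 1` for some `1 ≤ d ≤ n`. -/
theorem exists_dvd_pow_sub_one_of_orderOf_GL (p : ℕ) [Fact p.Prime] [CharP F p] (n r e : ℕ)
    (hr : r.Prime) (hrp : r ≠ p) (he : e ≠ 0) (g : GL (Fin n) F) (hg : orderOf g = r ^ e) :
    ∃ d, 1 ≤ d ∧ d ≤ n ∧ r ^ e ∣ Fintype.card F ^ d - 1 := by
  classical
  have hp : p.Prime := Fact.out
  have : Fact r.Prime := ⟨hr⟩
  obtain ⟨k, rfl⟩ : ∃ k, e = k + 1 := ⟨e - 1, by omega⟩
  obtain ⟨f, hf⟩ : ∃ f : ℕ, Fintype.card F = p ^ f := by
    obtain ⟨f, -, hf⟩ := FiniteField.card F p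
    exact ⟨f, hf⟩
  set M : Matrix (Fin n) (Fin n) F := (g : Matrix (Fin n) (Fin n) F) with hM
  have hpow : ∀ j : ℕ, M ^ j = 1 ↔ g ^ j = 1 := by
    intro j
    rw [hM, ← Units.val_pow_eq_pow_val, Units.val_eq_one]
  have h1 : M ^ (r ^ (k + 1)) = 1 := (hpow _).2 (by rw [← hg]; exact pow_orderOf_eq_one g)
  have h2 : M ^ (r ^ k) ≠ 1 := by
    intro h
    have := orderOf_dvd_of_pow_eq_one ((hpow _).1 h)
    rw [hg] at this
    have := (Nat.pow_dvd_pow_iff_le_right hr.one_lt).1 this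
    omega
  have hmin : minpoly F M ∣ cyclotomic (r ^ (k + 1)) F * (X ^ r ^ k - 1) := by
    rw [cyclotomic_prime_pow_mul_X_pow_sub_one]
    apply minpoly.dvd
    simp [h1]
  have hnc : ¬ IsCoprime (minpoly F M) (cyclotomic (r ^ (k + 1)) F) := by
    intro hc
    have h3 : minpoly F M ∣ X ^ r ^ k - 1 := hc.dvd_of_dvd_mul_left hmin
    obtain ⟨c, hc⟩ := h3
    have h4 := congrArg (aeval M) hc
    rw [map_mul, minpoly.aeval, zero_mul] at h4
    apply h2
    simpa [sub_eq_zero] using h4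
  obtain ⟨P, hPirr, hP1, hP2⟩ : ∃ P : F[X], Irreducible P ∧ P ∣ minpoly F M ∧
      P ∣ cyclotomic (r ^ (k + 1)) F := by
    by_contra hcon
    push Not at hcon
    apply hnc
    apply isCoprime_of_irreducible_dvd
    · rintro ⟨-, h0⟩
      exact cyclotomic_ne_zero _ _ h0
    · intro z hz hz1 hz2
      exact hcon z hz hz1 hz2
  have hcop : p.Coprime (r ^ (k + 1)) :=
    Nat.Coprime.pow_right _ ((Nat.coprime_primes hp hr).2 (Ne.symm hrp))
  have hdeg := natDegree_of_dvd_cyclotomic_of_irreducible hf hcop hP2 hPirr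
  refine ⟨P.natDegree, ?_, ?_, ?_⟩
  · rw [hdeg]
    exact orderOf_pos _
  · have h5 : P ∣ M.charpoly := hP1.trans (Matrix.minpoly_dvd_charpoly M)
    have h6 := natDegree_le_of_dvd h5 (Matrix.charpoly_monic M).ne_zero
    rwa [Matrix.charpoly_natDegree_eq_dim, Fintype.card_fin] at h6
  · have h7 := pow_orderOf_eq_one (ZMod.unitOfCoprime _ (hcop.pow_left f))
    rw [← hdeg] at h7
    have h8 := congrArg (fun u : (ZMod (r ^ (k + 1)))ˣ => (u : ZMod (r ^ (k + 1)))) h7
    simp only [Units.val_pow_eq_pow_val, ZMod.coe_unitOfCoprime, Units.val_one] at h8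
    rw [hf]
    have h9 : ((((p ^ f) ^ P.natDegree - 1 : ℕ)) : ZMod (r ^ (k + 1))) = 0 := by
      rw [Nat.cast_sub (Nat.one_le_pow _ _ (pow_pos hp.pos f))]
      push_cast
      push_cast at h8
      rw [h8, sub_self]
    exact (ZMod.natCast_eq_zero_iff _ _).1 h9

end Semi

end Cfsg.Agent.Lib.Helper48
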