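import Mathlib
import Cfsg.Agent.Lib.Helper48.RegNilpConj

set_option autoImplicit false
set_option linter.unusedSectionVars false

namespace Cfsg.Agent.Lib.Helper48

open Module LinearMap Polynomial

variable {K V : Type*} [Field K] [AddCommGroup V] [Module K V]
variable (B : LinearMap.BilinForm K V)

/-- skew-adjoint endomorphisms -/
def SkewB (z : End K V) : Prop := ∀ x w, B (z x) w = - B x (z w)

/-- self-adjoint endomorphisms -/
def SelfB (a : End K V) : Prop := ∀ x w, B (a x) w = B x (a w)

/-- isometries -/
def IsoB (g : End K V) : Prop := ∀ x w, B (g x) (g w) = B x w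

variable {B}

/-- the Cayley transform of an isometry is skew-adjoint -/
theorem skewB_of_isoB {g d z : End K V} (hg : IsoB B g) (hd : (g + 1) * d = 1)
    (hz : z = (g - 1) * d) : SkewB B z := by
  intro x w
  have hx : x = g (d x) + d x := by
    have := congrArg (fun f : End K V => f x) hd
    simpa [Module.End.mul_apply] using this.symm
  have hw : w = g (d w) + d w := by
    have := congrArg (fun f : End K V => f w) hd
    simpa [Module.End.mul_apply] using this.symm
  have e1 : z x = g (d x) - d x := by rw [hz]; simp [Module.End.mul_apply]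
  have e2 : z w = g (d w) - d w := by rw [hz]; simp [Module.End.mul_apply]
  rw [e1, e2]
  conv_lhs => rw [hw]
  conv_rhs => rw [hx]
  simp only [map_add, map_sub, LinearMap.add_apply, LinearMap.sub_apply, hg (d x) (d w)]
  ring

/-- the inverse Cayley transform of a skew-adjoint endomorphism is an isometry -/
theorem isoB_of_skewB {g d z : End K V} (hz : SkewB B z) (hd : (1 - z) * d = 1)
    (hg : g = (1 + z) * d) : IsoB B g := by
  intro x w
  have hx : x = d x - z (d x) := by
    have := congrArg (fun f : End K V => f x) hd
    simpa [Module.End.mul_apply] using this.symm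
  have hw : w = d w - z (d w) := by
    have := congrArg (fun f : End K V => f w) hd
    simpa [Module.End.mul_apply] using this.symm
  have e1 : g x = d x + z (d x) := by rw [hg]; simp [Module.End.mul_apply]
  have e2 : g w = d w + z (d w) := by rw [hg]; simp [Module.End.mul_apply]
  rw [e1, e2]
  conv_rhs => rw [hx, hw]
  simp only [map_add, map_sub, LinearMap.add_apply, LinearMap.sub_apply, hz (d x) (d w),
    hz (d x) (z (d w))]
  ring

theorem SkewB.pow {y : End K V} (hy : SkewB B y) (k : ℕ) (x w : V) :
    B ((y ^ k) x) w = (-1) ^ k * B x ((y ^ k) w) := by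
  induction k generalizing x w with
  | zero => simp
  | succ k ih =>
    have e : (y ^ (k + 1)) w = y ((y ^ k) w) := by rw [pow_succ', Module.End.mul_apply]
    rw [e, pow_succ y, Module.End.mul_apply, ih, hy, pow_succ]
    ring

theorem SkewB.pow_odd {y : End K V} (hy : SkewB B y) (j : ℕ) : SkewB B (y ^ (2 * j + 1)) := by
  intro x w
  rw [hy.pow]
  have : (-1 : K) ^ (2 * j + 1) = -1 := Odd.neg_one_pow ⟨j, rfl⟩
  rw [this]; ring

theorem SkewB.pow_even {y : End K V} (hy : SkewB B y) (j : ℕ) : SelfB B (y ^ (2 * j)) := by
  intro x w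
  rw [hy.pow]
  have : (-1 : K) ^ (2 * j) = 1 := Even.neg_one_pow ⟨j, by ring⟩
  rw [this]; ring

theorem SkewB.smul {z : End K V} (hz : SkewB B z) (c : K) : SkewB B (c • z) := by
  intro x w
  simp only [LinearMap.smul_apply, map_smul, smul_eq_mul, hz x w]
  ring

theorem SkewB.add {z z' : End K V} (hz : SkewB B z) (hz' : SkewB B z') : SkewB B (z + z') := by
  intro x w
  simp only [LinearMap.add_apply, map_add, hz x w, hz' x w]
  ring

theorem SkewB.zero : SkewB B (0 : End K V) := by
  intro x w
  simp

theorem SkewB.sum {ι : Type*} (s : Finset ι) (f : ι → End K V) (h : ∀ i ∈ s, SkewB B (f i)) :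
    SkewB B (∑ i ∈ s, f i) := by
  classical
  induction s using Finset.induction_on with
  | empty => simpa using SkewB.zero
  | insert a s ha ih =>
    rw [Finset.sum_insert ha]
    exact (h a (Finset.mem_insert_self _ _)).add
      (ih (fun i hi => h i (Finset.mem_insert_of_mem hi)))

theorem SelfB.smul {z : End K V} (hz : SelfB B z) (c : K) : SelfB B (c • z) := by
  intro x w
  simp only [LinearMap.smul_apply, map_smul, smul_eq_mul, hz x w]

theorem SelfB.add {z z' : End K V} (hz : SelfB B z) (hz' : SelfB B z') : SelfB B (z + z') := by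
  intro x w
  simp only [LinearMap.add_apply, map_add, hz x w, hz' x w]

theorem SelfB.zero : SelfB B (0 : End K V) := by
  intro x w
  simp

theorem SelfB.one : SelfB B (1 : End K V) := by
  intro x w
  simp

theorem SelfB.sum {ι : Type*} (s : Finset ι) (f : ι → End K V) (h : ∀ i ∈ s, SelfB B (f i)) :
    SelfB B (∑ i ∈ s, f i) := by
  classical
  induction s using Finset.induction_on with
  | empty => simpa using SelfB.zero
  | insert a s ha ih =>
    rw [Finset.sum_insert ha]
    exact (h a (Finset.mem_insert_self _ _)).add
      (ih (fun i hi => h i (Finset.mem_insert_of_mem hi)))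

theorem SelfB.mul {a b : End K V} (ha : SelfB B a) (hb : SelfB B b) (hc : Commute a b) :
    SelfB B (a * b) := by
  intro x w
  rw [Module.End.mul_apply, ha, hb, ← Module.End.mul_apply, hc.eq]

theorem SelfB.pow {a : End K V} (ha : SelfB B a) (k : ℕ) : SelfB B (a ^ k) := by
  induction k with
  | zero => simpa using SelfB.one
  | succ k ih =>
    rw [pow_succ]
    exact ih.mul ha (Commute.pow_left (Commute.refl a) k)

theorem sum_range_two_mul {M : Type*} [AddCommMonoid M] (f : ℕ → M) (m : ℕ) :
    ∑ i ∈ Finset.range (2 * m), f i =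
      ∑ j ∈ Finset.range m, f (2 * j) + ∑ j ∈ Finset.range m, f (2 * j + 1) := by
  induction m with
  | zero => simp
  | succ m ih =>
    rw [show 2 * (m + 1) = 2 * m + 1 + 1 by ring, Finset.sum_range_succ, Finset.sum_range_succ, ih,
      Finset.sum_range_succ, Finset.sum_range_succ]
    abel

section Reg

variable [FiniteDimensional K V]

/-- an endomorphism commuting with a regular nilpotent `y` is a truncated polynomial in `y` -/
theorem exists_eq_sum_pow_of_commute (y : End K V) (h1 : finrank K (ker y) ≤ 1)
    (hn : y ^ finrank K V = 0) (hpos : 0 < finrank K V) (g : End K V) (hg : Commute g y) :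
    ∃ a : ℕ → K, g = ∑ i ∈ Finset.range (finrank K V), a i • y ^ i := by
  obtain ⟨p, rfl⟩ := exists_eq_aeval_of_commute y h1 hn hpos g hg
  refine ⟨p.coeff, ?_⟩
  rw [aeval_eq_sum_range' (n := max (finrank K V) (p.natDegree + 1))
    (lt_of_lt_of_le (Nat.lt_succ_self _) (le_max_right _ _))]
  symm
  apply Finset.sum_subset
  · intro i hi
    rw [Finset.mem_range] at hi ⊢
    exact lt_of_lt_of_le hi (le_max_left _ _)
  · intro i _ hi
    rw [Finset.mem_range, not_lt] at hi
    rw [pow_eq_zero_of_le hi hn, smul_zero]

/-- the powers of a regular nilpotent are linearly independent -/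
theorem eq_zero_of_sum_pow_eq_zero (y : End K V) (h1 : finrank K (ker y) ≤ 1)
    (hn : y ^ finrank K V = 0) (hpos : 0 < finrank K V) (a : ℕ → K)
    (h : ∑ i ∈ Finset.range (finrank K V), a i • y ^ i = 0) :
    ∀ i < finrank K V, a i = 0 := by
  obtain ⟨v, hv⟩ := exists_cyclic y h1 hn hpos
  have hli := (cyclicBasis y h1 hn v hv).linearIndependent
  rw [Fintype.linearIndependent_iff] at hli
  have h2 := congrArg (fun f : End K V => f v) h
  simp only [LinearMap.sum_apply, LinearMap.smul_apply, LinearMap.zero_apply] at h2
  rw [Finset.sum_range] at h2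
  intro i hi
  refine hli (fun i => a i) ?_ ⟨i, hi⟩
  rw [← h2]
  exact Finset.sum_congr rfl (fun j _ => by rw [cyclicBasis_apply])

end Reg

end Cfsg.Agent.Lib.Helper48
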