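import Mathlib
import Cfsg.Agent.Lib.Helper48.JordanConj
import Cfsg.Agent.Lib.Helper48.Cayley

set_option autoImplicit false
set_option linter.unusedSectionVars false

namespace Cfsg.Agent.Lib.Helper48

open Module LinearMap

variable {F : Type*} [Field F]

/-- kind of a bilinear form: `true` = alternating, `false` = symmetric -/
def IsKind (s : Bool) {V : Type*} [AddCommGroup V] [Module F V] (B : LinearMap.BilinForm F V) :
    Prop :=
  if s = true then (∀ x, B x x = 0) else (∀ x y, B x y = B y x)

/-- the Jordan type `μ` is realised by a unipotent isometry of a non-degenerate form of kind `s` -/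
def RealK (F : Type*) [Field F] (s : Bool) (μ : Multiset ℕ) : Prop :=
  ∃ (n : ℕ) (B : LinearMap.BilinForm F (Fin n → F)) (u : End F (Fin n → F)), IsKind s B ∧
    (∀ x, (∀ y, B x y = 0) → x = 0) ∧ IsoB B u ∧ IsNilpotent (u - 1) ∧ JType (u - 1) μ

theorem RealK.of_space {V : Type*} [AddCommGroup V] [Module F V] [FiniteDimensional F V]
    {s : Bool} {μ : Multiset ℕ} (B : LinearMap.BilinForm F V) (u : End F V) (hk : IsKind s B)
    (hnd : ∀ x, (∀ y, B x y = 0) → x = 0) (hu : IsoB B u) (hN : IsNilpotent (u - 1))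
    (hJ : JType (u - 1) μ) : RealK F s μ := by
  let e : V ≃ₗ[F] (Fin (finrank F V) → F) := (Module.finBasis F V).equivFun
  let B' : LinearMap.BilinForm F (Fin (finrank F V) → F) :=
    B.comp (e.symm : _ →ₗ[F] V) (e.symm : _ →ₗ[F] V)
  have hB' : ∀ x y, B' x y = B (e.symm x) (e.symm y) := fun x y => rfl
  let u' : End F (Fin (finrank F V) → F) := (e : V →ₗ[F] _) ∘ₗ u ∘ₗ (e.symm : _ →ₗ[F] V)
  have hu' : ∀ x, u' x = e (u (e.symm x)) := fun x => rfl
  have hint : ∀ x, e ((u - 1) x) = (u' - 1) (e x) := by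
    intro x
    simp only [LinearMap.sub_apply, Module.End.one_apply, map_sub, hu', e.symm_apply_apply]
  refine ⟨finrank F V, B', u', ?_, ?_, ?_, ?_, hJ.of_intertwine e hint⟩
  · unfold IsKind at hk ⊢
    split_ifs at hk ⊢ with hs
    · intro x; exact hk _
    · intro x y; exact hk _ _
  · intro x hx
    have : e.symm x = 0 := by
      apply hnd
      intro y
      have := hx (e y)
      rwa [hB', e.symm_apply_apply] at this
    exact e.symm.map_eq_zero_iff.1 this
  · intro x y
    rw [hB', hB', hu', hu', e.symm_apply_apply, e.symm_apply_apply, hu]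
  · obtain ⟨k, hk'⟩ := hN
    refine ⟨k, ?_⟩
    apply LinearMap.ext
    intro y
    have := intertwine_pow e (u - 1) (u' - 1) hint k (e.symm y)
    rw [e.apply_symm_apply, hk'] at this
    rw [← this]
    simp

theorem RealK.add {s : Bool} {μ ν : Multiset ℕ} (h1 : RealK F s μ) (h2 : RealK F s ν) :
    RealK F s (μ + ν) := by
  obtain ⟨n, B, u, hk, hnd, hu, hN, hJ⟩ := h1
  obtain ⟨n', B', u', hk', hnd', hu', hN', hJ'⟩ := h2
  let C : LinearMap.BilinForm F ((Fin n → F) × (Fin n' → F)) :=
    B.comp (LinearMap.fst F _ _) (LinearMap.fst F _ _) +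
      B'.comp (LinearMap.snd F _ _) (LinearMap.snd F _ _)
  have hC : ∀ p q, C p q = B p.1 q.1 + B' p.2 q.2 := fun p q => rfl
  have hsub : (LinearMap.prodMap u u' : End F ((Fin n → F) × (Fin n' → F))) - 1 =
      LinearMap.prodMap (u - 1) (u' - 1) := by
    apply LinearMap.ext
    rintro ⟨x, y⟩
    rfl
  refine RealK.of_space C (LinearMap.prodMap u u') ?_ ?_ ?_ ?_ ?_
  · unfold IsKind at hk hk' ⊢
    split_ifs at hk hk' ⊢ with hs
    · intro p; rw [hC, hk, hk', add_zero]
    · intro p q; rw [hC, hC, hk, hk']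
  · rintro ⟨x, y⟩ h
    have hx : x = 0 := hnd x (fun w => by simpa [hC] using h (w, 0))
    have hy : y = 0 := hnd' y (fun w => by simpa [hC] using h (0, w))
    rw [hx, hy]
    rfl
  · intro p q
    rw [hC, hC]
    exact congrArg₂ (· + ·) (hu _ _) (hu' _ _)
  · rw [hsub]
    obtain ⟨k, hk1⟩ := hN
    obtain ⟨k', hk2⟩ := hN'
    refine ⟨k + k', ?_⟩
    rw [prodMap_pow', pow_eq_zero_of_le (Nat.le_add_right _ _) hk1,
      pow_eq_zero_of_le (Nat.le_add_left _ _) hk2]
    apply LinearMap.ext
    rintro ⟨x, y⟩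
    rfl
  · rw [hsub]
    exact hJ.prodMap hJ'

theorem RealK.zero (s : Bool) : RealK F s 0 := by
  refine ⟨0, 0, 1, ?_, ?_, ?_, ?_, ?_⟩
  · unfold IsKind
    split_ifs <;> simp
  · intro x _
    exact Subsingleton.elim _ _
  · intro x y
    simp
  · rw [sub_self]
    exact IsNilpotent.zero
  · intro k
    have := Submodule.finrank_le (ker (((1 : End F (Fin 0 → F)) - 1) ^ k))
    simp only [Multiset.map_zero, Multiset.sum_zero]
    have h0 : finrank F (Fin 0 → F) = 0 := by simp
    omega

theorem RealK.nsmul {s : Bool} {μ : Multiset ℕ} (h : RealK F s μ) (c : ℕ) :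
    RealK F s (c • μ) := by
  induction c with
  | zero => rw [zero_smul]; exact RealK.zero s
  | succ c ih => rw [succ_nsmul]; exact ih.add h

theorem RealK.sum {s : Bool} {ι : Type*} (t : Finset ι) (f : ι → Multiset ℕ)
    (h : ∀ i ∈ t, RealK F s (f i)) : RealK F s (∑ i ∈ t, f i) := by
  classical
  induction t using Finset.induction_on with
  | empty => simpa using RealK.zero s
  | insert a t ha ih =>
    rw [Finset.sum_insert ha]
    exact (h a (Finset.mem_insert_self _ _)).add (ih (fun i hi => h i (Finset.mem_insert_of_mem hi)))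

/-- a Jordan type is realised as soon as each size is, with its multiplicity -/
theorem RealK.of_count {s : Bool} (μ : Multiset ℕ)
    (h : ∀ j ∈ μ, RealK F s (μ.count j • {j})) : RealK F s μ := by
  rw [← Multiset.toFinset_sum_count_nsmul_eq μ]
  exact RealK.sum _ _ (fun j hj => h j (Multiset.mem_toFinset.1 hj))

theorem jtype_of_regular {V : Type*} [AddCommGroup V] [Module F V] [FiniteDimensional F V]
    (N : End F V) (h1 : finrank F (ker N) ≤ 1) (hn : N ^ finrank F V = 0) :
    JType N {finrank F V} := by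
  intro k
  rw [Multiset.map_singleton, Multiset.sum_singleton]
  rcases le_total k (finrank F V) with h | h
  · rw [finrank_ker_pow_eq N h1 hn k h, min_eq_right h]
  · rw [pow_eq_zero_of_le h hn, LinearMap.ker_zero, finrank_top, min_eq_left h]

end Cfsg.Agent.Lib.Helper48
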