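import Mathlib
import Cfsg.Agent.Lib.Helper48.Cayley

set_option autoImplicit false
set_option linter.unusedSectionVars false

namespace Cfsg.Agent.Lib.Helper48

open Module LinearMap Polynomial

variable {K V : Type*} [Field K] [AddCommGroup V] [Module K V]
variable {B : LinearMap.BilinForm K V}

theorem commute_ringInverse {R : Type*} [Ring R] {g x : R} (hx : IsUnit x) (h : Commute g x) :
    Commute g (Ring.inverse x) := by
  obtain ⟨w, rfl⟩ := hx
  rw [Ring.inverse_unit]
  exact h.units_inv_right

/-- the inverse Cayley transform -/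
noncomputable def cayInv (z : End K V) : End K V := (1 + z) * Ring.inverse (1 - z)

theorem cayInv_mul {z : End K V} (hz : IsNilpotent z) : cayInv z * (1 - z) = 1 + z := by
  unfold cayInv
  rw [mul_assoc, Ring.inverse_mul_cancel _ hz.isUnit_one_sub, mul_one]

theorem eq_cayInv {z E : End K V} (hz : IsNilpotent z) (h : E * (1 - z) = 1 + z) :
    E = cayInv z := by
  unfold cayInv
  rw [← h, mul_assoc, Ring.mul_inverse_cancel _ hz.isUnit_one_sub, mul_one]

theorem commute_cayInv {g z : End K V} (hz : IsNilpotent z) (h : Commute g z) :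
    Commute g (cayInv z) := by
  unfold cayInv
  exact ((Commute.one_right g).add_right h).mul_right
    (commute_ringInverse hz.isUnit_one_sub ((Commute.one_right g).sub_right h))

theorem cayInv_add_one_mul {z : End K V} (hz : IsNilpotent z) :
    (cayInv z + 1) * (1 - z) = 2 := by
  rw [add_mul, cayInv_mul hz, one_mul]
  abel_nf
  simp [two_smul, one_add_one_eq_two]

theorem isoB_cayInv {z : End K V} (hz : IsNilpotent z) (hs : SkewB B z) : IsoB B (cayInv z) :=
  isoB_of_skewB hs (Ring.mul_inverse_cancel _ hz.isUnit_one_sub) rfl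

/-- odd polynomials in `y` -/
noncomputable def zOf (y : End K V) {m : ℕ} (c : Fin m → K) : End K V :=
  ∑ j : Fin m, c j • y ^ (2 * (j : ℕ) + 1)

theorem zOf_skew {y : End K V} (hy : SkewB B y) {m : ℕ} (c : Fin m → K) : SkewB B (zOf y c) :=
  SkewB.sum _ _ (fun j _ => (hy.pow_odd j).smul _)

theorem zOf_commute (y : End K V) {m : ℕ} (c : Fin m → K) : Commute y (zOf y c) := by
  unfold zOf
  apply Commute.sum_right
  intro j _
  exact ((Commute.refl y).pow_right _).smul_right _

theorem zOf_eq_mul (y : End K V) {m : ℕ} (c : Fin m → K) :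
    zOf y c = y * ∑ j : Fin m, c j • y ^ (2 * (j : ℕ)) := by
  unfold zOf
  rw [Finset.mul_sum]
  refine Finset.sum_congr rfl (fun j _ => ?_)
  rw [mul_smul_comm, pow_succ']

theorem zOf_nilpotent {y : End K V} (hy : IsNilpotent y) {m : ℕ} (c : Fin m → K) :
    IsNilpotent (zOf y c) := by
  rw [zOf_eq_mul]
  apply Commute.isNilpotent_mul_right _ hy
  apply Commute.sum_right
  intro j _
  exact ((Commute.refl y).pow_right _).smul_right _

theorem zOf_apply_ker {y : End K V} {m : ℕ} (c : Fin m → K) {v : V} (hv : y v = 0) :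
    zOf y c v = 0 := by
  unfold zOf
  rw [LinearMap.sum_apply]
  apply Finset.sum_eq_zero
  intro j _
  rw [LinearMap.smul_apply, pow_succ, Module.End.mul_apply, hv, map_zero, smul_zero]

theorem cayInv_apply_of_apply_eq_zero {z : End K V} (hz : IsNilpotent z) {v : V} (hv : z v = 0) :
    cayInv z v = v := by
  have h := congrArg (fun f : End K V => f v) (cayInv_mul hz)
  simpa [Module.End.mul_apply, hv] using h

section Reg

variable [FiniteDimensional K V]

theorem zOf_injective (y : End K V) (h1 : finrank K (ker y) ≤ 1) (hn : y ^ finrank K V = 0)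
    {m : ℕ} (hm : finrank K V = 2 * m) (hpos : 0 < m) :
    Function.Injective (zOf y : (Fin m → K) → End K V) := by
  intro c c' h
  let a : ℕ → K := fun i => if hi : i % 2 = 1 ∧ i / 2 < m then c ⟨i / 2, hi.2⟩ - c' ⟨i / 2, hi.2⟩ else 0
  have hsum : ∑ i ∈ Finset.range (finrank K V), a i • y ^ i = 0 := by
    rw [hm, sum_range_two_mul]
    have e1 : ∑ j ∈ Finset.range m, a (2 * j) • y ^ (2 * j) = 0 := by
      apply Finset.sum_eq_zero
      intro j _
      have : a (2 * j) = 0 := by
        simp only [a]
        rw [dif_neg]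
        omega
      rw [this, zero_smul]
    have e2 : ∑ j ∈ Finset.range m, a (2 * j + 1) • y ^ (2 * j + 1) = zOf y c - zOf y c' := by
      unfold zOf
      rw [Finset.sum_range, ← Finset.sum_sub_distrib]
      refine Finset.sum_congr rfl (fun j _ => ?_)
      have : a (2 * (j : ℕ) + 1) = c j - c' j := by
        simp only [a]
        have hj := j.2
        rw [dif_pos ⟨by omega, by omega⟩]
        have e : (2 * (j : ℕ) + 1) / 2 = j := by omega
        congr 2 <;> exact Fin.ext e
      rw [this, sub_smul]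
    rw [e1, e2, h, sub_self, add_zero]
  have hz := eq_zero_of_sum_pow_eq_zero y h1 hn (by omega) a hsum
  funext j
  have hj := j.2
  have := hz (2 * (j : ℕ) + 1) (by omega)
  simp only [a] at this
  rw [dif_pos ⟨by omega, by omega⟩] at this
  have e : (2 * (j : ℕ) + 1) / 2 = j := by omega
  have e' : (⟨(2 * (j : ℕ) + 1) / 2, by omega⟩ : Fin m) = j := Fin.ext e
  rw [e'] at this
  exact sub_eq_zero.1 this

theorem exists_zOf_of_skew (hB : ∀ w, (∀ x, B x w = 0) → w = 0) (h2 : (2 : K) ≠ 0)
    (y : End K V) (hy : SkewB B y) (h1 : finrank K (ker y) ≤ 1) (hn : y ^ finrank K V = 0)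
    {m : ℕ} (hm : finrank K V = 2 * m) (hpos : 0 < m) (z : End K V) (hz : SkewB B z)
    (hc : Commute z y) : ∃ c : Fin m → K, z = zOf y c := by
  obtain ⟨a, ha⟩ := exists_eq_sum_pow_of_commute y h1 hn (by omega) z hc
  have hsum : ∑ i ∈ Finset.range (finrank K V), (a i * ((-1) ^ i + 1)) • y ^ i = 0 := by
    apply LinearMap.ext
    intro w
    apply hB
    intro x
    have h3 := hz x w
    rw [ha] at h3
    simp only [LinearMap.sum_apply, LinearMap.smul_apply, map_sum, map_smul, smul_eq_mul,
      hy.pow] at h3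
    simp only [LinearMap.sum_apply, LinearMap.smul_apply, map_sum, map_smul, smul_eq_mul]
    have h4 : ∑ i ∈ Finset.range (finrank K V), a i * ((-1) ^ i + 1) * B x ((y ^ i) w) =
        ∑ i ∈ Finset.range (finrank K V), a i * ((-1) ^ i * B x ((y ^ i) w)) +
        ∑ i ∈ Finset.range (finrank K V), a i * B x ((y ^ i) w) := by
      rw [← Finset.sum_add_distrib]
      exact Finset.sum_congr rfl (fun i _ => by ring)
    rw [h4, h3]
    ring
  have hz0 := eq_zero_of_sum_pow_eq_zero y h1 hn (by omega) _ hsum
  refine ⟨fun j => a (2 * (j : ℕ) + 1), ?_⟩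
  rw [ha, hm, sum_range_two_mul]
  have e1 : ∑ j ∈ Finset.range m, a (2 * j) • y ^ (2 * j) = 0 := by
    apply Finset.sum_eq_zero
    intro j hj
    rw [Finset.mem_range] at hj
    have h5 := hz0 (2 * j) (by omega)
    have h6 : (-1 : K) ^ (2 * j) = 1 := Even.neg_one_pow ⟨j, by ring⟩
    rw [h6, one_add_one_eq_two] at h5
    rcases mul_eq_zero.1 h5 with h | h
    · rw [h, zero_smul]
    · exact absurd h h2
  rw [e1, zero_add, Finset.sum_range]
  rfl

end Reg

end Cfsg.Agent.Lib.Helper48
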