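import Mathlib
import Cfsg.Agent.Lib.Helper48.CayleyCount

set_option autoImplicit false
set_option linter.unusedSectionVars false

namespace Cfsg.Agent.Lib.Helper48

open Module LinearMap Polynomial

variable {K V : Type*} [Field K] [AddCommGroup V] [Module K V] [FiniteDimensional K V]
variable {B : LinearMap.BilinForm K V}

theorem exists_ker_ne_zero (y : End K V) (h1 : finrank K (ker y) ≤ 1) (hn : y ^ finrank K V = 0)
    (hpos : 0 < finrank K V) : ∃ v₀ : V, v₀ ≠ 0 ∧ y v₀ = 0 := by
  obtain ⟨v, hv⟩ := exists_cyclic y h1 hn hpos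
  refine ⟨_, hv, ?_⟩
  rw [← Module.End.mul_apply, ← pow_succ', Nat.sub_add_cancel hpos, hn, LinearMap.zero_apply]

theorem two_mul_eq_zero_end (h2 : (2 : K) ≠ 0) {f : End K V} (h : (2 : End K V) * f = 0) :
    f = 0 := by
  have e : (2 : End K V) * f = (2 : K) • f := by
    rw [two_mul, two_smul]
  rw [e] at h
  exact (smul_eq_zero.1 h).resolve_left h2

/-- an isometry commuting with a skew regular nilpotent is `±` a unipotent -/
theorem exists_scalar_add_of_commute (y : End K V) (h1 : finrank K (ker y) ≤ 1)
    (hn : y ^ finrank K V = 0) (hpos : 0 < finrank K V) (g : End K V) (hg : Commute g y) :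
    ∃ (α : K) (r : End K V), Commute r y ∧ g = α • 1 + r * y := by
  obtain ⟨p, rfl⟩ := exists_eq_aeval_of_commute y h1 hn hpos g hg
  refine ⟨p.coeff 0, aeval y (divX p), (commute_aeval (Commute.refl y) _).symm, ?_⟩
  conv_lhs => rw [← divX_mul_X_add p]
  rw [map_add, map_mul, aeval_X, aeval_C, add_comm, Algebra.algebraMap_eq_smul_one]

theorem sq_eq_one_of_isoB (hB1 : ∀ x, (∀ w, B x w = 0) → x = 0) (y : End K V) (hy : SkewB B y)
    {v₀ : V} (hv₀ : v₀ ≠ 0) (hyv : y v₀ = 0) {g r : End K V} {α : K} (hr : Commute r y)
    (hg : g = α • 1 + r * y) (hiso : IsoB B g) : α * α = 1 := by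
  obtain ⟨w, hw⟩ : ∃ w, B v₀ w ≠ 0 := by
    by_contra hcon
    push Not at hcon
    exact hv₀ (hB1 v₀ hcon)
  have e1 : g v₀ = α • v₀ := by
    rw [hg]
    simp [Module.End.mul_apply, hyv]
  have e2 : B v₀ (g w) = α * B v₀ w := by
    rw [hg, hr.eq]
    simp only [LinearMap.add_apply, LinearMap.smul_apply, Module.End.one_apply,
      Module.End.mul_apply, map_add, map_smul, smul_eq_mul]
    have := hy v₀ (r w)
    rw [hyv, map_zero, LinearMap.zero_apply] at this
    have h0 : B v₀ (y (r w)) = 0 := by linear_combination this
    rw [h0, add_zero]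
  have e3 := hiso v₀ w
  rw [e1, map_smul, LinearMap.smul_apply, smul_eq_mul, e2] at e3
  have : (α * α - 1) * B v₀ w = 0 := by linear_combination e3
  rcases mul_eq_zero.1 this with h | h
  · linear_combination h
  · exact absurd h hw

/-- the sign attached to a boolean -/
def sgnB (K : Type*) [Field K] (b : Bool) : K := if b then 1 else -1

theorem sgnB_mul_self (b : Bool) : sgnB K b * sgnB K b = 1 := by
  cases b <;> simp [sgnB]

theorem sgnB_ne_zero (b : Bool) : sgnB K b ≠ 0 := by
  cases b <;> simp [sgnB]

theorem sgnB_injective (h2 : (2 : K) ≠ 0) : Function.Injective (sgnB K) := by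
  intro b b' h
  cases b <;> cases b' <;> simp only [sgnB] at h ⊢
  · exfalso
    apply h2
    simp at h
    linear_combination -h
  · exfalso
    apply h2
    simp at h
    linear_combination h

theorem IsoB.smul_sgn {g : End K V} (hg : IsoB B g) {α : K} (hα : α * α = 1) :
    IsoB B (α • g) := by
  intro x w
  simp only [LinearMap.smul_apply, map_smul, smul_eq_mul, hg x w]
  linear_combination (B x w) * hα

/-- number of isometries commuting with a skew-adjoint regular nilpotent -/
theorem card_iso_commute [Finite K] (hB1 : ∀ x, (∀ w, B x w = 0) → x = 0)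
    (hB2 : ∀ w, (∀ x, B x w = 0) → w = 0) (h2 : (2 : K) ≠ 0)
    (y : End K V) (hy : SkewB B y) (h1 : finrank K (ker y) ≤ 1) (hn : y ^ finrank K V = 0)
    {m : ℕ} (hm : finrank K V = 2 * m) (hpos : 0 < m) :
    Nat.card {g : End K V // Commute g y ∧ IsoB B g} = 2 * Nat.card K ^ m := by
  have hpos' : 0 < finrank K V := by omega
  have hnil : IsNilpotent y := ⟨_, hn⟩
  obtain ⟨v₀, hv₀, hyv⟩ := exists_ker_ne_zero y h1 hn hpos'
  let Φ : Bool × (Fin m → K) → {g : End K V // Commute g y ∧ IsoB B g} := fun bc =>
    ⟨sgnB K bc.1 • cayInv (zOf y bc.2),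
      ((commute_cayInv (zOf_nilpotent hnil bc.2) (zOf_commute y bc.2)).symm).smul_left _,
      (isoB_cayInv (zOf_nilpotent hnil bc.2) (zOf_skew hy bc.2)).smul_sgn (sgnB_mul_self _)⟩
  have hbij : Function.Bijective Φ := by
    constructor
    · rintro ⟨b, c⟩ ⟨b', c'⟩ h
      have h' : sgnB K b • cayInv (zOf y c) = sgnB K b' • cayInv (zOf y c') :=
        congrArg Subtype.val h
      have hb : b = b' := by
        apply sgnB_injective h2
        have h3 := congrArg (fun f : End K V => f v₀) h'
        simp only [LinearMap.smul_apply] at h3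
        rw [cayInv_apply_of_apply_eq_zero (zOf_nilpotent hnil c) (zOf_apply_ker c hyv),
          cayInv_apply_of_apply_eq_zero (zOf_nilpotent hnil c') (zOf_apply_ker c' hyv)] at h3
        have h4 : (sgnB K b - sgnB K b') • v₀ = 0 := by rw [sub_smul, h3, sub_self]
        exact sub_eq_zero.1 ((smul_eq_zero.1 h4).resolve_right hv₀)
      subst hb
      have hE : cayInv (zOf y c) = cayInv (zOf y c') := by
        have := congrArg (fun f : End K V => sgnB K b • f) h'
        simpa only [smul_smul, sgnB_mul_self, one_smul] using this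
      have hz := zOf_nilpotent hnil c
      have hz' := zOf_nilpotent hnil c'
      set z := zOf y c with hzdef
      set z' := zOf y c' with hzdef'
      set E := cayInv z with hEdef
      have k1 : E * (1 - z) = 1 + z := cayInv_mul hz
      have k2 : E * (1 - z') = 1 + z' := by rw [hE]; exact cayInv_mul hz'
      have k3 : (E + 1) * (z - z') = 0 := by
        have : (E + 1) * (z - z') = (E * (1 - z') - (1 + z')) - (E * (1 - z) - (1 + z)) := by
          noncomm_ring
        rw [this, k1, k2, sub_self, sub_self, sub_zero]
      have k4 : (1 - z) * (E + 1) = 2 := by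
        have hc : Commute (1 - z) (E + 1) := by
          have : Commute z E := commute_cayInv hz (Commute.refl z)
          exact ((Commute.one_left _).sub_left (this.add_right (Commute.one_right z)))
        rw [hc.eq]
        exact cayInv_add_one_mul hz
      have k5 : z - z' = 0 := by
        apply two_mul_eq_zero_end h2
        rw [← k4, mul_assoc, k3, mul_zero]
      have k6 : c = c' := zOf_injective y h1 hn hm hpos (sub_eq_zero.1 k5)
      rw [k6]
    · rintro ⟨g, hgc, hgi⟩
      obtain ⟨α, r, hr, hg⟩ := exists_scalar_add_of_commute y h1 hn hpos' g hgc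
      have hα := sq_eq_one_of_isoB hB1 y hy hv₀ hyv hr hg hgi
      obtain ⟨b, hb⟩ : ∃ b, sgnB K b = α := by
        have : (α - 1) * (α + 1) = 0 := by linear_combination hα
        rcases mul_eq_zero.1 this with h | h
        · exact ⟨true, by simp only [sgnB]; simp; linear_combination -h⟩
        · exact ⟨false, by simp only [sgnB]; simp; linear_combination -h⟩
      set g' : End K V := α • g with hg'
      have hg'i : IsoB B g' := hgi.smul_sgn hα
      have hg'c : Commute g' y := hgc.smul_left α
      have hν : g' - 1 = α • (r * y) := by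
        rw [hg', hg, smul_add, smul_smul, hα, one_smul, add_sub_cancel_left]
      have hνnil : IsNilpotent (g' - 1) := by
        rw [hν]
        exact (Commute.isNilpotent_mul_left hr hnil).smul α
      have hunit : IsUnit (g' + 1) := by
        have e : g' + 1 = 2 + (g' - 1) := by
          rw [← one_add_one_eq_two]; abel
        rw [e]
        apply hνnil.isUnit_add_left_of_commute
        · have : (2 : End K V) = algebraMap K (End K V) 2 := (map_ofNat _ 2).symm
          rw [this]
          exact (IsUnit.mk0 _ h2).map _
        · have : (2 : End K V) = algebraMap K (End K V) 2 := (map_ofNat _ 2).symm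
          rw [this]
          exact (Algebra.commute_algebraMap_right _ _)
      set d := Ring.inverse (g' + 1) with hd
      have hd1 : (g' + 1) * d = 1 := Ring.mul_inverse_cancel _ hunit
      set z := (g' - 1) * d with hzdef
      have hzs : SkewB B z := skewB_of_isoB hg'i hd1 rfl
      have hdc : Commute d y :=
        (commute_ringInverse hunit ((hg'c.symm).add_right (Commute.one_right y))).symm
      have hzc : Commute z y := (hg'c.sub_left (Commute.one_left y)).mul_left hdc
      obtain ⟨c, hc⟩ := exists_zOf_of_skew hB2 h2 y hy h1 hn hm hpos z hzs hzc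
      have hznil : IsNilpotent z := by rw [hc]; exact zOf_nilpotent hnil c
      have hz1 : (g' + 1) * z = g' - 1 := by
        have e : (g' + 1) * (g' - 1) = (g' - 1) * (g' + 1) := by noncomm_ring
        rw [hzdef, ← mul_assoc, e, mul_assoc, hd1, mul_one]
      have hz2 : g' * (1 - z) = 1 + z := by
        have : g' * (1 - z) = g' - ((g' + 1) * z - z) := by noncomm_ring
        rw [this, hz1]
        abel
      have hfin : g' = cayInv z := eq_cayInv hznil hz2
      refine ⟨(b, c), ?_⟩
      apply Subtype.ext
      change sgnB K b • cayInv (zOf y c) = g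
      rw [← hc, ← hfin, hb, hg', smul_smul, hα, one_smul]
  rw [← Nat.card_congr (Equiv.ofBijective Φ hbij), Nat.card_prod, Nat.card_eq_fintype_card,
    Fintype.card_bool, Nat.card_fun, Nat.card_eq_fintype_card (α := Fin m), Fintype.card_fin]

end Cfsg.Agent.Lib.Helper48
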