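import Mathlib
import Cfsg.Agent.Lib.Helper48.CayleyCount2
import Cfsg.Agent.Lib.Helper17.SympCoord

set_option autoImplicit false
set_option linter.unusedSectionVars false

namespace Cfsg.Agent.Lib.Helper48

open Module LinearMap Polynomial

section Abs

variable {K V : Type*} [Field K] [AddCommGroup V] [Module K V] [FiniteDimensional K V]
variable {B : LinearMap.BilinForm K V}

theorem isUnit_two_add_of_isNilpotent (h2 : (2 : K) ≠ 0) {ν : End K V} (hν : IsNilpotent ν) :
    IsUnit (2 + ν) := by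
  have e : (2 : End K V) = algebraMap K (End K V) 2 := (map_ofNat _ 2).symm
  apply hν.isUnit_add_left_of_commute
  · rw [e]
    exact (IsUnit.mk0 _ h2).map _
  · rw [e]
    exact (Algebra.commute_algebraMap_right _ _)

/-- the Cayley transform of a regular unipotent isometry -/
theorem exists_skew_of_unipotent (h2 : (2 : K) ≠ 0) (u : End K V) (hu : IsoB B u)
    (h1 : finrank K (ker (u - 1)) ≤ 1) (hn : (u - 1) ^ finrank K V = 0) :
    ∃ y d : End K V, SkewB B y ∧ finrank K (ker y) ≤ 1 ∧ y ^ finrank K V = 0 ∧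
      (∀ g, Commute g u ↔ Commute g y) ∧ u = cayInv y ∧ y = (u - 1) * d ∧ (u + 1) * d = 1 ∧
      Commute d u := by
  have hnil : IsNilpotent (u - 1) := ⟨_, hn⟩
  have hunit : IsUnit (u + 1) := by
    have e : u + 1 = 2 + (u - 1) := by
      rw [← one_add_one_eq_two]; abel
    rw [e]
    exact isUnit_two_add_of_isNilpotent h2 hnil
  set d := Ring.inverse (u + 1) with hd
  have hd1 : (u + 1) * d = 1 := Ring.mul_inverse_cancel _ hunit
  have hd2 : d * (u + 1) = 1 := Ring.inverse_mul_cancel _ hunit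
  have hdu : Commute d u :=
    (commute_ringInverse hunit ((Commute.refl u).add_right (Commute.one_right u))).symm
  have hdN : Commute (u - 1) d := (hdu.symm).sub_left (Commute.one_left d)
  set y := (u - 1) * d with hy
  have hyn : y ^ finrank K V = 0 := by
    rw [hy, hdN.mul_pow, hn, zero_mul]
  have hynil : IsNilpotent y := ⟨_, hyn⟩
  have hz1 : (u + 1) * y = u - 1 := by
    have e : (u + 1) * (u - 1) = (u - 1) * (u + 1) := by noncomm_ring
    rw [hy, ← mul_assoc, e, mul_assoc, hd1, mul_one]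
  have hz2 : u * (1 - y) = 1 + y := by
    have : u * (1 - y) = u - ((u + 1) * y - y) := by noncomm_ring
    rw [this, hz1]
    abel
  have hucay : u = cayInv y := eq_cayInv hynil hz2
  refine ⟨y, d, skewB_of_isoB hu hd1 rfl, ?_, hyn, ?_, hucay, rfl, hd1, hdu⟩
  · have : ker y = ker (u - 1) := by
      ext x
      rw [LinearMap.mem_ker, LinearMap.mem_ker, hy, hdN.eq, Module.End.mul_apply]
      constructor
      · intro h
        have := congrArg (fun w => (u + 1) w) h
        simp only [map_zero] at this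
        rwa [← Module.End.mul_apply, hd1, Module.End.one_apply] at this
      · intro h
        rw [h, map_zero]
    rw [this]
    exact h1
  · intro g
    constructor
    · intro hg
      exact (hg.sub_right (Commute.one_right g)).mul_right
        (commute_ringInverse hunit (hg.add_right (Commute.one_right g)))
    · intro hg
      rw [hucay]
      exact commute_cayInv hynil hg

theorem card_iso_commute_unipotent [Finite K] (hB1 : ∀ x, (∀ w, B x w = 0) → x = 0)
    (hB2 : ∀ w, (∀ x, B x w = 0) → w = 0) (h2 : (2 : K) ≠ 0)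
    (u : End K V) (hu : IsoB B u) (h1 : finrank K (ker (u - 1)) ≤ 1)
    (hn : (u - 1) ^ finrank K V = 0) {m : ℕ} (hm : finrank K V = 2 * m) (hpos : 0 < m) :
    Nat.card {g : End K V // Commute g u ∧ IsoB B g} = 2 * Nat.card K ^ m := by
  obtain ⟨y, d, hy, hy1, hyn, hc, -⟩ := exists_skew_of_unipotent h2 u hu h1 hn
  rw [← card_iso_commute hB1 hB2 h2 y hy hy1 hyn hm hpos]
  exact Nat.card_congr (Equiv.subtypeEquivRight (fun g => by rw [hc g]))

end Abs

section Mat

open Cfsg.Agent.Lib.Helper17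

variable {F : Type*} [Field F] {m : ℕ}

theorem mulVecLin_inj {A A' : Matrix (Fin m ⊕ Fin m) (Fin m ⊕ Fin m) F}
    (h : Matrix.mulVecLin A = Matrix.mulVecLin A') : A = A' :=
  Matrix.toLin'.injective h

theorem isoB_mulVecLin (A : Matrix.symplecticGroup (Fin m) F) :
    IsoB (sympB m F) (Matrix.mulVecLin (A : Matrix (Fin m ⊕ Fin m) (Fin m ⊕ Fin m) F)) := by
  intro x w
  rw [sympB_apply, sympB_apply, Matrix.mulVecLin_apply, Matrix.mulVecLin_apply, sp_sympForm]

theorem mulVecLin_sub_one (A : Matrix (Fin m ⊕ Fin m) (Fin m ⊕ Fin m) F) :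
    (Matrix.mulVecLin A : End F (Fin m ⊕ Fin m → F)) - 1 = Matrix.mulVecLin (A - 1) := by
  apply LinearMap.ext
  intro x
  simp

/-- regular unipotent hypotheses in linear form -/
theorem reg_hyps (A : Matrix (Fin m ⊕ Fin m) (Fin m ⊕ Fin m) F) (hnil : (A - 1) ^ (2 * m) = 0)
    (hreg : (A - 1).rank = 2 * m - 1) (hm : 1 ≤ m) :
    finrank F (Fin m ⊕ Fin m → F) = 2 * m ∧
    finrank F (ker ((Matrix.mulVecLin A : End F (Fin m ⊕ Fin m → F)) - 1)) ≤ 1 ∧
    ((Matrix.mulVecLin A : End F (Fin m ⊕ Fin m → F)) - 1) ^ finrank F (Fin m ⊕ Fin m → F) = 0 := by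
  have hdim : finrank F (Fin m ⊕ Fin m → F) = 2 * m := by
    rw [Module.finrank_pi]
    simp only [Fintype.card_sum, Fintype.card_fin]
    omega
  refine ⟨hdim, ?_, ?_⟩
  · rw [mulVecLin_sub_one, finrank_ker_mulVecLin, hreg]
    simp only [Fintype.card_sum, Fintype.card_fin]
    omega
  · rw [mulVecLin_sub_one, hdim, ← mulVecLin_pow, hnil]
    simp

theorem card_centralizer_sp [Finite F] (h2 : (2 : F) ≠ 0) (hm : 1 ≤ m)
    (u : Matrix.symplecticGroup (Fin m) F)
    (hnil : ((u : Matrix (Fin m ⊕ Fin m) (Fin m ⊕ Fin m) F) - 1) ^ (2 * m) = 0)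
    (hreg : ((u : Matrix (Fin m ⊕ Fin m) (Fin m ⊕ Fin m) F) - 1).rank = 2 * m - 1) :
    Nat.card ↥(Subgroup.centralizer ({u} : Set ↥(Matrix.symplecticGroup (Fin m) F))) =
      2 * Nat.card F ^ m := by
  obtain ⟨hdim, h1, hn⟩ := reg_hyps (u : Matrix (Fin m ⊕ Fin m) (Fin m ⊕ Fin m) F) hnil hreg hm
  have hnd := sympB_nondegenerate (F := F) m
  rw [← card_iso_commute_unipotent (B := sympB m F) hnd.1 hnd.2 h2 _ (isoB_mulVecLin u) h1 hn hdim hm]
  let Φ : ↥(Subgroup.centralizer ({u} : Set ↥(Matrix.symplecticGroup (Fin m) F))) →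
      {g : End F (Fin m ⊕ Fin m → F) // Commute g (Matrix.mulVecLin
        (u : Matrix (Fin m ⊕ Fin m) (Fin m ⊕ Fin m) F)) ∧ IsoB (sympB m F) g} := fun g =>
    ⟨Matrix.mulVecLin ((g : Matrix.symplecticGroup (Fin m) F) :
      Matrix (Fin m ⊕ Fin m) (Fin m ⊕ Fin m) F), by
        have h := Subgroup.mem_centralizer_singleton_iff.1 g.2
        have h' := congrArg (fun A : Matrix.symplecticGroup (Fin m) F =>
          (A : Matrix (Fin m ⊕ Fin m) (Fin m ⊕ Fin m) F)) h
        simp only [Submonoid.coe_mul] at h'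
        change _ * _ = _ * _
        rw [Module.End.mul_eq_comp, Module.End.mul_eq_comp, ← Matrix.mulVecLin_mul,
          ← Matrix.mulVecLin_mul, h'], isoB_mulVecLin _⟩
  refine Nat.card_congr (Equiv.ofBijective Φ ⟨?_, ?_⟩)
  · intro g g' h
    have h' : Matrix.mulVecLin ((g : Matrix.symplecticGroup (Fin m) F) :
      Matrix (Fin m ⊕ Fin m) (Fin m ⊕ Fin m) F) = Matrix.mulVecLin
        ((g' : Matrix.symplecticGroup (Fin m) F) : Matrix (Fin m ⊕ Fin m) (Fin m ⊕ Fin m) F) :=
      congrArg Subtype.val h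
    apply Subtype.ext
    apply Subtype.ext
    exact mulVecLin_inj h'
  · rintro ⟨g, hgc, hgi⟩
    have hg' : ∀ x w, Cfsg.sympForm m F (g x) (g w) = Cfsg.sympForm m F x w := by
      intro x w
      rw [← sympB_apply, ← sympB_apply]
      exact hgi x w
    have hlin : Matrix.mulVecLin ((spOfLinear m g hg' : Matrix.symplecticGroup (Fin m) F) :
        Matrix (Fin m ⊕ Fin m) (Fin m ⊕ Fin m) F) = g := by
      apply LinearMap.ext
      intro x
      rw [Matrix.mulVecLin_apply, spOfLinear_mulVec]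
    refine ⟨⟨spOfLinear m g hg', ?_⟩, ?_⟩
    · rw [Subgroup.mem_centralizer_singleton_iff]
      apply Subtype.ext
      apply mulVecLin_inj
      rw [Submonoid.coe_mul, Submonoid.coe_mul, Matrix.mulVecLin_mul, Matrix.mulVecLin_mul, hlin]
      exact hgc.eq
    · apply Subtype.ext
      exact hlin

end Mat

end Cfsg.Agent.Lib.Helper48
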