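import Mathlib
import Cfsg.Agent.Lib.Helper48.RegUnipSp
import Cfsg.Agent.Lib.Helper49.FinSq

set_option autoImplicit false
set_option linter.unusedSectionVars false

namespace Cfsg.Agent.Lib.Helper48

open Module LinearMap Polynomial

section Abs

variable {K V : Type*} [Field K] [AddCommGroup V] [Module K V] [FiniteDimensional K V]
variable {B : LinearMap.BilinForm K V}

/-- the square-class invariant of a regular unipotent isometry -/
noncomputable def betaU (B : LinearMap.BilinForm K V) (u : End K V) (v : V) : K :=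
  B v (((u - 1) ^ (finrank K V - 1)) v)

theorem bilin_sub_one_apply_fixed {u : End K V} (hu : IsoB B u) {w : V} (hw : u w = w) (x : V) :
    B ((u - 1) x) w = 0 := by
  have h := hu x w
  rw [hw] at h
  rw [LinearMap.sub_apply, Module.End.one_apply, map_sub, LinearMap.sub_apply, h, sub_self]

theorem fixed_top {u : End K V} (hn : (u - 1) ^ finrank K V = 0) (hpos : 0 < finrank K V) (v : V) :
    u (((u - 1) ^ (finrank K V - 1)) v) = ((u - 1) ^ (finrank K V - 1)) v := by
  have h : (u - 1) * (u - 1) ^ (finrank K V - 1) = 0 := by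
    rw [← pow_succ', Nat.sub_add_cancel hpos, hn]
  have h' := congrArg (fun f : End K V => f v) h
  simp only [Module.End.mul_apply, LinearMap.sub_apply, Module.End.one_apply,
    LinearMap.zero_apply] at h'
  exact sub_eq_zero.1 h'

theorem exists_decomp (N : End K V) (h1 : finrank K (ker N) ≤ 1) (hn : N ^ finrank K V = 0)
    (v : V) (hv : (N ^ (finrank K V - 1)) v ≠ 0) (z : V) : ∃ (a : K) (x : V), z = a • v + N x := by
  obtain ⟨p, rfl⟩ := exists_aeval_apply_eq N h1 hn v hv z
  refine ⟨p.coeff 0, aeval N (divX p) v, ?_⟩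
  conv_lhs => rw [← divX_mul_X_add p]
  rw [map_add, map_mul, aeval_X, aeval_C, LinearMap.add_apply, add_comm,
    Algebra.algebraMap_eq_smul_one, LinearMap.smul_apply, Module.End.one_apply,
    (commute_aeval (Commute.refl N) (divX p)).symm.eq, Module.End.mul_apply]

theorem betaU_decomp {u : End K V} (hu : IsoB B u) (hn : (u - 1) ^ finrank K V = 0)
    (hpos : 0 < finrank K V) (v x : V) (a : K) :
    betaU B u (a • v + (u - 1) x) = a * a * betaU B u v := by
  unfold betaU
  have hfix := fixed_top hn hpos v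
  set w := ((u - 1) ^ (finrank K V - 1)) v with hw
  have e : ((u - 1) ^ (finrank K V - 1)) (a • v + (u - 1) x) = a • w := by
    rw [map_add, map_smul, ← Module.End.mul_apply, ← pow_succ, Nat.sub_add_cancel hpos, hn,
      LinearMap.zero_apply, add_zero]
  rw [e, map_add, LinearMap.add_apply, map_smul, map_smul, LinearMap.smul_apply, map_smul,
    bilin_sub_one_apply_fixed hu hfix]
  simp only [smul_eq_mul, mul_zero, add_zero]
  ring

theorem pow_apply_ne_zero_of_betaU {u : End K V} {v : V} (h : betaU B u v ≠ 0) :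
    ((u - 1) ^ (finrank K V - 1)) v ≠ 0 := by
  intro h0
  apply h
  unfold betaU
  rw [h0, map_zero]

theorem betaU_ne_zero (hB2 : ∀ w, (∀ x, B x w = 0) → w = 0) {u : End K V} (hu : IsoB B u)
    (h1 : finrank K (ker (u - 1)) ≤ 1) (hn : (u - 1) ^ finrank K V = 0)
    (hpos : 0 < finrank K V) (v : V) (hv : ((u - 1) ^ (finrank K V - 1)) v ≠ 0) :
    betaU B u v ≠ 0 := by
  intro h0
  apply hv
  apply hB2
  intro z
  obtain ⟨a, x, rfl⟩ := exists_decomp (u - 1) h1 hn v hv z
  unfold betaU at h0
  rw [map_add, LinearMap.add_apply, map_smul, LinearMap.smul_apply,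
    bilin_sub_one_apply_fixed hu (fixed_top hn hpos v), h0, smul_zero, add_zero]

theorem exists_betaU_ne_zero (hB2 : ∀ w, (∀ x, B x w = 0) → w = 0) {u : End K V} (hu : IsoB B u)
    (h1 : finrank K (ker (u - 1)) ≤ 1) (hn : (u - 1) ^ finrank K V = 0)
    (hpos : 0 < finrank K V) : ∃ v, betaU B u v ≠ 0 := by
  obtain ⟨v, hv⟩ := exists_cyclic (u - 1) h1 hn hpos
  exact ⟨v, betaU_ne_zero hB2 hu h1 hn hpos v hv⟩

theorem isSquare_betaU_iff [Fintype K] {u : End K V} (hu : IsoB B u)
    (h1 : finrank K (ker (u - 1)) ≤ 1) (hn : (u - 1) ^ finrank K V = 0)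
    (hpos : 0 < finrank K V) {v v' : V} (hv : betaU B u v ≠ 0) (hv' : betaU B u v' ≠ 0) :
    IsSquare (betaU B u v) ↔ IsSquare (betaU B u v') := by
  obtain ⟨a, x, rfl⟩ := exists_decomp (u - 1) h1 hn v (pow_apply_ne_zero_of_betaU hv) v'
  rw [betaU_decomp hu hn hpos] at hv' ⊢
  have ha : a * a ≠ 0 := left_ne_zero_of_mul hv'
  exact (Cfsg.Agent.Lib.Helper49.isSquare_mul_iff_of_isSquare ⟨a, rfl⟩ ha).symm

theorem semiconj_sub_one_pow {u u' g : End K V} (h : g * u = u' * g) (k : ℕ) :
    g * (u - 1) ^ k = (u' - 1) ^ k * g := by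
  have h1 : SemiconjBy g (u - 1) (u' - 1) := by
    change g * (u - 1) = (u' - 1) * g
    rw [mul_sub, sub_mul, h, mul_one, one_mul]
  exact h1.pow_right k

theorem betaU_conj {u u' g : End K V} (hg : IsoB B g) (h : g * u = u' * g) (v : V) :
    betaU B u' (g v) = betaU B u v := by
  unfold betaU
  rw [← Module.End.mul_apply, ← semiconj_sub_one_pow h, Module.End.mul_apply, hg]

theorem one_add_pow_char_pow {p : ℕ} [Fact p.Prime] [CharP K p] (ν : End K V) (k : ℕ) :
    (1 + ν) ^ (p ^ k) = 1 + ν ^ (p ^ k) := by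
  have h : ((1 : K[X]) + X) ^ (p ^ k) = 1 + X ^ (p ^ k) := by rw [add_pow_char_pow, one_pow]
  have := congrArg (aeval ν) h
  simpa using this

theorem exists_inv_sqrt {p : ℕ} [Fact p.Prime] [CharP K p] (hp : p ≠ 2) {N h r : End K V} {s : K}
    (hs : s ≠ 0) (hN : IsNilpotent N) (hr : Commute r N) (hh : h = (s * s) • 1 + r * N)
    (hself : SelfB B h) : ∃ b : End K V, SelfB B b ∧ Commute b N ∧ b * h * b = 1 := by
  have hss : s * s ≠ 0 := mul_ne_zero hs hs
  set ν : End K V := (s * s)⁻¹ • (r * N) with hν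
  have hνnil : IsNilpotent ν := (hr.isNilpotent_mul_left hN).smul _
  set x : End K V := (s * s)⁻¹ • h with hx
  have hx1 : x = 1 + ν := by
    rw [hx, hh, smul_add, smul_smul, inv_mul_cancel₀ hss, one_smul]
  have hhx : h = (s * s) • x := by
    rw [hx, smul_smul, mul_inv_cancel₀ hss, one_smul]
  obtain ⟨k, hk⟩ := hνnil
  have hpk : x ^ (p ^ k) = 1 := by
    rw [hx1, one_add_pow_char_pow, pow_eq_zero_of_le (Nat.lt_pow_self (Fact.out : p.Prime).one_lt).le hk,
      add_zero]
  have hodd : Odd (p ^ k) := ((Fact.out : p.Prime).odd_of_ne_two hp).pow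
  obtain ⟨e, he⟩ := hodd
  have hhN : Commute h N := by
    rw [hh]
    exact ((Commute.one_left N).smul_left _).add_left (hr.mul_left (Commute.refl N))
  refine ⟨s⁻¹ • x ^ e, ((hself.smul _).pow e).smul _, ((hhN.smul_left _).pow_left e).smul_left _, ?_⟩
  rw [hhx]
  simp only [smul_mul_assoc, mul_smul_comm, smul_smul]
  have e1 : x ^ e * x * x ^ e = 1 := by
    rw [← pow_succ, ← pow_add, ← hpk, he]
    congr 1
    ring
  rw [e1]
  have key : ∀ c : K, c = 1 → c • (1 : End K V) = 1 := fun c hc => by rw [hc, one_smul]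
  apply key
  field_simp

theorem eq_of_bilin_left (hB1 : ∀ x, (∀ w, B x w = 0) → x = 0) {a b : V}
    (h : ∀ z, B a z = B b z) : a = b := by
  apply sub_eq_zero.1
  apply hB1
  intro z
  rw [map_sub, LinearMap.sub_apply, h, sub_self]

/-- two regular unipotent isometries with the same square class are conjugate by an isometry -/
theorem exists_iso_conj [Fintype K] (h2 : (2 : K) ≠ 0) (hA : B.IsAlt) (hB : B.Nondegenerate)
    {u u' : End K V} (hu : IsoB B u) (hu' : IsoB B u')
    (h1 : finrank K (ker (u - 1)) ≤ 1) (hn : (u - 1) ^ finrank K V = 0)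
    (h1' : finrank K (ker (u' - 1)) ≤ 1) (hn' : (u' - 1) ^ finrank K V = 0)
    (hpos : 0 < finrank K V) {v v' : V} (hv : betaU B u v ≠ 0) (hv' : betaU B u' v' ≠ 0)
    (hsq : IsSquare (betaU B u v) ↔ IsSquare (betaU B u' v')) :
    ∃ g : End K V, IsoB B g ∧ g * u = u' * g := by
  obtain ⟨g₀, hg₀⟩ := exists_equiv_conj (u - 1) (u' - 1) h1 hn h1' hn' hpos
  set G : End K V := (g₀ : V →ₗ[K] V) with hG
  have hGN : G * (u - 1) = (u' - 1) * G := LinearMap.ext (fun x => hg₀ x)
  have hGu : G * u = u' * G := by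
    have := hGN
    rw [mul_sub, sub_mul, mul_one, one_mul] at this
    exact sub_left_injective this
  have hGu' : ∀ x, G (u x) = u' (G x) := fun x => congrArg (fun f : End K V => f x) hGu
  let B' : LinearMap.BilinForm K V := B.comp G G
  set h : End K V := LinearMap.BilinForm.symmCompOfNondegenerate B' B hB with hh
  have hh1 : ∀ x w, B (h x) w = B (G x) (G w) := fun x w => by
    rw [hh, LinearMap.BilinForm.symmCompOfNondegenerate_left_apply]
    rfl
  have hself : SelfB B h := by
    intro x w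
    rw [hh1, ← hA.neg_eq (G w) (G x), ← hh1, hA.neg_eq]
  have hunit : IsUnit u := by
    have e : u = 1 + (u - 1) := by abel
    rw [e]
    exact IsNilpotent.isUnit_one_add ⟨_, hn⟩
  obtain ⟨ui, hui⟩ := hunit.exists_right_inv
  have hui' : ∀ z, u (ui z) = z := fun z => congrArg (fun f : End K V => f z) hui
  have hhu : Commute h u := by
    apply LinearMap.ext
    intro x
    apply eq_of_bilin_left hB.1
    intro z
    rw [Module.End.mul_apply, Module.End.mul_apply]
    conv_lhs => rw [← hui' z]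
    conv_rhs => rw [← hui' z]
    rw [hh1, hGu', hGu', hu', hu, hh1]
  obtain ⟨c, r, hr, hhc⟩ := exists_scalar_add_of_commute (u - 1) h1 hn hpos h
    (hhu.sub_right (Commute.one_right h))
  have hpw : ((u' - 1) ^ (finrank K V - 1)) (G v) = G (((u - 1) ^ (finrank K V - 1)) v) := by
    rw [← Module.End.mul_apply, ← semiconj_sub_one_pow hGu, Module.End.mul_apply]
  have hβ : betaU B u' (G v) = c * betaU B u v := by
    unfold betaU
    rw [hpw, ← hh1, hhc, LinearMap.add_apply, LinearMap.smul_apply, Module.End.one_apply, hr.eq,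
      Module.End.mul_apply, map_add, LinearMap.add_apply, map_smul, LinearMap.smul_apply,
      bilin_sub_one_apply_fixed hu (fixed_top hn hpos v), add_zero, smul_eq_mul]
  have hGv : betaU B u' (G v) ≠ 0 := by
    apply betaU_ne_zero hB.2 hu' h1' hn' hpos
    rw [hpw]
    intro h0
    exact pow_apply_ne_zero_of_betaU hv (g₀.map_eq_zero_iff.1 h0)
  have hcsq : IsSquare c := by
    by_contra hc
    have e1 := Cfsg.Agent.Lib.Helper49.isSquare_mul_iff_of_not_isSquare h2 hc hv
    have e2 := isSquare_betaU_iff hu' h1' hn' hpos hGv hv'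
    rw [hβ] at e2
    have e3 : IsSquare (betaU B u v) ↔ ¬ IsSquare (betaU B u v) := by
      rw [← e1, e2, hsq]
    exact iff_not_self e3
  obtain ⟨s, rfl⟩ := hcsq
  have hs0 : s ≠ 0 := by
    rintro rfl
    apply hGv
    rw [hβ]
    simp
  obtain ⟨p, hp⟩ := CharP.exists K
  have := hp
  have : Fact p.Prime := ⟨CharP.char_is_prime K p⟩
  have hp2 : p ≠ 2 := by
    rintro rfl
    apply h2
    exact_mod_cast CharP.cast_eq_zero K 2
  obtain ⟨b, hbs, hbc, hb⟩ := exists_inv_sqrt hp2 hs0 ⟨_, hn⟩ hr hhc hself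
  have hbu : Commute b u := by
    have := hbc.add_right (Commute.one_right b)
    rwa [sub_add_cancel] at this
  refine ⟨G * b, ?_, ?_⟩
  · intro x w
    rw [Module.End.mul_apply, Module.End.mul_apply, ← hh1, ← hbs, ← Module.End.mul_apply,
      ← Module.End.mul_apply, hb, Module.End.one_apply]
  · rw [mul_assoc, hbu.eq, ← mul_assoc, hGu, mul_assoc]

end Abs

end Cfsg.Agent.Lib.Helper48
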