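import Mathlib
import Cfsg.Agent.Lib.Helper48.RegUnipClass
import Cfsg.Agent.Lib.Helper48.JordanBlock

set_option autoImplicit false
set_option linter.unusedSectionVars false

namespace Cfsg.Agent.Lib.Helper48

open Module LinearMap Polynomial

section Abs

variable {K V : Type*} [Field K] [AddCommGroup V] [Module K V] [FiniteDimensional K V]
variable {B : LinearMap.BilinForm K V}

/-- the inverse Cayley transform of a regular nilpotent is regular unipotent -/
theorem reg_cayInv (h2 : (2 : K) ≠ 0) {y : End K V} (h1 : finrank K (ker y) ≤ 1)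
    (hn : y ^ finrank K V = 0) :
    finrank K (ker (cayInv y - 1)) ≤ 1 ∧ (cayInv y - 1) ^ finrank K V = 0 := by
  have hnil : IsNilpotent y := ⟨_, hn⟩
  have e : (cayInv y - 1) * (1 - y) = (2 : K) • y := by
    rw [sub_mul, cayInv_mul hnil, one_mul, two_smul]
    abel
  have hc : Commute (cayInv y - 1) (1 - y) := by
    have h := commute_cayInv hnil (Commute.refl y)
    exact ((h.symm.sub_left (Commute.one_left y)).sub_right (Commute.one_right _)).neg_right |>.symm.symm
      |> fun h' => by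
        have e' : (1 - y) = -(y - 1) := by abel
        rw [e']
        exact h'
  constructor
  · refine le_trans (Submodule.finrank_mono ?_) h1
    intro x hx
    rw [LinearMap.mem_ker] at hx ⊢
    have h3 := congrArg (fun f : End K V => f x) (hc.eq.symm.trans e)
    simp only [Module.End.mul_apply, hx, map_zero, LinearMap.smul_apply] at h3
    exact (smul_eq_zero.1 h3.symm).resolve_left h2
  · have h3 : ((cayInv y - 1) * (1 - y)) ^ finrank K V = 0 := by
      rw [e, _root_.smul_pow, hn, smul_zero]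
    rw [hc.mul_pow] at h3
    exact ((hnil.isUnit_one_sub.pow _).mul_left_eq_zero).1 h3

theorem transport_reg {W : Type*} [AddCommGroup W] [Module K W] [FiniteDimensional K W]
    {C : LinearMap.BilinForm K W} (Φ : W ≃ₗ[K] V) (hΦ : ∀ x y, B (Φ x) (Φ y) = C x y)
    (u₀ : End K V) (hu : IsoB B u₀) (h1 : finrank K (ker (u₀ - 1)) ≤ 1)
    (hn : (u₀ - 1) ^ finrank K V = 0) (v₀ : V) :
    ∃ (u : End K W) (v : W), IsoB C u ∧ finrank K (ker (u - 1)) ≤ 1 ∧
      (u - 1) ^ finrank K W = 0 ∧ betaU C u v = betaU B u₀ v₀ := by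
  let u : End K W := (Φ.symm : V →ₗ[K] W) ∘ₗ u₀ ∘ₗ (Φ : W →ₗ[K] V)
  have hΦu : ∀ x, Φ (u x) = u₀ (Φ x) := fun x => by simp [u]
  have hΦN : ∀ x, Φ ((u - 1) x) = (u₀ - 1) (Φ x) := fun x => by
    simp only [LinearMap.sub_apply, Module.End.one_apply, map_sub, hΦu]
  have hΦk : ∀ (k : ℕ) (x : W), Φ (((u - 1) ^ k) x) = ((u₀ - 1) ^ k) (Φ x) := by
    intro k
    induction k with
    | zero => intro x; simp
    | succ k ih =>
      intro x
      rw [pow_succ', pow_succ', Module.End.mul_apply, Module.End.mul_apply, hΦN, ih]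
  have hdim : finrank K W = finrank K V := Φ.finrank_eq
  refine ⟨u, Φ.symm v₀, ?_, ?_, ?_, ?_⟩
  · intro x w
    rw [← hΦ, hΦu, hΦu, hu, hΦ]
  · have hk : ker (u - 1) = (ker (u₀ - 1)).comap (Φ : W →ₗ[K] V) := by
      ext x
      rw [Submodule.mem_comap, LinearMap.mem_ker, LinearMap.mem_ker, LinearEquiv.coe_coe, ← hΦN,
        Φ.map_eq_zero_iff]
    rw [hk, Submodule.comap_equiv_eq_map_symm, LinearEquiv.finrank_map_eq]
    exact h1
  · apply LinearMap.ext
    intro x
    apply Φ.injective
    rw [hΦk, hdim, hn]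
    simp
  · unfold betaU
    rw [← hΦ, hΦk, Φ.apply_symm_apply, hdim]

theorem IsoB.smul_form {u : End K V} (hu : IsoB B u) (t : K) : IsoB (t • B) u := by
  intro x w
  simp only [LinearMap.smul_apply, hu x w]

theorem betaU_smul_form (u : End K V) (t : K) (v : V) : betaU (t • B) u v = t * betaU B u v := by
  unfold betaU
  simp only [LinearMap.smul_apply, smul_eq_mul]

end Abs

section Concrete

variable (K : Type*) [Field K] (n : ℕ)

/-- the signed antidiagonal matrix -/
def antiM : Matrix (Fin n) (Fin n) K :=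
  Matrix.of fun i j => if (i : ℕ) + (j : ℕ) + 1 = n then (-1) ^ (i : ℕ) else 0

theorem antiM_skew : (Cfsg.jordanBlock n K - 1).transpose * antiM K n =
    - (antiM K n * (Cfsg.jordanBlock n K - 1)) := by
  ext i j
  rw [Matrix.neg_apply, Matrix.mul_apply, Matrix.mul_apply]
  simp only [Matrix.transpose_apply, jordanBlock_sub_one_apply, antiM, Matrix.of_apply]
  by_cases h : (i : ℕ) + (j : ℕ) + 2 = n
  · rw [Finset.sum_eq_single (⟨(i : ℕ) + 1, by omega⟩ : Fin n),
      Finset.sum_eq_single (⟨(j : ℕ) + 1, by omega⟩ : Fin n)]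
    · simp [show (i : ℕ) + 1 + (j : ℕ) + 1 = n by omega, show (i : ℕ) + ((j : ℕ) + 1) + 1 = n by omega,
        pow_succ]
    · intro k _ hk
      have : (k : ℕ) ≠ (j : ℕ) + 1 := fun h => hk (Fin.ext h)
      simp [this]
    · simp
    · intro k _ hk
      have : (k : ℕ) ≠ (i : ℕ) + 1 := fun h => hk (Fin.ext h)
      simp [this]
    · simp
  · rw [Finset.sum_eq_zero, Finset.sum_eq_zero]
    · simp
    · intro k _
      by_cases hk : (k : ℕ) = (j : ℕ) + 1
      · have : ¬ (i : ℕ) + (k : ℕ) + 1 = n := by omega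
        simp [this]
      · simp [hk]
    · intro k _
      by_cases hk : (k : ℕ) = (i : ℕ) + 1
      · have : ¬ (k : ℕ) + (j : ℕ) + 1 = n := by omega
        simp [this]
      · simp [hk]

theorem antiM_transpose (hn : Even n) : (antiM K n).transpose = - antiM K n := by
  ext i j
  simp only [Matrix.transpose_apply, Matrix.neg_apply, antiM, Matrix.of_apply]
  by_cases h : (i : ℕ) + (j : ℕ) + 1 = n
  · rw [if_pos h, if_pos (by omega)]
    have hodd : Odd ((i : ℕ) + (j : ℕ)) := by
      rcases hn with ⟨r, hr⟩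
      exact ⟨r - 1, by omega⟩
    have e : (-1 : K) ^ (i : ℕ) * (-1 : K) ^ (j : ℕ) = -1 := by
      rw [← pow_add, hodd.neg_one_pow]
    have e2 : (-1 : K) ^ (i : ℕ) * (-1 : K) ^ (i : ℕ) = 1 := by
      rw [← mul_pow]; simp
    calc (-1 : K) ^ (j : ℕ) = ((-1 : K) ^ (i : ℕ) * (-1 : K) ^ (i : ℕ)) * (-1 : K) ^ (j : ℕ) := by
          rw [e2, one_mul]
      _ = (-1 : K) ^ (i : ℕ) * ((-1 : K) ^ (i : ℕ) * (-1 : K) ^ (j : ℕ)) := by ring
      _ = - (-1 : K) ^ (i : ℕ) := by rw [e]; ring
  · rw [if_neg h, if_neg (by omega)]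
    simp

/-- the antidiagonal form -/
noncomputable def antiB : LinearMap.BilinForm K (Fin n → K) := Matrix.toBilin' (antiM K n)

theorem antiB_apply (x w : Fin n → K) : antiB K n x w = x ⬝ᵥ (antiM K n).mulVec w :=
  Matrix.toBilin'_apply' _ _ _

theorem antiB_skew : SkewB (antiB K n) (Matrix.mulVecLin (Cfsg.jordanBlock n K - 1)) := by
  intro x w
  rw [antiB_apply, antiB_apply, Matrix.mulVecLin_apply, Matrix.mulVecLin_apply,
    ← Matrix.vecMul_transpose, ← Matrix.dotProduct_mulVec, Matrix.mulVec_mulVec, antiM_skew,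
    Matrix.neg_mulVec, dotProduct_neg, Matrix.mulVec_mulVec]

theorem antiB_isAlt (h2 : (2 : K) ≠ 0) (hn : Even n) : (antiB K n).IsAlt := by
  intro x
  have h : antiB K n x x = - antiB K n x x := by
    conv_lhs => rw [antiB_apply, Matrix.dotProduct_mulVec, ← Matrix.mulVec_transpose,
      antiM_transpose K n hn, Matrix.neg_mulVec, neg_dotProduct, dotProduct_comm, ← antiB_apply]
  have h3 : (2 : K) * antiB K n x x = 0 := by
    rw [two_mul]
    nth_rewrite 1 [h]
    ring
  exact (mul_eq_zero.1 h3).resolve_left h2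

theorem antiB_nondeg (x : Fin n → K) (hx : ∀ w, antiB K n x w = 0) : x = 0 := by
  funext i
  have hi := i.2
  have h := hx (Pi.single (⟨n - 1 - (i : ℕ), by omega⟩ : Fin n) 1)
  rw [antiB_apply, Matrix.mulVec_single_one, dotProduct, Finset.sum_eq_single i] at h
  · simp only [Matrix.col_apply, antiM, Matrix.of_apply] at h
    rw [if_pos (by omega)] at h
    have hne : (-1 : K) ^ (i : ℕ) ≠ 0 := pow_ne_zero _ (by simp)
    exact (mul_eq_zero.1 h).resolve_right hne
  · intro k _ hk
    have : ¬ (k : ℕ) + (n - 1 - (i : ℕ)) + 1 = n := by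
      intro hh
      apply hk
      apply Fin.ext
      omega
    simp [antiM, this]
  · simp

end Concrete

end Cfsg.Agent.Lib.Helper48
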