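import Mathlib
import Cfsg.Agent.Lib.Helper48.RegUnipExist
import Cfsg.Agent.Lib.Helper48.OrthInvolMat

set_option autoImplicit false
set_option linter.unusedSectionVars false

namespace Cfsg.Agent.Lib.Helper48

open Module LinearMap Polynomial Cfsg.Agent.Lib.Helper17

variable {F : Type*} [Field F] {m : ℕ}

theorem exists_reg_label [Fintype F] (h2 : (2 : F) ≠ 0) (hm : 1 ≤ m) (l : Bool) :
    ∃ (u : End F (Fin m ⊕ Fin m → F)) (v : Fin m ⊕ Fin m → F), IsoB (sympB m F) u ∧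
      finrank F (ker (u - 1)) ≤ 1 ∧ (u - 1) ^ finrank F (Fin m ⊕ Fin m → F) = 0 ∧
      betaU (sympB m F) u v ≠ 0 ∧ (IsSquare (betaU (sympB m F) u v) ↔ l = true) := by
  set n := 2 * m with hn2
  let y : End F (Fin n → F) := Matrix.mulVecLin (Cfsg.jordanBlock n F - 1)
  have hdim₀ : finrank F (Fin n → F) = n := by simp
  have h1y : finrank F (ker y) ≤ 1 := by
    rw [finrank_ker_mulVecLin, jordanBlock_sub_one_rank]
    simp only [Fintype.card_fin]
    omega
  have hny : y ^ finrank F (Fin n → F) = 0 := by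
    rw [hdim₀, ← mulVecLin_pow, jordanBlock_sub_one_pow]
    simp
  have hu₀ : IsoB (antiB F n) (cayInv y) := isoB_cayInv ⟨_, hny⟩ (antiB_skew F n)
  obtain ⟨h1, hn⟩ := reg_cayInv h2 h1y hny
  have hev : Even n := ⟨m, by omega⟩
  have hAlt := antiB_isAlt F n h2 hev
  have hB2 : ∀ w, (∀ x, antiB F n x w = 0) → w = 0 := by
    intro w hw
    apply antiB_nondeg F n
    intro x
    rw [← hAlt.neg_eq, hw, neg_zero]
  have hpos : 0 < finrank F (Fin n → F) := by omega
  obtain ⟨v₀, hv₀⟩ := exists_betaU_ne_zero hB2 hu₀ h1 hn hpos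
  set κ := betaU (antiB F n) (cayInv y) v₀ with hκ
  obtain ⟨ε, hε⟩ := FiniteField.exists_nonsquare
    (Cfsg.Agent.Lib.Helper49.ringChar_ne_two_of_two_ne_zero h2)
  have hε0 : ε ≠ 0 := by
    rintro rfl
    exact hε ⟨0, by simp⟩
  obtain ⟨t, ht0, ht⟩ : ∃ t : F, t ≠ 0 ∧ (IsSquare (t * κ) ↔ l = true) := by
    cases l with
    | true => exact ⟨κ, hv₀, by simp⟩
    | false =>
      refine ⟨ε * κ, mul_ne_zero hε0 hv₀, ?_⟩
      rw [mul_assoc, Cfsg.Agent.Lib.Helper49.isSquare_mul_iff_of_not_isSquare h2 hε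
        (mul_ne_zero hv₀ hv₀)]
      simp
  have hAlt' : (t • antiB F n).IsAlt := by
    intro x
    rw [LinearMap.smul_apply, LinearMap.smul_apply, hAlt x, smul_zero]
  have hnd' : ∀ x, (∀ w, (t • antiB F n) x w = 0) → x = 0 := by
    intro x hx
    apply antiB_nondeg F n
    intro w
    have := hx w
    rw [LinearMap.smul_apply, LinearMap.smul_apply, smul_eq_mul] at this
    exact (mul_eq_zero.1 this).resolve_left ht0
  obtain ⟨Φ, hΦ⟩ := exists_symp_coords (t • antiB F n) hAlt' hnd' (k := m) hdim₀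
  obtain ⟨u, v, hu, hu1, hun, hβ⟩ := transport_reg (B := t • antiB F n) (C := sympB m F) Φ
    (fun x w => by rw [sympB_apply, hΦ]) (cayInv y) (hu₀.smul_form t) h1 hn v₀
  rw [betaU_smul_form] at hβ
  refine ⟨u, v, hu, hu1, hun, ?_, ?_⟩
  · rw [hβ]
    exact mul_ne_zero ht0 hv₀
  · rw [hβ]
    exact ht

/-- converse of `reg_hyps` -/
theorem reg_hyps_conv (A : Matrix (Fin m ⊕ Fin m) (Fin m ⊕ Fin m) F) (hm : 1 ≤ m)
    (h1 : finrank F (ker ((Matrix.mulVecLin A : End F (Fin m ⊕ Fin m → F)) - 1)) ≤ 1)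
    (hn : ((Matrix.mulVecLin A : End F (Fin m ⊕ Fin m → F)) - 1) ^
      finrank F (Fin m ⊕ Fin m → F) = 0) :
    (A - 1) ^ (2 * m) = 0 ∧ (A - 1).rank = 2 * m - 1 := by
  have hdim : finrank F (Fin m ⊕ Fin m → F) = 2 * m := by
    rw [Module.finrank_pi]
    simp only [Fintype.card_sum, Fintype.card_fin]
    omega
  constructor
  · apply mulVecLin_inj
    rw [mulVecLin_pow, ← mulVecLin_sub_one, ← hdim, hn]
    simp
  · have h := finrank_ker_pow_eq _ h1 hn 1 (by omega)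
    rw [pow_one, mulVecLin_sub_one, finrank_ker_mulVecLin] at h
    simp only [Fintype.card_sum, Fintype.card_fin] at h
    have h3 := Matrix.rank_le_card_width (A - 1)
    simp only [Fintype.card_sum, Fintype.card_fin] at h3
    omega

theorem mulVecLin_spOfLinear (g : End F (Fin m ⊕ Fin m → F))
    (hg : ∀ x w, Cfsg.sympForm m F (g x) (g w) = Cfsg.sympForm m F x w) :
    Matrix.mulVecLin ((spOfLinear m g hg : Matrix.symplecticGroup (Fin m) F) :
        Matrix (Fin m ⊕ Fin m) (Fin m ⊕ Fin m) F) = g := by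
  apply LinearMap.ext
  intro x
  rw [Matrix.mulVecLin_apply, spOfLinear_mulVec]

theorem isConj_sp_iff (a b : Matrix.symplecticGroup (Fin m) F) :
    IsConj a b ↔ ∃ g : End F (Fin m ⊕ Fin m → F), IsoB (sympB m F) g ∧
      g * Matrix.mulVecLin (a : Matrix (Fin m ⊕ Fin m) (Fin m ⊕ Fin m) F) =
        Matrix.mulVecLin (b : Matrix (Fin m ⊕ Fin m) (Fin m ⊕ Fin m) F) * g := by
  rw [isConj_iff]
  constructor
  · rintro ⟨c, hc⟩
    refine ⟨Matrix.mulVecLin (c : Matrix (Fin m ⊕ Fin m) (Fin m ⊕ Fin m) F), isoB_mulVecLin c, ?_⟩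
    have h : c * a = b * c := by rw [← hc]; group
    have h' := congrArg (fun A : Matrix.symplecticGroup (Fin m) F =>
      (A : Matrix (Fin m ⊕ Fin m) (Fin m ⊕ Fin m) F)) h
    simp only [Submonoid.coe_mul] at h'
    rw [Module.End.mul_eq_comp, Module.End.mul_eq_comp, ← Matrix.mulVecLin_mul,
      ← Matrix.mulVecLin_mul, h']
  · rintro ⟨g, hgi, hg⟩
    have hg' : ∀ x w, Cfsg.sympForm m F (g x) (g w) = Cfsg.sympForm m F x w := by
      intro x w
      rw [← sympB_apply, ← sympB_apply]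
      exact hgi x w
    refine ⟨spOfLinear m g hg', ?_⟩
    rw [mul_inv_eq_iff_eq_mul]
    apply Subtype.ext
    apply mulVecLin_inj
    rw [Submonoid.coe_mul, Submonoid.coe_mul, Matrix.mulVecLin_mul, Matrix.mulVecLin_mul,
      mulVecLin_spOfLinear]
    exact hg

theorem card_reg_unipotent_classes_sp [Fintype F] (h2 : (2 : F) ≠ 0) (hm : 1 ≤ m) :
    Nat.card {C : ConjClasses ↥(Matrix.symplecticGroup (Fin m) F) //
      ∃ u : Matrix.symplecticGroup (Fin m) F, ConjClasses.mk u = C ∧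
        ((u : Matrix (Fin m ⊕ Fin m) (Fin m ⊕ Fin m) F) - 1) ^ (2 * m) = 0 ∧
        ((u : Matrix (Fin m ⊕ Fin m) (Fin m ⊕ Fin m) F) - 1).rank = 2 * m - 1} = 2 := by
  classical
  have hnd := sympB_nondegenerate (F := F) m
  have hA := sympB_isAlt (F := F) m
  have key := card_classes_of_relation (G := ↥(Matrix.symplecticGroup (Fin m) F)) (L := Bool)
    (fun u => ((u : Matrix (Fin m ⊕ Fin m) (Fin m ⊕ Fin m) F) - 1) ^ (2 * m) = 0 ∧
        ((u : Matrix (Fin m ⊕ Fin m) (Fin m ⊕ Fin m) F) - 1).rank = 2 * m - 1)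
    (fun u l => ∃ v, betaU (sympB m F) (Matrix.mulVecLin
        (u : Matrix (Fin m ⊕ Fin m) (Fin m ⊕ Fin m) F)) v ≠ 0 ∧
      (IsSquare (betaU (sympB m F) (Matrix.mulVecLin
        (u : Matrix (Fin m ⊕ Fin m) (Fin m ⊕ Fin m) F)) v) ↔ l = true)) ?_ ?_ ?_
  · rw [key]
    rfl
  · rintro a ⟨ha1, ha2⟩
    obtain ⟨hdim, h1, hn⟩ := reg_hyps _ ha1 ha2 hm
    obtain ⟨v, hv⟩ := exists_betaU_ne_zero hnd.2 (isoB_mulVecLin a) h1 hn (by omega)
    exact ⟨decide (IsSquare (betaU (sympB m F) (Matrix.mulVecLin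
        (a : Matrix (Fin m ⊕ Fin m) (Fin m ⊕ Fin m) F)) v)), v, hv, by simp⟩
  · rintro a b l l' ⟨ha1, ha2⟩ ⟨hb1, hb2⟩ ⟨v, hv, hl⟩ ⟨v', hv', hl'⟩
    obtain ⟨hdim, h1, hn⟩ := reg_hyps _ ha1 ha2 hm
    obtain ⟨-, h1', hn'⟩ := reg_hyps _ hb1 hb2 hm
    have hpos : 0 < finrank F (Fin m ⊕ Fin m → F) := by omega
    rw [isConj_sp_iff]
    constructor
    · rintro ⟨g, hgi, hg⟩
      have e := betaU_conj hgi hg v
      have e2 := isSquare_betaU_iff (isoB_mulVecLin b) h1' hn' hpos (v := g v) (v' := v')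
        (by rw [e]; exact hv) hv'
      rw [e, hl, hl'] at e2
      exact Bool.eq_iff_iff.2 e2
    · rintro rfl
      exact exists_iso_conj h2 hA hnd (isoB_mulVecLin a) (isoB_mulVecLin b) h1 hn h1' hn' hpos
        hv hv' (hl.trans hl'.symm)
  · intro l
    obtain ⟨u, v, hu, hu1, hun, hβ, hl⟩ := exists_reg_label (F := F) (m := m) h2 hm l
    have hg' : ∀ x w, Cfsg.sympForm m F (u x) (u w) = Cfsg.sympForm m F x w := by
      intro x w
      rw [← sympB_apply, ← sympB_apply]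
      exact hu x w
    refine ⟨spOfLinear m u hg', ?_, v, ?_, ?_⟩
    · apply reg_hyps_conv _ hm
      · rw [mulVecLin_spOfLinear]; exact hu1
      · rw [mulVecLin_spOfLinear]; exact hun
    · rw [mulVecLin_spOfLinear]; exact hβ
    · rw [mulVecLin_spOfLinear]; exact hl

end Cfsg.Agent.Lib.Helper48
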