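import Mathlib

set_option autoImplicit false
set_option linter.unusedSectionVars false

namespace Cfsg.Agent.Lib.Helper48

variable {L : Type*} [Group L] [Finite L]

theorem exists_orderOf_eq_of_dvd {d : ℕ} (y : L) (h : d ∣ orderOf y) : ∃ x : L, orderOf x = d :=
  ⟨y ^ (orderOf y / d), orderOf_pow_orderOf_div (orderOf_pos y).ne' h⟩

theorem orderOf_mult_zmod_dvd (r m : ℕ) (w : Multiplicative (Fin m → ZMod r)) : orderOf w ∣ r := by
  apply orderOf_dvd_of_pow_eq_one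
  change Multiplicative.ofAdd (r • Multiplicative.toAdd w) = 1
  have : r • Multiplicative.toAdd w = 0 := by
    funext i
    simp
  rw [this]
  rfl

theorem range_orderOf_prod3 (r m : ℕ) (hr : r.Prime) (M₁ M₂ : ℕ)
    (hM₁ : ∃ x : L, orderOf x = M₁) (hM₂ : ∃ x : L, orderOf x = M₂)
    (hrL : ∃ x : L, orderOf x = r)
    (H : ∀ x : L, (∃ y : L, orderOf x ∣ orderOf y ∧ r ∣ orderOf y) ∨ orderOf x ∣ M₁ ∨
      orderOf x ∣ M₂) :
    Set.range (orderOf : L × L × L × Multiplicative (Fin m → ZMod r) → ℕ) =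
      Set.range (orderOf : L × L × L → ℕ) := by
  obtain ⟨ρ, hρ⟩ := hrL
  obtain ⟨μ₁, hμ₁⟩ := hM₁
  obtain ⟨μ₂, hμ₂⟩ := hM₂
  apply Set.Subset.antisymm
  · rintro _ ⟨⟨x, y, z, w⟩, rfl⟩
    simp only [Prod.orderOf_mk, Set.mem_range, Prod.exists]
    rcases (Nat.dvd_prime hr).1 (orderOf_mult_zmod_dvd r m w) with hw | hw
    · exact ⟨x, y, z, by rw [hw, Nat.lcm_one_right]⟩
    rw [hw]
    have good : ∀ u : L, (∃ y : L, orderOf u ∣ orderOf y ∧ r ∣ orderOf y) →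
        ∃ u' : L, orderOf u' = Nat.lcm (orderOf u) r := by
      rintro u ⟨v, h1, h2⟩
      exact exists_orderOf_eq_of_dvd v (Nat.lcm_dvd h1 h2)
    have merge : ∀ (u v μ : L), orderOf u ∣ orderOf μ → orderOf v ∣ orderOf μ →
        ∃ u' : L, orderOf u' = Nat.lcm (orderOf u) (orderOf v) := by
      intro u v μ h1 h2
      exact exists_orderOf_eq_of_dvd μ (Nat.lcm_dvd h1 h2)
    have mxy : (∃ u' : L, orderOf u' = Nat.lcm (orderOf x) (orderOf y)) →
        ∃ a b c : L, (orderOf a).lcm ((orderOf b).lcm (orderOf c)) =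
          (orderOf x).lcm ((orderOf y).lcm ((orderOf z).lcm r)) := by
      rintro ⟨u', hu'⟩
      exact ⟨u', z, ρ, by rw [hu', hρ, Nat.lcm_assoc]⟩
    have mxz : (∃ u' : L, orderOf u' = Nat.lcm (orderOf x) (orderOf z)) →
        ∃ a b c : L, (orderOf a).lcm ((orderOf b).lcm (orderOf c)) =
          (orderOf x).lcm ((orderOf y).lcm ((orderOf z).lcm r)) := by
      rintro ⟨u', hu'⟩
      refine ⟨u', y, ρ, ?_⟩
      rw [hu', hρ, Nat.lcm_assoc, ← Nat.lcm_assoc (orderOf z), Nat.lcm_comm (orderOf z),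
        Nat.lcm_assoc (orderOf y)]
    have myz : (∃ u' : L, orderOf u' = Nat.lcm (orderOf y) (orderOf z)) →
        ∃ a b c : L, (orderOf a).lcm ((orderOf b).lcm (orderOf c)) =
          (orderOf x).lcm ((orderOf y).lcm ((orderOf z).lcm r)) := by
      rintro ⟨u', hu'⟩
      exact ⟨x, u', ρ, by rw [hu', hρ, Nat.lcm_assoc]⟩
    rcases H x with hx | hx
    · obtain ⟨x', hx'⟩ := good x hx
      refine ⟨x', y, z, ?_⟩
      rw [hx', Nat.lcm_assoc, Nat.lcm_comm r, Nat.lcm_assoc (orderOf y)]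
    rcases H y with hy | hy
    · obtain ⟨y', hy'⟩ := good y hy
      refine ⟨x, y', z, ?_⟩
      rw [hy', Nat.lcm_assoc, Nat.lcm_comm r]
    rcases H z with hz | hz
    · obtain ⟨z', hz'⟩ := good z hz
      exact ⟨x, y, z', by rw [hz']⟩
    rw [← hμ₁, ← hμ₂] at hx hy hz
    rcases hx with hx | hx <;> rcases hy with hy | hy <;> rcases hz with hz | hz
    · exact mxy (merge x y μ₁ hx hy)
    · exact mxy (merge x y μ₁ hx hy)
    · exact mxz (merge x z μ₁ hx hz)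
    · exact myz (merge y z μ₂ hy hz)
    · exact myz (merge y z μ₁ hy hz)
    · exact mxz (merge x z μ₂ hx hz)
    · exact mxy (merge x y μ₂ hx hy)
    · exact mxy (merge x y μ₂ hx hy)
  · rintro _ ⟨⟨x, y, z⟩, rfl⟩
    exact ⟨(x, y, z, 1), by simp [Prod.orderOf_mk]⟩

theorem range_orderOf_prod2 (r m : ℕ) (hr : r.Prime) (M₁ : ℕ)
    (hM₁ : ∃ x : L, orderOf x = M₁) (hrL : ∃ x : L, orderOf x = r)
    (H : ∀ x : L, (∃ y : L, orderOf x ∣ orderOf y ∧ r ∣ orderOf y) ∨ orderOf x ∣ M₁) :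
    Set.range (orderOf : L × L × Multiplicative (Fin m → ZMod r) → ℕ) =
      Set.range (orderOf : L × L → ℕ) := by
  obtain ⟨ρ, hρ⟩ := hrL
  obtain ⟨μ₁, hμ₁⟩ := hM₁
  apply Set.Subset.antisymm
  · rintro _ ⟨⟨x, y, w⟩, rfl⟩
    simp only [Prod.orderOf_mk, Set.mem_range, Prod.exists]
    rcases (Nat.dvd_prime hr).1 (orderOf_mult_zmod_dvd r m w) with hw | hw
    · exact ⟨x, y, by rw [hw, Nat.lcm_one_right]⟩
    rw [hw]
    have good : ∀ u : L, (∃ y : L, orderOf u ∣ orderOf y ∧ r ∣ orderOf y) →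
        ∃ u' : L, orderOf u' = Nat.lcm (orderOf u) r := by
      rintro u ⟨v, h1, h2⟩
      exact exists_orderOf_eq_of_dvd v (Nat.lcm_dvd h1 h2)
    rcases H x with hx | hx
    · obtain ⟨x', hx'⟩ := good x hx
      refine ⟨x', y, ?_⟩
      rw [hx', Nat.lcm_assoc, Nat.lcm_comm r]
    rcases H y with hy | hy
    · obtain ⟨y', hy'⟩ := good y hy
      exact ⟨x, y', by rw [hy']⟩
    rw [← hμ₁] at hx hy
    obtain ⟨u', hu'⟩ := exists_orderOf_eq_of_dvd μ₁ (Nat.lcm_dvd hx hy)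
    exact ⟨u', ρ, by rw [hu', hρ, Nat.lcm_assoc]⟩
  · rintro _ ⟨⟨x, y⟩, rfl⟩
    exact ⟨(x, y, 1), by simp [Prod.orderOf_mk]⟩

end Cfsg.Agent.Lib.Helper48
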