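import Mathlib
import Cfsg.Agent.Lib.Helper48.RegUnipSpClass
import Cfsg.Agent.Lib.Helper43.PSpRank
import Cfsg.Agent.Lib.Helper48.SpecProd
import Cfsg.Agent.Lib.Helper48.ProjOrd

set_option autoImplicit false
set_option linter.unusedSectionVars false

namespace Cfsg.Agent.Lib.Helper48

open Module LinearMap Cfsg.Agent.Lib.Helper17

variable {F : Type*} [Field F]

/-- order of the image in `PSp` -/
theorem orderOf_mk_sp_dvd_iff {n : ℕ} (A : Matrix.symplecticGroup (Fin n) F) (j : ℕ) :
    orderOf (QuotientGroup.mk A : Cfsg.PSp n F) ∣ j ↔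
      (A ^ j = 1 ∨ ((A ^ j : Matrix.symplecticGroup (Fin n) F) :
        Matrix (Fin n ⊕ Fin n) (Fin n ⊕ Fin n) F) = -1) := by
  rw [orderOf_dvd_iff_pow_eq_one, ← QuotientGroup.mk_pow, QuotientGroup.eq_one_iff]
  constructor
  · intro h
    rcases Cfsg.Agent.Lib.Helper43.sp_center_coe n _ h with h1 | h1
    · left
      exact Subtype.ext h1
    · right
      exact h1
  · intro h
    rw [Subgroup.mem_center_iff]
    intro g
    rcases h with h | h
    · rw [h, mul_one, one_mul]
    · apply Subtype.ext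
      change (g : Matrix (Fin n ⊕ Fin n) (Fin n ⊕ Fin n) F) * _ = _ * _
      rw [h, mul_neg, neg_mul, mul_one, one_mul]

theorem orderOf_sp_dvd_two_mul {n : ℕ} (A : Matrix.symplecticGroup (Fin n) F) :
    orderOf A ∣ 2 * orderOf (QuotientGroup.mk A : Cfsg.PSp n F) := by
  apply orderOf_dvd_of_pow_eq_one
  rw [mul_comm, pow_mul]
  rcases (orderOf_mk_sp_dvd_iff A _).1 dvd_rfl with h | h
  · rw [h, one_pow]
  · apply Subtype.ext
    change ((_ : Matrix.symplecticGroup (Fin n) F) :
      Matrix (Fin n ⊕ Fin n) (Fin n ⊕ Fin n) F) ^ 2 = 1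
    rw [h]
    simp

/-- transport of an isometry of an abstract symplectic space to the matrix group -/
theorem exists_sp_of_isoB {V : Type*} [AddCommGroup V] [Module F V] [FiniteDimensional F V]
    (B : LinearMap.BilinForm F V) (hA : B.IsAlt) (hnd : ∀ x, (∀ y, B x y = 0) → x = 0) {n : ℕ}
    (hdim : finrank F V = 2 * n) (T : End F V) (hT : IsoB B T) :
    ∃ A : Matrix.symplecticGroup (Fin n) F, ∀ j : ℕ, (A ^ j = 1 ↔ T ^ j = 1) ∧
      (((A ^ j : Matrix.symplecticGroup (Fin n) F) :
        Matrix (Fin n ⊕ Fin n) (Fin n ⊕ Fin n) F) = -1 ↔ T ^ j = -1) := by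
  obtain ⟨Φ, hΦ⟩ := exists_symp_coords B hA hnd hdim
  let T' : End F (Fin n ⊕ Fin n → F) := Φ.symm.conj T
  have hT' : ∀ x, T' x = Φ.symm (T (Φ x)) := fun x => by
    simp [T', LinearEquiv.conj_apply]
  have hiso : ∀ u v, Cfsg.sympForm n F (T' u) (T' v) = Cfsg.sympForm n F u v := by
    intro u v
    rw [← hΦ, ← hΦ, hT', hT', Φ.apply_symm_apply, Φ.apply_symm_apply, hT]
  refine ⟨spOfLinear n T' hiso, fun j => ?_⟩
  have hpow : Matrix.mulVecLin (((spOfLinear n T' hiso) ^ j : Matrix.symplecticGroup (Fin n) F) :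
      Matrix (Fin n ⊕ Fin n) (Fin n ⊕ Fin n) F) = Φ.symm.conj (T ^ j) := by
    have h1 : (((spOfLinear n T' hiso) ^ j : Matrix.symplecticGroup (Fin n) F) :
      Matrix (Fin n ⊕ Fin n) (Fin n ⊕ Fin n) F) =
      ((spOfLinear n T' hiso : Matrix.symplecticGroup (Fin n) F) :
      Matrix (Fin n ⊕ Fin n) (Fin n ⊕ Fin n) F) ^ j := rfl
    rw [h1, mulVecLin_pow, mulVecLin_spOfLinear]
    exact conj_pow' Φ.symm T j
  constructor
  · constructor
    · intro h
      rw [h] at hpow
      have h2 : Φ.symm.conj (T ^ j) = Φ.symm.conj 1 := by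
        rw [← hpow, conj_one']
        simp [Module.End.one_eq_id]
      exact Φ.symm.conj.injective h2
    · intro h
      apply Subtype.ext
      apply mulVecLin_inj
      rw [hpow, h, conj_one']
      simp [Module.End.one_eq_id]
  · constructor
    · intro h
      rw [h] at hpow
      have h2 : Φ.symm.conj (T ^ j) = Φ.symm.conj (-1) := by
        rw [← hpow, map_neg, conj_one']
        apply LinearMap.ext
        intro x
        simp
      exact Φ.symm.conj.injective h2
    · intro h
      apply mulVecLin_inj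
      rw [hpow, h, map_neg, conj_one']
      apply LinearMap.ext
      intro x
      simp

/-- the operator of a symplectic matrix -/
theorem sp_pow_iff {n : ℕ} (A : Matrix.symplecticGroup (Fin n) F) (j : ℕ) :
    (A ^ j = 1 ↔ (Matrix.mulVecLin (A : Matrix (Fin n ⊕ Fin n) (Fin n ⊕ Fin n) F) :
      End F (Fin n ⊕ Fin n → F)) ^ j = 1) ∧
    (((A ^ j : Matrix.symplecticGroup (Fin n) F) :
        Matrix (Fin n ⊕ Fin n) (Fin n ⊕ Fin n) F) = -1 ↔
      (Matrix.mulVecLin (A : Matrix (Fin n ⊕ Fin n) (Fin n ⊕ Fin n) F) :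
      End F (Fin n ⊕ Fin n → F)) ^ j = -1) := by
  have h1 : ((A ^ j : Matrix.symplecticGroup (Fin n) F) :
      Matrix (Fin n ⊕ Fin n) (Fin n ⊕ Fin n) F) =
      (A : Matrix (Fin n ⊕ Fin n) (Fin n ⊕ Fin n) F) ^ j := rfl
  rw [← mulVecLin_pow, ← h1]
  constructor
  · constructor
    · intro h
      rw [h]
      simp [Module.End.one_eq_id]
    · intro h
      apply Subtype.ext
      apply mulVecLin_inj
      rw [h]
      simp [Module.End.one_eq_id]
  · constructor
    · intro h
      rw [h]
      apply LinearMap.ext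
      intro x
      simp
    · intro h
      apply mulVecLin_inj
      rw [h]
      apply LinearMap.ext
      intro x
      simp

end Cfsg.Agent.Lib.Helper48
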