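import Mathlib
import Cfsg.Agent.Lib.Helper48.SpProj
import Cfsg.Agent.Lib.Helper48.GLOrders
import Cfsg.Agent.Lib.Helper48.JordanReal
import Cfsg.Agent.Lib.Helper44.LawEmbed

set_option autoImplicit false
set_option linter.unusedSectionVars false

namespace Cfsg.Agent.Lib.Helper48

open Module LinearMap Cfsg.Agent.Lib.Helper17

section Invol

variable {F : Type*} [Field F] {V : Type*} [AddCommGroup V] [Module F V]

theorem one_ne_neg_one_of_ne (h2 : (2 : F) ≠ 0) {ζ : End F V} (h1 : ζ ≠ 1) :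
    (1 : End F V) ≠ -1 := by
  intro h
  apply h1
  have h3 : (2 : F) • (1 : End F V) = 0 := by
    rw [two_smul]
    nth_rewrite 2 [h]
    rw [add_neg_cancel]
  have h4 : (1 : End F V) = 0 := by
    rcases smul_eq_zero.1 h3 with h | h
    · exact absurd h h2
    · exact h
  rw [← mul_one ζ, h4, mul_zero]

/-- product of an element of odd order and a commuting non central involution -/
theorem po2_mul_invol (h2 : (2 : F) ≠ 0) (T ζ : End F V) (hc : Commute T ζ) (hζ : ζ * ζ = 1)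
    (h1 : ζ ≠ 1) (hm1 : ζ ≠ -1) (a : ℕ) (ha : Odd a) (hT : ∀ j, T ^ j = 1 ↔ a ∣ j) (j : ℕ) :
    ((T * ζ) ^ j = 1 ∨ (T * ζ) ^ j = -1) ↔ 2 * a ∣ j := by
  have hne := one_ne_neg_one_of_ne h2 h1
  have hζe : ∀ i, ζ ^ (2 * i) = 1 := fun i => by rw [pow_mul, pow_two, hζ, one_pow]
  have hζo : ∀ i, ζ ^ (2 * i + 1) = ζ := fun i => by rw [pow_succ, hζe, one_mul]
  have hcop : Nat.Coprime a 2 := Nat.Coprime.symm (Nat.coprime_two_left.2 ha)
  rw [hc.mul_pow]
  rcases Nat.even_or_odd' j with ⟨i, rfl | rfl⟩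
  · rw [hζe, mul_one, hT]
    constructor
    · rintro (h | h)
      · exact Nat.mul_dvd_mul_left 2 (hcop.dvd_of_dvd_mul_left h)
      · exfalso
        apply hne
        have h3 : (T ^ (2 * i)) ^ a = 1 := by
          rw [← pow_mul, hT]
          exact dvd_mul_left _ _
        rw [h, ha.neg_one_pow] at h3
        exact h3.symm
    · intro h
      left
      exact (dvd_mul_left a 2).trans h
  · rw [hζo]
    constructor
    · intro h
      exfalso
      obtain ⟨b, hb⟩ := ha
      have h3 : (T ^ (2 * i + 1) * ζ) ^ a = ζ := by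
        rw [(hc.pow_left _).mul_pow, ← pow_mul, (hT _).2 (dvd_mul_left _ _), one_mul, hb, hζo]
      rcases h with h | h
      · rw [h, one_pow] at h3
        exact h1 h3.symm
      · rw [h, (show Odd a from ⟨b, hb⟩).neg_one_pow] at h3
        exact hm1 h3.symm
    · intro h
      exfalso
      have : 2 ∣ 2 * i + 1 := (dvd_mul_right 2 a).trans h
      omega

end Invol

section Cert

variable {F : Type*} [Field F] [Finite F]

/-- block sums give even orders in `PSp` -/
theorem exists_PSp_two_mul (h2 : (2 : F) ≠ 0) {n₁ n₂ n : ℕ} (h₁ : 1 ≤ n₁) (h₂ : 1 ≤ n₂)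
    (hn : n₁ + n₂ = n)
    (A₁ : Matrix.symplecticGroup (Fin n₁) F) (A₂ : Matrix.symplecticGroup (Fin n₂) F) (a : ℕ)
    (ha : Odd a) (hdvd : a ∣ Nat.lcm (orderOf A₁) (orderOf A₂)) :
    ∃ y : Cfsg.PSp n F, orderOf y = 2 * a := by
  have : Nonempty (Fin n₁) := ⟨⟨0, h₁⟩⟩
  have : Nonempty (Fin n₂) := ⟨⟨0, h₂⟩⟩
  set V₁ := Fin n₁ ⊕ Fin n₁ → F
  set V₂ := Fin n₂ ⊕ Fin n₂ → F
  let C : LinearMap.BilinForm F (V₁ × V₂) :=
    (sympB n₁ F).comp (LinearMap.fst F _ _) (LinearMap.fst F _ _) +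
      (sympB n₂ F).comp (LinearMap.snd F _ _) (LinearMap.snd F _ _)
  have hC : ∀ p q, C p q = sympB n₁ F p.1 q.1 + sympB n₂ F p.2 q.2 := fun p q => rfl
  have hAlt : C.IsAlt := by
    intro x
    rw [hC, sympB_isAlt, sympB_isAlt, add_zero]
  have hnd : ∀ x, (∀ y, C x y = 0) → x = 0 := by
    rintro ⟨x₁, x₂⟩ hx
    have e1 : x₁ = 0 := by
      apply (sympB_nondegenerate (F := F) n₁).1
      intro y
      have := hx (y, 0)
      rw [hC] at this
      simpa using this
    have e2 : x₂ = 0 := by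
      apply (sympB_nondegenerate (F := F) n₂).1
      intro y
      have := hx (0, y)
      rw [hC] at this
      simpa using this
    rw [e1, e2]
    rfl
  have hdim : finrank F (V₁ × V₂) = 2 * n := by
    rw [finrank_prod, Module.finrank_fintype_fun_eq_card, Module.finrank_fintype_fun_eq_card]
    simp only [Fintype.card_sum, Fintype.card_fin]
    omega
  set T₁ : End F V₁ := Matrix.mulVecLin (A₁ : Matrix (Fin n₁ ⊕ Fin n₁) (Fin n₁ ⊕ Fin n₁) F)
  set T₂ : End F V₂ := Matrix.mulVecLin (A₂ : Matrix (Fin n₂ ⊕ Fin n₂) (Fin n₂ ⊕ Fin n₂) F)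
  set L := Nat.lcm (orderOf A₁) (orderOf A₂) with hL
  have hLpos : 0 < L := Nat.lcm_pos (orderOf_pos A₁) (orderOf_pos A₂)
  let T : End F (V₁ × V₂) := LinearMap.prodMap T₁ T₂
  have hprod1 : ∀ (f : End F V₁) (g : End F V₂),
      (LinearMap.prodMap f g : End F (V₁ × V₂)) = 1 ↔ f = 1 ∧ g = 1 := by
    intro f g
    constructor
    · intro h
      constructor
      · apply LinearMap.ext
        intro x
        have := congrArg (fun φ : End F (V₁ × V₂) => (φ (x, 0)).1) h
        simpa using this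
      · apply LinearMap.ext
        intro x
        have := congrArg (fun φ : End F (V₁ × V₂) => (φ (0, x)).2) h
        simpa using this
    · rintro ⟨rfl, rfl⟩
      apply LinearMap.ext
      rintro ⟨x, y⟩
      rfl
  have hTord : ∀ j, T ^ j = 1 ↔ L ∣ j := by
    intro j
    rw [prodMap_pow', hprod1, ← (sp_pow_iff A₁ j).1, ← (sp_pow_iff A₂ j).1,
      ← orderOf_dvd_iff_pow_eq_one, ← orderOf_dvd_iff_pow_eq_one, hL, Nat.lcm_dvd_iff]
  have hTiso : IsoB C T := by
    intro x w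
    rw [hC, hC]
    change sympB n₁ F (T₁ x.1) (T₁ w.1) + sympB n₂ F (T₂ x.2) (T₂ w.2) = _
    rw [isoB_mulVecLin A₁, isoB_mulVecLin A₂]
  have hpowiso : ∀ k, IsoB C (T ^ k) := by
    intro k
    induction k with
    | zero => intro x w; simp
    | succ k ih =>
      intro x w
      rw [pow_succ, Module.End.mul_apply, Module.End.mul_apply, ih, hTiso]
  obtain ⟨c, hc⟩ := hdvd
  have hcpos : 0 < c := by
    rcases Nat.eq_zero_or_pos c with h | h
    · rw [h, mul_zero] at hc; omega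
    · exact h
  have hT'ord : ∀ j, (T ^ c) ^ j = 1 ↔ a ∣ j := by
    intro j
    rw [← pow_mul, hTord, hc, mul_comm a c]
    exact Nat.mul_dvd_mul_iff_left hcpos
  let ζ : End F (V₁ × V₂) := LinearMap.prodMap 1 (-1)
  have hζiso : IsoB C ζ := by
    intro x w
    rw [hC, hC]
    change sympB n₁ F x.1 w.1 + sympB n₂ F (-x.2) (-w.2) = _
    simp
  have hζζ : ζ * ζ = 1 := by
    apply LinearMap.ext
    rintro ⟨x, y⟩
    simp only [ζ, Module.End.mul_apply, LinearMap.prodMap_apply, Module.End.one_apply,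
      LinearMap.neg_apply]
    exact congrArg (Prod.mk x) (neg_neg y)
  have hcomm : Commute (T ^ c) ζ := by
    apply Commute.pow_left
    apply LinearMap.ext
    rintro ⟨x, y⟩
    simp [T, ζ, Module.End.mul_apply]
  obtain ⟨v₁, hv₁⟩ := exists_ne (0 : V₁)
  obtain ⟨v₂, hv₂⟩ := exists_ne (0 : V₂)
  have hchar : ∀ {W : Type _} [AddCommGroup W] [Module F W] (v : W), v = -v → v = 0 := by
    intro W _ _ v hv
    have h3 : (2 : F) • v = 0 := by
      rw [two_smul]
      nth_rewrite 2 [hv]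
      rw [add_neg_cancel]
    exact (smul_eq_zero.1 h3).resolve_left h2
  have hζ1 : ζ ≠ 1 := by
    intro h
    have := congrArg (fun φ : End F (V₁ × V₂) => (φ (0, v₂)).2) h
    simp only [ζ, LinearMap.prodMap_apply, LinearMap.neg_apply, Module.End.one_apply] at this
    exact hv₂ (hchar v₂ this.symm)
  have hζm1 : ζ ≠ -1 := by
    intro h
    have := congrArg (fun φ : End F (V₁ × V₂) => (φ (v₁, 0)).1) h
    simp only [ζ, LinearMap.prodMap_apply, LinearMap.neg_apply, Module.End.one_apply,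
      Prod.fst_neg] at this
    exact hv₁ (hchar v₁ this)
  have hS : IsoB C (T ^ c * ζ) := by
    intro x w
    rw [Module.End.mul_apply, Module.End.mul_apply, hpowiso, hζiso]
  obtain ⟨A, hA⟩ := exists_sp_of_isoB C hAlt hnd hdim (T ^ c * ζ) hS
  refine ⟨QuotientGroup.mk A, ?_⟩
  have key : ∀ j, orderOf (QuotientGroup.mk A : Cfsg.PSp n F) ∣ j ↔ 2 * a ∣ j := by
    intro j
    rw [orderOf_mk_sp_dvd_iff, (hA j).1, (hA j).2,
      po2_mul_invol h2 (T ^ c) ζ hcomm hζζ hζ1 hζm1 a ha hT'ord]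
  exact Nat.dvd_antisymm ((key _).2 dvd_rfl) ((key _).1 dvd_rfl)

end Cert

end Cfsg.Agent.Lib.Helper48
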