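import Mathlib
import Cfsg.Agent.Lib.Helper48.RegNilp

set_option autoImplicit false

namespace Cfsg.Agent.Lib.Helper48

open Module LinearMap

variable {K V : Type*} [Field K] [AddCommGroup V] [Module K V]

theorem bilin_pow_shift (B : LinearMap.BilinForm K V) (A : End K V)
    (hA : ∀ x y, B (A x) (A y) = B x y) (j : ℕ) (x y : V) :
    B x (((A - 1) ^ j) y) = (-1) ^ j * B (((A - 1) ^ j) x) ((A ^ j) y) := by
  induction j generalizing x y with
  | zero => simp
  | succ j ih =>
    have hc : Commute (A ^ j) (A - 1) :=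
      ((Commute.refl A).sub_right (Commute.one_right A)).pow_left j
    have h1 : ∀ x' y' : V, B x' ((A - 1) y') = - B ((A - 1) x') (A y') := by
      intro x' y'
      simp only [LinearMap.sub_apply, Module.End.one_apply, map_sub, hA]
      ring
    have h2 : (A ^ j) ((A - 1) y) = (A - 1) ((A ^ j) y) := by
      have := congrArg (fun f : End K V => f y) hc.eq
      simpa [Module.End.mul_apply] using this
    calc B x (((A - 1) ^ (j + 1)) y) = B x (((A - 1) ^ j) ((A - 1) y)) := by
          rw [pow_succ, Module.End.mul_apply]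
      _ = (-1) ^ j * B (((A - 1) ^ j) x) ((A ^ j) ((A - 1) y)) := ih _ _
      _ = (-1) ^ j * B (((A - 1) ^ j) x) ((A - 1) ((A ^ j) y)) := by rw [h2]
      _ = (-1) ^ j * - B ((A - 1) (((A - 1) ^ j) x)) (A ((A ^ j) y)) := by rw [h1]
      _ = (-1) ^ (j + 1) * B (((A - 1) ^ (j + 1)) x) ((A ^ (j + 1)) y) := by
          rw [pow_succ' (A - 1), pow_succ' A, Module.End.mul_apply, Module.End.mul_apply]
          ring

variable [FiniteDimensional K V]

theorem range_pow_eq_ker_pow (N : End K V) (h1 : finrank K (ker N) ≤ 1)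
    (hn : N ^ finrank K V = 0) (k : ℕ) (hk : k ≤ finrank K V) :
    range (N ^ (finrank K V - k)) = ker (N ^ k) := by
  apply Submodule.eq_of_le_of_finrank_eq
  · rintro _ ⟨y, rfl⟩
    rw [LinearMap.mem_ker, ← Module.End.mul_apply, ← pow_add, Nat.add_sub_cancel' hk, hn]
    rfl
  · have h := (N ^ (finrank K V - k)).finrank_range_add_finrank_ker
    rw [finrank_ker_pow_eq N h1 hn _ (Nat.sub_le _ _)] at h
    rw [finrank_ker_pow_eq N h1 hn _ hk]
    omega

/-- Small invariant subspaces of a regular unipotent isometry are totally isotropic. -/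
theorem bilin_eq_zero_of_invariant (B : LinearMap.BilinForm K V) (A : End K V)
    (hA : ∀ x y, B (A x) (A y) = B x y) (h1 : finrank K (ker (A - 1)) ≤ 1)
    (hn : (A - 1) ^ finrank K V = 0) (W : Submodule K V) (hW : ∀ v ∈ W, A v ∈ W)
    (hdim : 2 * finrank K W ≤ finrank K V) : ∀ v ∈ W, ∀ w ∈ W, B v w = 0 := by
  have hW' : ∀ v ∈ W, (A - 1) v ∈ W := fun v hv => W.sub_mem (hW v hv) hv
  have hWk := eq_ker_pow_finrank (A - 1) h1 hn W hW'
  have hk : finrank K W ≤ finrank K V := Submodule.finrank_le W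
  have hWr := range_pow_eq_ker_pow (A - 1) h1 hn _ hk
  intro v hv w hw
  rw [hWk, ← hWr] at hw
  obtain ⟨y, rfl⟩ := hw
  rw [bilin_pow_shift B A hA]
  have hv0 : ((A - 1) ^ (finrank K V - finrank K W)) v = 0 := by
    rw [hWk] at hv
    have : finrank K V - finrank K W = (finrank K V - finrank K W - finrank K W) + finrank K W := by
      omega
    rw [this, pow_add, Module.End.mul_apply, LinearMap.mem_ker.1 hv, map_zero]
  rw [hv0]
  simp

end Cfsg.Agent.Lib.Helper48
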