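import Mathlib
import Cfsg.Agent.Lib.Helper48.JordanConj
import Cfsg.Agent.Lib.Helper48.RegNilpForm
import Cfsg.Agent.Lib.Helper48.RegUnipSp
import Cfsg.Agent.Lib.Helper99.AltDerange

set_option autoImplicit false
set_option linter.unusedSectionVars false

namespace Cfsg.Agent.Lib.Helper48

open Module LinearMap

variable {K V : Type*} [Field K] [AddCommGroup V] [Module K V] [FiniteDimensional K V]

/-- an alternating form has even rank -/
theorem even_finrank_add_finrank_ker_of_isAlt (C : LinearMap.BilinForm K V) (hC : C.IsAlt) :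
    Even (finrank K V + finrank K (ker C)) := by
  obtain ⟨W, hW⟩ := Submodule.exists_isCompl (ker C)
  have hnd : Cfsg.Agent.Lib.Helper99.NondegOn C W := by
    intro w hw hw0
    by_contra hcon
    push Not at hcon
    apply hw0
    have hker : w ∈ ker C := by
      rw [LinearMap.mem_ker]
      apply LinearMap.ext
      intro x
      have hx : x ∈ ker C ⊔ W := by rw [hW.sup_eq_top]; exact Submodule.mem_top
      obtain ⟨r, hr, w', hw', rfl⟩ := Submodule.mem_sup.1 hx
      rw [map_add, hcon w' hw', add_zero, ← hC.neg_eq, LinearMap.mem_ker.1 hr]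
      simp
    have : w ∈ ker C ⊓ W := ⟨hker, hw⟩
    rw [hW.inf_eq_bot] at this
    exact (Submodule.mem_bot K).1 this
  have he := Cfsg.Agent.Lib.Helper99.even_finrank_of_nondegOn hC hnd
  have hdim := Submodule.finrank_add_eq_of_isCompl hW
  rw [← hdim]
  obtain ⟨c, hc⟩ := he
  exact ⟨finrank K (ker C) + c, by omega⟩

/-- even powers of `u - 1`, `u` a unipotent isometry of an alternating form, have even rank -/
theorem even_finrank_ker_pow_of_isAlt {B : LinearMap.BilinForm K V} (hA : B.IsAlt)
    (hB1 : ∀ x, (∀ w, B x w = 0) → x = 0) {u : End K V} (hu : IsoB B u)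
    (hN : IsNilpotent (u - 1)) (l : ℕ) :
    Even (finrank K V + finrank K (ker ((u - 1) ^ (2 * l)))) := by
  let C : LinearMap.BilinForm K V := B.comp ((u - 1) ^ l) ((u - 1) ^ l)
  have hC : C.IsAlt := fun x => hA _
  have hunit : IsUnit (u ^ l) := by
    have e : u = 1 + (u - 1) := by abel
    have : IsUnit u := by
      rw [e]
      exact IsNilpotent.isUnit_one_add hN
    exact this.pow l
  obtain ⟨ui, hui⟩ := hunit.exists_right_inv
  have hui' : ∀ z, (u ^ l) (ui z) = z := fun z => congrArg (fun f : End K V => f z) hui
  have hker : ker C = ker ((u - 1) ^ (2 * l)) := by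
    ext x
    rw [LinearMap.mem_ker, LinearMap.mem_ker]
    have key : ∀ y, C x y = (-1) ^ l * B (((u - 1) ^ (2 * l)) x) ((u ^ l) y) := by
      intro y
      change B (((u - 1) ^ l) x) (((u - 1) ^ l) y) = _
      rw [bilin_pow_shift B u hu l, ← Module.End.mul_apply, ← pow_add, two_mul]
    constructor
    · intro h
      apply hB1
      intro z
      have h1 := key (ui z)
      rw [h, LinearMap.zero_apply, hui'] at h1
      have hne : ((-1 : K)) ^ l ≠ 0 := pow_ne_zero _ (by simp)
      exact (mul_eq_zero.1 h1.symm).resolve_left hne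
    · intro h
      apply LinearMap.ext
      intro y
      rw [key, h]
      simp
  rw [← hker]
  exact even_finrank_add_finrank_ker_of_isAlt C hC

/-- odd powers of a skew-adjoint endomorphism of a symmetric form have even rank -/
theorem even_finrank_ker_of_skew (h2 : (2 : K) ≠ 0) {B : LinearMap.BilinForm K V}
    (hS : ∀ x y, B x y = B y x) (hB1 : ∀ x, (∀ w, B x w = 0) → x = 0) {z : End K V}
    (hz : SkewB B z) : Even (finrank K V + finrank K (ker z)) := by
  let C : LinearMap.BilinForm K V := B.comp z LinearMap.id
  have hCa : ∀ x y, C x y = B (z x) y := fun x y => rfl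
  have hC : C.IsAlt := by
    intro x
    have h1 : B (z x) x = - B (z x) x := by
      conv_lhs => rw [hz, hS]
    have h3 : (2 : K) * B (z x) x = 0 := by
      rw [two_mul]
      nth_rewrite 1 [h1]
      ring
    exact (mul_eq_zero.1 h3).resolve_left h2
  have hker : ker C = ker z := by
    ext x
    rw [LinearMap.mem_ker, LinearMap.mem_ker]
    constructor
    · intro h
      apply hB1
      intro w
      rw [← hCa, h]
      rfl
    · intro h
      apply LinearMap.ext
      intro y
      rw [hCa, h]
      simp
  rw [← hker]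
  exact even_finrank_add_finrank_ker_of_isAlt C hC

/-- parity of multiplicities from parity of kernel dimensions -/
theorem even_count_of_even {N : End K V} {μ : Multiset ℕ} (h : JType N μ) (i : ℕ)
    (h1 : Even (finrank K V + finrank K (ker (N ^ i))))
    (h2 : Even (finrank K V + finrank K (ker (N ^ (i + 2))))) : Even (μ.count (i + 1)) := by
  have e := two_mul_sum_min μ i
  rw [← h i, ← h (i + 2)] at e
  obtain ⟨a, ha⟩ := h1
  obtain ⟨b, hb⟩ := h2
  rw [Nat.even_iff]
  omega

end Cfsg.Agent.Lib.Helper48
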