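import Mathlib
import Cfsg.Agent.Lib.Helper48.Cayley
import Cfsg.Agent.Lib.Helper48.RegNilpCent
import Cfsg.Agent.Lib.Helper50.SemiConj

set_option autoImplicit false
set_option linter.unusedSectionVars false

namespace Cfsg.Agent.Lib.Helper48

open Module LinearMap Polynomial

variable {F V : Type*} [Field F] [AddCommGroup V] [Module F V] {B : LinearMap.BilinForm F V}

theorem SelfB.aeval {c : End F V} (hc : SelfB B c) (P : F[X]) : SelfB B (aeval c P) := by
  induction P using Polynomial.induction_on' with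
  | add p q hp hq =>
    intro x w
    rw [map_add, LinearMap.add_apply, LinearMap.add_apply, map_add, LinearMap.add_apply, map_add,
      hp, hq]
  | monomial n a =>
    intro x w
    rw [aeval_monomial, Module.End.mul_apply, Module.End.mul_apply, Module.algebraMap_end_apply,
      Module.algebraMap_end_apply, map_smul, LinearMap.smul_apply, map_smul, hc.pow]

theorem SelfB.isoB_of_sq {ζ : End F V} (h : SelfB B ζ) (h2 : ζ * ζ = 1) : IsoB B ζ := fun x w => by
  rw [h, ← Module.End.mul_apply, h2, Module.End.one_apply]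

theorem SelfB.self_eq_zero (h2 : (2 : F) ≠ 0) (hA : B.IsAlt) {s : End F V} (hs : SelfB B s)
    (x : V) : B x (s x) = 0 := by
  have h1 : B x (s x) = - B x (s x) := by
    conv_lhs => rw [← hs, ← hA.neg_eq]
  have h3 : (2 : F) * B x (s x) = 0 := by linear_combination h1
  exact (mul_eq_zero.1 h3).resolve_left h2

theorem isUnit_of_aeval_eq_zero {c : End F V} {P : F[X]} (h0 : aeval c P = 0)
    (hP : P.coeff 0 ≠ 0) : IsUnit c := by
  have h1 := congrArg (aeval c) (Polynomial.divX_mul_X_add P)
  rw [map_add, map_mul, aeval_X, aeval_C, h0] at h1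
  set D := aeval c (divX P) with hD
  have hcomm : Commute c D := commute_aeval (Commute.refl c) _
  have h2 : D * c = -(algebraMap F (End F V) (P.coeff 0)) := eq_neg_of_add_eq_zero_left h1
  have h3 : (-(P.coeff 0)⁻¹ • D) * c = 1 := by
    rw [smul_mul_assoc, h2, Algebra.algebraMap_eq_smul_one, smul_neg, neg_smul, neg_neg, smul_smul,
      inv_mul_cancel₀ hP, one_smul]
  refine ⟨⟨c, -(P.coeff 0)⁻¹ • D, ?_, h3⟩, rfl⟩
  rw [mul_smul_comm, hcomm.eq, ← smul_mul_assoc]
  exact h3

/-- if no non central involution of the isometry group commutes with `T`, then a self-adjoint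
operator commuting with `T` is nilpotent or invertible -/
theorem nilpotent_or_unit_of_bad [FiniteDimensional F V] (h2 : (2 : F) ≠ 0) {T c : End F V}
    (hbad : ∀ ζ : End F V, IsoB B ζ → Commute T ζ → ζ * ζ = 1 → ζ = 1 ∨ ζ = -1)
    (hc : SelfB B c) (hcT : Commute T c) : IsNilpotent c ∨ IsUnit c := by
  have hm0 : minpoly F c ≠ 0 := minpoly.ne_zero (Algebra.IsIntegral.isIntegral c)
  obtain ⟨P, hmP, hXP⟩ :=
    Polynomial.exists_eq_pow_rootMultiplicity_mul_and_not_dvd (minpoly F c) hm0 0
  rw [C_0, sub_zero] at hmP hXP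
  set i := rootMultiplicity 0 (minpoly F c) with hi
  have hcop : IsCoprime (X ^ i) P :=
    ((Polynomial.irreducible_X).coprime_iff_not_dvd.2 hXP).pow_left
  obtain ⟨u, v, huv⟩ := hcop
  set ε := aeval c (u * X ^ i) with hε
  set ε' := aeval c (v * P) with hε'
  have hsum : ε + ε' = 1 := by rw [hε, hε', ← map_add, huv, map_one]
  have hζζ : aeval c (v * P - u * X ^ i) * aeval c (v * P - u * X ^ i) = 1 := by
    rw [← map_mul, show (v * P - u * X ^ i) * (v * P - u * X ^ i) =
      (u * X ^ i + v * P) * (u * X ^ i + v * P) - 4 * (u * v) * (X ^ i * P) by ring, huv, ← hmP,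
      map_sub, map_mul _ (4 * (u * v)), minpoly.aeval, mul_zero, sub_zero, one_mul, map_one]
  have hsmul : ∀ e : End F V, e + e = 0 → e = 0 := by
    intro e he
    rw [← two_smul F] at he
    exact (smul_eq_zero.1 he).resolve_left h2
  rcases hbad _ ((hc.aeval _).isoB_of_sq hζζ) (commute_aeval hcT _) hζζ with h | h
  · left
    rw [map_sub, ← hε, ← hε'] at h
    have h0 : ε = 0 := by
      apply hsmul
      calc ε + ε = (ε + ε') - (ε' - ε) := by abel
        _ = 0 := by rw [hsum, h, sub_self]
    rw [h0, zero_add] at hsum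
    refine ⟨i, ?_⟩
    have h3 : c ^ i * ε' = 0 := by
      rw [hε', ← aeval_X_pow (R := F), ← map_mul,
        show X ^ i * (v * P) = v * (X ^ i * P) by ring, ← hmP, map_mul, minpoly.aeval, mul_zero]
    rwa [hsum, mul_one] at h3
  · right
    rw [map_sub, ← hε, ← hε'] at h
    have h0 : ε' = 0 := by
      apply hsmul
      calc ε' + ε' = (ε + ε') + (ε' - ε) := by abel
        _ = 0 := by rw [hsum, h, add_neg_cancel]
    rw [h0, add_zero] at hsum
    apply isUnit_of_aeval_eq_zero (P := P) _ (by rwa [Polynomial.X_dvd_iff] at hXP)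
    have h3 : aeval c P * ε = 0 := by
      rw [hε, ← map_mul, show P * (u * X ^ i) = u * (X ^ i * P) by ring, ← hmP, map_mul,
        minpoly.aeval, mul_zero]
    rwa [hsum, mul_one] at h3

/-- the minimal polynomial of a self-adjoint operator of a symplectic space has degree at most
half the dimension (prime power case) -/
theorem mul_natDegree_le_of_selfB [FiniteDimensional F V] (h2 : (2 : F) ≠ 0) (hA : B.IsAlt)
    (hnd : B.Nondegenerate) {n : ℕ} (hdim : finrank F V = 2 * n) {c : End F V} (hc : SelfB B c)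
    {γ : F[X]} (hγ : Irreducible γ) {k : ℕ} (hk : 1 ≤ k) (hne : (aeval c γ) ^ (k - 1) ≠ 0)
    (h0 : (aeval c γ) ^ k = 0) : k * γ.natDegree ≤ n := by
  classical
  obtain ⟨x, hx⟩ : ∃ x, ((aeval c γ) ^ (k - 1)) x ≠ 0 := by
    by_contra hcon
    push Not at hcon
    exact hne (LinearMap.ext hcon)
  set N := k * γ.natDegree with hN
  let ψ : degreeLT F N →ₗ[F] V :=
    (Cfsg.Agent.Lib.Helper50.SemiConj.ev c x) ∘ₗ (degreeLT F N).subtype
  have hψ : ∀ P : degreeLT F N, ψ P = aeval c (P : F[X]) x := fun P => rfl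
  have hinj : Function.Injective ψ := by
    rw [← LinearMap.ker_eq_bot, LinearMap.ker_eq_bot']
    rintro ⟨P, hPm⟩ hP
    rw [hψ] at hP
    change aeval c P x = 0 at hP
    by_contra hP0
    have hP0' : P ≠ 0 := fun h => hP0 (Subtype.ext h)
    have hdeg : P.natDegree < N := by
      rw [mem_degreeLT] at hPm
      exact (natDegree_lt_iff_degree_lt hP0').2 hPm
    set g := EuclideanDomain.gcd P (γ ^ k) with hg
    have hgx : aeval c g x = 0 := by
      rw [hg, EuclideanDomain.gcd_eq_gcd_ab, map_add, LinearMap.add_apply, mul_comm P,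
        mul_comm (γ ^ k), map_mul, map_mul, Module.End.mul_apply, Module.End.mul_apply, hP,
        map_pow, h0]
      simp
    obtain ⟨j, hj, hass⟩ := (dvd_prime_pow hγ.prime k).1 (EuclideanDomain.gcd_dvd_right P (γ ^ k))
    rcases Nat.lt_or_ge j k with hjk | hjk
    · apply hx
      obtain ⟨w, hw⟩ := hass.dvd
      have h3 : γ ^ (k - 1) = γ ^ (k - 1 - j) * w * g := by
        rw [mul_assoc, mul_comm w, hg, ← hw, ← pow_add]
        congr 1
        omega
      rw [← map_pow, h3, map_mul, Module.End.mul_apply, hgx, map_zero]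
    · have hjk' : j = k := le_antisymm hj hjk
      rw [hjk'] at hass
      have h3 : γ ^ k ∣ P := hass.symm.dvd.trans (EuclideanDomain.gcd_dvd_left P (γ ^ k))
      have h4 := natDegree_le_of_dvd h3 hP0'
      rw [natDegree_pow] at h4
      omega
  set W := LinearMap.range ψ with hW
  have hWdim : finrank F W = N := by
    rw [hW, LinearMap.finrank_range_of_inj hinj, (degreeLTEquiv F N).finrank_eq,
      Module.finrank_fin_fun]
  have hiso : W ≤ B.orthogonal W := by
    rintro _ ⟨R, rfl⟩
    rw [LinearMap.BilinForm.mem_orthogonal_iff]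
    rintro _ ⟨P, rfl⟩
    change B (ψ P) (ψ R) = 0
    rw [hψ, hψ, hc.aeval, ← Module.End.mul_apply, ← map_mul]
    exact (hc.aeval _).self_eq_zero h2 hA x
  have h5 := Submodule.finrank_mono hiso
  rw [LinearMap.BilinForm.finrank_orthogonal hnd, hWdim, hdim] at h5
  omega

end Cfsg.Agent.Lib.Helper48
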