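import Mathlib
import Cfsg.Agent.Lib.Helper48.SpBad

set_option autoImplicit false
set_option linter.unusedSectionVars false

namespace Cfsg.Agent.Lib.Helper48

open Module LinearMap Polynomial

variable {F V : Type*} [Field F] [AddCommGroup V] [Module F V] {B : LinearMap.BilinForm F V}

theorem IsoB.adj {z z' : End F V} (hz : IsoB B z) (h : z * z' = 1) (x w : V) :
    B (z x) w = B x (z' w) := by
  have h1 : w = z (z' w) := by rw [← Module.End.mul_apply, h, Module.End.one_apply]
  conv_lhs => rw [h1]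
  exact hz _ _

theorem IsoB.adj' {z z' : End F V} (hz : IsoB B z) (h : z * z' = 1) (x w : V) :
    B (z' x) w = B x (z w) := by
  rw [← hz (z' x) w, ← Module.End.mul_apply, h, Module.End.one_apply]

theorem IsoB.selfB_add {z z' : End F V} (hz : IsoB B z) (h : z * z' = 1) : SelfB B (z + z') := by
  intro x w
  rw [LinearMap.add_apply, LinearMap.add_apply, map_add, LinearMap.add_apply, map_add, hz.adj h,
    hz.adj' h, add_comm]

theorem IsoB.pow' {z : End F V} (hz : IsoB B z) (k : ℕ) : IsoB B (z ^ k) := by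
  induction k with
  | zero => intro x w; simp
  | succ k ih =>
    intro x w
    rw [pow_succ, Module.End.mul_apply, Module.End.mul_apply, ih, hz]

theorem unit_or_nilpotent_sub_one [FiniteDimensional F V] (h2 : (2 : F) ≠ 0) {T z z' : End F V}
    (hbad : ∀ ζ : End F V, IsoB B ζ → Commute T ζ → ζ * ζ = 1 → ζ = 1 ∨ ζ = -1)
    (hz : IsoB B z) (h : z * z' = 1) (h' : z' * z = 1) (hTz : Commute T z) (hTz' : Commute T z') :
    IsUnit (z - 1) ∨ IsNilpotent (z - 1) := by
  have hzz' : Commute z z' := h.trans h'.symm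
  set e := z + z' + (-2 : F) • (1 : End F V) with he
  have heS : SelfB B e := (hz.selfB_add h).add (SelfB.one.smul _)
  have heT : Commute T e :=
    (hTz.add_right hTz').add_right ((Commute.one_right T).smul_right _)
  have he1 : e = (z - 1) * (1 - z') := by
    rw [sub_mul, mul_sub, mul_sub, h, he, neg_smul, two_smul]
    simp only [mul_one, one_mul]
    abel
  have hc1 : Commute (z - 1) (1 - z') :=
    ((Commute.one_right z).sub_right hzz').sub_left (Commute.one_left _)
  rcases nilpotent_or_unit_of_bad h2 hbad heS heT with hn | hu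
  · right
    have h3 : (z - 1) ^ 2 = e * z := by
      rw [he1, mul_assoc, sub_mul 1 z' z, one_mul, h', pow_two]
    have hez : Commute e z := by
      rw [he]
      exact (((Commute.refl z).add_left hzz'.symm).add_left
        ((Commute.one_left z).smul_left _))
    apply IsNilpotent.of_pow (m := 2)
    rw [h3]
    exact hez.isNilpotent_mul_right hn
  · left
    rw [he1] at hu
    exact (hc1.isUnit_mul_iff.1 hu).1

theorem frob_rel {R : Type*} [Ring R] (p : ℕ) [Fact p.Prime] [CharP R p] {c S : R}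
    (hc : Commute c S) (h : c * S = S * S + 1) (e : ℕ) :
    c ^ (p ^ e) * S ^ (p ^ e) = S ^ (p ^ e) * S ^ (p ^ e) + 1 := by
  rw [← hc.mul_pow, h, add_pow_char_pow_of_commute _ _ (Commute.one_right _), one_pow,
    (Commute.refl S).mul_pow]

/-- the orders of the isometries commuting with no non central involution -/
theorem bad_trichotomy (p : ℕ) [Fact p.Prime] [CharP F p] [Fintype F] [FiniteDimensional F V]
    (h2 : (2 : F) ≠ 0) (hA : B.IsAlt) (hnd : B.Nondegenerate) {n : ℕ} (hn : 1 ≤ n)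
    (hdim : finrank F V = 2 * n) {T T' : End F V} (hTT' : T * T' = 1) (hT'T : T' * T = 1)
    (hT : IsoB B T)
    (hbad : ∀ ζ : End F V, IsoB B ζ → Commute T ζ → ζ * ζ = 1 → ζ = 1 ∨ ζ = -1) :
    (∃ d k, 1 ≤ d ∧ 1 ≤ k ∧ k * d ≤ n ∧
      (T ^ (p ^ Nat.clog p k * (Fintype.card F ^ d - 1)) = 1 ∨
       T ^ (p ^ Nat.clog p k * (Fintype.card F ^ d + 1)) = 1)) ∨ IsNilpotent (T * T - 1) := by
  classical
  have hp : p.Prime := Fact.out
  have hnt : Nontrivial V := Module.nontrivial_of_finrank_pos (R := F) (by omega)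
  have : CharP (End F V) p :=
    charP_of_injective_algebraMap (algebraMap F (End F V)).injective p
  set q := Fintype.card F with hq
  have hq1 : 1 < q := Fintype.one_lt_card
  obtain ⟨f, -, hf⟩ := FiniteField.card F p
  have hcomm : Commute T T' := hTT'.trans hT'T.symm
  set c := T + T' with hc
  have hcS : SelfB B c := hT.selfB_add hTT'
  have hcT : Commute T c := (Commute.refl T).add_right hcomm
  have hm0 : minpoly F c ≠ 0 := minpoly.ne_zero (Algebra.IsIntegral.isIntegral c)
  obtain ⟨γ, hγm, hγ, hγd⟩ :=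
    Polynomial.exists_monic_irreducible_factor _ (minpoly.not_isUnit F c)
  have hγnu : ¬ IsUnit (aeval c γ) := by
    intro hu
    obtain ⟨h, hh⟩ := hγd
    have h1 : aeval c γ * aeval c h = 0 := by rw [← map_mul, ← hh, minpoly.aeval]
    have h3 : aeval c h = 0 := hu.mul_right_eq_zero.1 h1
    have h4 := minpoly.dvd F c h3
    have hh0 : h ≠ 0 := by
      rintro rfl
      rw [mul_zero] at hh
      exact hm0 hh
    have h5 := natDegree_le_of_dvd h4 hh0
    rw [hh, natDegree_mul hγ.ne_zero hh0] at h5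
    have := hγ.natDegree_pos
    omega
  have hγnil : IsNilpotent (aeval c γ) :=
    (nilpotent_or_unit_of_bad h2 hbad (hcS.aeval γ) (commute_aeval hcT γ)).resolve_right hγnu
  set k := Nat.find hγnil with hkdef
  have hk0 : (aeval c γ) ^ k = 0 := Nat.find_spec hγnil
  have hk1 : 1 ≤ k := by
    by_contra hcon
    have h0 : k = 0 := by omega
    rw [h0, pow_zero] at hk0
    exact one_ne_zero hk0
  have hkm : (aeval c γ) ^ (k - 1) ≠ 0 := Nat.find_min hγnil (by omega)
  set d := γ.natDegree with hd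
  have hd1 : 1 ≤ d := hγ.natDegree_pos
  have hkd : k * d ≤ n := mul_natDegree_le_of_selfB h2 hA hnd hdim hcS hγ hk1 hkm hk0
  set t := Nat.clog p k with ht
  have hkt : k ≤ p ^ t := Nat.le_pow_clog hp.one_lt k
  set Q := q ^ d with hQ
  have hQ1 : 1 ≤ Q := Nat.one_le_pow _ _ (by omega)
  have hQp : Q = p ^ ((f : ℕ) * d) := by rw [hQ, hq, hf, pow_mul]
  have h3 : γ ∣ X ^ Q - X := by
    have h := (hγ.natDegree_dvd_iff_dvd_X_pow_card_pow_sub_X).1 (dvd_refl γ.natDegree)
    rwa [Nat.card_eq_fintype_card] at h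
  have h4 : (c ^ Q - c) ^ (p ^ t) = 0 := by
    obtain ⟨g, hg⟩ := h3
    have h5 : c ^ Q - c = aeval c γ * aeval c g := by
      rw [← map_mul, ← hg]
      simp
    have h6 : Commute (aeval c γ) (aeval c g) := by
      rw [Commute, SemiconjBy, ← map_mul, ← map_mul, mul_comm]
    rw [h5, h6.mul_pow, pow_eq_zero_of_le hkt hk0, zero_mul]
  rw [sub_pow_char_pow_of_commute _ _ ((Commute.refl c).pow_left Q), sub_eq_zero] at h4
  set S := T ^ (p ^ t) with hS
  set S' := T' ^ (p ^ t) with hS'
  set c₁ := c ^ (p ^ t) with hc₁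
  have hc₁Q : c₁ ^ Q = c₁ := by
    rw [hc₁, ← pow_mul, mul_comm, pow_mul]
    exact h4
  have hcT1 : c * T = T * T + 1 := by rw [hc, add_mul, hT'T]
  have hc₁S : c₁ * S = S * S + 1 := frob_rel p hcT.symm hcT1 t
  have hcS' : Commute c₁ S := hcT.symm.pow_pow _ _
  have h6 : c₁ * S ^ Q = S ^ Q * S ^ Q + 1 := by
    have h := frob_rel p hcS' hc₁S ((f : ℕ) * d)
    rw [← hQp, hc₁Q] at h
    exact h
  have h7 : (S * S + 1) * S ^ Q = S ^ Q * S ^ Q * S + S := by
    rw [← hc₁S, mul_assoc, ← pow_succ', pow_succ, ← mul_assoc, h6, add_mul, one_mul]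
  have hS'S : S' * S = 1 := by rw [hS, hS', ← hcomm.symm.mul_pow, hT'T, one_pow]
  have h8 : (S ^ (Q + 1) - 1) * (S ^ (Q - 1) - 1) = 0 := by
    have h9 : S * ((S ^ (Q + 1) - 1) * (S ^ (Q - 1) - 1)) = 0 := by
      have key : (X : F[X]) * ((X ^ (Q + 1) - 1) * (X ^ (Q - 1) - 1)) =
          X ^ Q * X ^ Q * X + X - (X * X + 1) * X ^ Q := by
        obtain ⟨Q', hQ'⟩ : ∃ Q', Q = Q' + 1 := ⟨Q - 1, by omega⟩
        rw [hQ', Nat.add_sub_cancel]
        ring
      have h10 := congrArg (aeval S) key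
      simp only [map_mul, map_sub, map_add, map_pow, aeval_X, map_one] at h10
      rw [h10, h7, sub_self]
    have h11 := congrArg (fun y => S' * y) h9
    simp only [mul_zero] at h11
    rwa [← mul_assoc, hS'S, one_mul] at h11
  have hD : ∀ m, IsUnit (T ^ m - 1) ∨ IsNilpotent (T ^ m - 1) := by
    intro m
    exact unit_or_nilpotent_sub_one (z' := T' ^ m) h2 hbad (hT.pow' m)
      (by rw [← hcomm.mul_pow, hTT', one_pow]) (by rw [← hcomm.symm.mul_pow, hT'T, one_pow])
      ((Commute.refl T).pow_right m) (hcomm.pow_right m)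
  have hzm : S ^ (Q - 1) = T ^ (p ^ t * (Q - 1)) := by rw [hS, ← pow_mul]
  have hzp : S ^ (Q + 1) = T ^ (p ^ t * (Q + 1)) := by rw [hS, ← pow_mul]
  rcases hD (p ^ t * (Q - 1)) with hu | hn₁
  · left
    refine ⟨d, k, hd1, hk1, hkd, Or.inr ?_⟩
    rw [← hzm] at hu
    have := hu.mul_left_eq_zero.1 h8
    rw [← hzp]
    exact sub_eq_zero.1 this
  rcases hD (p ^ t * (Q + 1)) with hu | hn₂
  · left
    refine ⟨d, k, hd1, hk1, hkd, Or.inl ?_⟩
    rw [← hzp] at hu
    have := hu.mul_right_eq_zero.1 h8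
    rw [← hzm]
    exact sub_eq_zero.1 this
  right
  rw [← hzm] at hn₁
  rw [← hzp] at hn₂
  have hcc : Commute (S ^ (Q + 1) - 1) (S ^ (Q - 1) - 1) :=
    (((Commute.refl S).pow_pow _ _).sub_right (Commute.one_right _)).sub_left
      (Commute.one_left _)
  have h12 : IsNilpotent (S ^ (Q - 1) * (S * S - 1)) := by
    have h13 : S ^ (Q - 1) * (S * S - 1) = (S ^ (Q + 1) - 1) - (S ^ (Q - 1) - 1) := by
      rw [mul_sub, mul_one, ← pow_two, ← pow_add, show Q - 1 + 2 = Q + 1 by omega]
      abel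
    rw [h13]
    exact hcc.isNilpotent_sub hn₂ hn₁
  have h14 : IsNilpotent (S * S - 1) := by
    have h15 : S * S - 1 = S' ^ (Q - 1) * (S ^ (Q - 1) * (S * S - 1)) := by
      have hSc : Commute S' S := by
        rw [hS, hS']
        exact hcomm.symm.pow_pow _ _
      rw [← mul_assoc, ← hSc.mul_pow, hS'S, one_pow, one_mul]
    rw [h15]
    apply Commute.isNilpotent_mul_left _ h12
    have hSc : Commute S' S := by
      rw [hS, hS']
      exact hcomm.symm.pow_pow _ _
    apply Commute.pow_left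
    exact (hSc.pow_right _).mul_right ((hSc.mul_right hSc).sub_right (Commute.one_right _))
  have h16 : S * S - 1 = (T * T - 1) ^ (p ^ t) := by
    rw [sub_pow_char_pow_of_commute _ _ (Commute.one_right _), one_pow, (Commute.refl T).mul_pow]
  rw [h16] at h14
  exact h14.of_pow

end Cfsg.Agent.Lib.Helper48
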