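import Mathlib
import Cfsg.Agent.Lib.Helper48.SpExist

set_option autoImplicit false
set_option linter.unusedSectionVars false

namespace Cfsg.Agent.Lib.Helper48

open Module LinearMap Cfsg.Agent.Lib.Helper17

section Tori

variable {F : Type*} [Field F] [Fintype F]

/-- split torus element of order `q^d - 1` in `Sp_{2d}(q)` -/
theorem exists_sp_orderOf_minus (d : ℕ) (hd : 1 ≤ d) :
    ∃ A : Matrix.symplecticGroup (Fin d) F, orderOf A = Fintype.card F ^ d - 1 := by
  obtain ⟨g, hg⟩ := exists_GL_orderOf_singer (F := F) d d hd le_rfl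
  rw [Nat.card_eq_fintype_card] at hg
  refine ⟨Cfsg.Agent.Lib.Helper44.spHom (Units.coeHom (Matrix (Fin d) (Fin d) F)) g, ?_⟩
  rw [orderOf_injective _ (Cfsg.Agent.Lib.Helper44.spHom_injective _ Units.val_injective), hg]

theorem frobEquiv_pow_apply (K : Type*) [Field K] [Algebra F K] [Algebra.IsAlgebraic F K] (d : ℕ)
    (y : K) : ((FiniteField.frobeniusAlgEquivOfAlgebraic F K) ^ d) y = y ^ (Fintype.card F ^ d) := by
  induction d generalizing y with
  | zero => simp
  | succ d ih =>
    rw [pow_succ, AlgEquiv.mul_apply, ih, FiniteField.coe_frobeniusAlgEquivOfAlgebraic, ← pow_mul,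
      pow_succ, mul_comm]

/-- the norm one torus of a field extension of degree `2d`, acting on a symplectic space -/
theorem exists_isoB_plus (h2 : (2 : F) ≠ 0) (K : Type*) [Field K] [Finite K] [Algebra F K] (d : ℕ)
    (hd : 1 ≤ d) (hK : finrank F K = 2 * d) :
    ∃ (B : LinearMap.BilinForm F K) (T : End F K), B.IsAlt ∧ (∀ x, (∀ y, B x y = 0) → x = 0) ∧
      IsoB B T ∧ ∀ j, T ^ j = 1 ↔ (Fintype.card F ^ d + 1) ∣ j := by
  classical
  have : Fintype K := Fintype.ofFinite K
  have : FiniteDimensional F K := Module.Finite.of_finite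
  set q := Fintype.card F with hq
  set Q := q ^ d with hQ
  have hq1 : 1 < q := Fintype.one_lt_card
  have hQ1 : 1 < Q := Nat.one_lt_pow (by omega) hq1
  have hcard : Fintype.card K = Q * Q := by
    rw [← Nat.card_eq_fintype_card, Module.natCard_eq_pow_finrank (K := F), hK,
      Nat.card_eq_fintype_card, two_mul, pow_add]
  obtain ⟨x, hx⟩ := exists_units_orderOf_eq K
  rw [Nat.card_eq_fintype_card, hcard] at hx
  have hfac : Q * Q - 1 = (Q - 1) * (Q + 1) := by
    obtain ⟨r, hr⟩ : ∃ r, Q = r + 1 := ⟨Q - 1, by omega⟩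
    rw [hr]
    simp only [Nat.add_sub_cancel]
    have : (r + 1) * (r + 1) = r * (r + 1 + 1) + 1 := by ring
    omega
  set σ : Kˣ := x ^ (Q - 1) with hσ
  have hσo : orderOf σ = Q + 1 := by
    rw [hσ, orderOf_pow_of_dvd (by omega) (by rw [hx, hfac]; exact dvd_mul_right _ _), hx, hfac,
      Nat.mul_div_cancel_left _ (by omega)]
  set φ : K ≃ₐ[F] K := (FiniteField.frobeniusAlgEquivOfAlgebraic F K) ^ d with hφ
  have hφa : ∀ y, φ y = y ^ Q := fun y => frobEquiv_pow_apply K d y
  have hφφ : ∀ y, φ (φ y) = y := by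
    intro y
    rw [hφa, hφa, ← pow_mul, ← hcard, FiniteField.pow_card]
  have hσφ : (σ : K) * φ (σ : K) = 1 := by
    rw [hφa, ← pow_succ', ← hσo, ← Units.val_pow_eq_pow_val, pow_orderOf_eq_one, Units.val_one]
  set α : K := (σ : K) - φ (σ : K) with hα
  have hαφ : φ α = -α := by
    rw [hα, map_sub, hφφ]
    ring
  have hα0 : α ≠ 0 := by
    intro h
    rw [hα, sub_eq_zero, hφa] at h
    have h3 : σ ^ (Q - 1) = 1 := by
      apply Units.ext
      rw [Units.val_pow_eq_pow_val, Units.val_one]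
      have h4 : (σ : K) ^ (Q - 1) * (σ : K) = 1 * (σ : K) := by
        rw [← pow_succ, Nat.sub_add_cancel hQ1.le, one_mul]
        exact h.symm
      exact mul_right_cancel₀ σ.ne_zero h4
    have h5 := orderOf_dvd_of_pow_eq_one h3
    rw [hσo] at h5
    have := Nat.le_of_dvd (by omega) h5
    omega
  let B : LinearMap.BilinForm F K := LinearMap.mk₂ F
    (fun x y => Algebra.trace F K (α * x * φ y))
    (fun x x' y => by rw [mul_add, add_mul, map_add])
    (fun c x y => by rw [mul_smul_comm, smul_mul_assoc, map_smul])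
    (fun x y y' => by rw [map_add, mul_add, map_add])
    (fun c x y => by rw [map_smul, mul_smul_comm, map_smul])
  have hB : ∀ x y, B x y = Algebra.trace F K (α * x * φ y) := fun x y => rfl
  refine ⟨B, LinearMap.mulLeft F (σ : K), ?_, ?_, ?_, ?_⟩
  · intro x
    rw [hB]
    have h3 : φ (α * x * φ x) = -(α * x * φ x) := by
      rw [map_mul, map_mul, hφφ, hαφ]
      ring
    have h4 := Algebra.trace_eq_of_algEquiv φ (α * x * φ x)
    rw [h3, map_neg] at h4
    have h5 : (2 : F) * Algebra.trace F K (α * x * φ x) = 0 := by linear_combination -h4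
    exact (mul_eq_zero.1 h5).resolve_left h2
  · intro x hx
    have h3 : α * x = 0 := by
      apply (traceForm_nondegenerate F K).1
      intro y
      have := hx (φ y)
      rw [hB, hφφ] at this
      rw [Algebra.traceForm_apply]
      exact this
    exact (mul_eq_zero.1 h3).resolve_left hα0
  · intro x w
    rw [hB, hB, LinearMap.mulLeft_apply, LinearMap.mulLeft_apply, map_mul φ]
    have h3 : α * ((σ : K) * x) * (φ (σ : K) * φ w) = α * x * φ w := by
      linear_combination (α * x * φ w) * hσφ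
    rw [h3]
  · intro j
    rw [← hσo, orderOf_dvd_iff_pow_eq_one, LinearMap.pow_mulLeft]
    constructor
    · intro h
      have := congrArg (fun f : End F K => f 1) h
      simp only [LinearMap.mulLeft_apply, mul_one, Module.End.one_apply] at this
      exact Units.ext (by rw [Units.val_pow_eq_pow_val, this, Units.val_one])
    · intro h
      rw [← Units.val_pow_eq_pow_val, h, Units.val_one]
      apply LinearMap.ext
      intro y
      simp

/-- non split torus element of order `q^d + 1` in `Sp_{2d}(q)` -/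
theorem exists_sp_orderOf_plus (h2 : (2 : F) ≠ 0) (d : ℕ) (hd : 1 ≤ d) :
    ∃ A : Matrix.symplecticGroup (Fin d) F, orderOf A = Fintype.card F ^ d + 1 := by
  obtain ⟨p, hp⟩ := CharP.exists F
  have : Fact p.Prime := ⟨CharP.char_is_prime F p⟩
  have : NeZero (2 * d) := ⟨by omega⟩
  obtain ⟨B, T, hA, hnd, hT, hord⟩ := exists_isoB_plus h2 (FiniteField.Extension F p (2 * d)) d hd
    (FiniteField.finrank_extension F p (2 * d))
  obtain ⟨A, hAT⟩ := exists_sp_of_isoB B hA hnd (FiniteField.finrank_extension F p (2 * d)) T hT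
  refine ⟨A, ?_⟩
  have key : ∀ j, orderOf A ∣ j ↔ Fintype.card F ^ d + 1 ∣ j := by
    intro j
    rw [orderOf_dvd_iff_pow_eq_one, (hAT j).1, hord]
  exact Nat.dvd_antisymm ((key _).2 dvd_rfl) ((key _).1 dvd_rfl)

end Tori

section Unip

variable {F : Type*} [Field F] [Fintype F] (p : ℕ) [Fact p.Prime] [CharP F p]

/-- the regular unipotent element of `Sp_{2N}(q)` -/
theorem exists_sp_orderOf_unip (h2 : (2 : F) ≠ 0) (N : ℕ) (hN : 1 ≤ N) :
    ∃ A : Matrix.symplecticGroup (Fin N) F, orderOf A = p ^ Nat.clog p (2 * N) := by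
  have hp : p.Prime := Fact.out
  obtain ⟨u, -, hu, h1, hn, -, -⟩ := exists_reg_label (F := F) h2 hN true
  have hdim : finrank F (Fin N ⊕ Fin N → F) = 2 * N := by
    rw [Module.finrank_fintype_fun_eq_card]
    simp only [Fintype.card_sum, Fintype.card_fin]
    omega
  have hJ := jtype_of_regular (u - 1) h1 hn
  have hnil : IsNilpotent (u - 1) := ⟨_, hn⟩
  have hiso : ∀ x w, Cfsg.sympForm N F (u x) (u w) = Cfsg.sympForm N F x w := by
    intro x w
    rw [← sympB_apply, ← sympB_apply, hu]
  set A := spOfLinear N u hiso with hA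
  have key : ∀ k, A ^ (p ^ k) = 1 ↔ 2 * N ≤ p ^ k := by
    intro k
    rw [(sp_pow_iff A _).1, mulVecLin_spOfLinear, ← sub_eq_zero, ← sub_one_pow_char_pow p,
      hJ.pow_eq_zero_iff hnil, hdim]
    simp
  refine ⟨A, ?_⟩
  have h3 : orderOf A ∣ p ^ Nat.clog p (2 * N) :=
    orderOf_dvd_of_pow_eq_one ((key _).2 (Nat.le_pow_clog hp.one_lt _))
  obtain ⟨j, hj, hj2⟩ := (Nat.dvd_prime_pow hp).1 h3
  have h4 : 2 * N ≤ p ^ j := (key j).1 (by rw [← hj2]; exact pow_orderOf_eq_one A)
  have h5 : Nat.clog p (2 * N) ≤ j := Nat.clog_le_of_le_pow h4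
  rw [hj2, le_antisymm hj h5]

theorem exists_sp_orderOf_p_pow (h2 : (2 : F) ≠ 0) (N t : ℕ) (hN : 1 ≤ N)
    (h : t = 0 ∨ p ^ (t - 1) < 2 * N) :
    ∃ A : Matrix.symplecticGroup (Fin N) F, orderOf A = p ^ t := by
  have hp : p.Prime := Fact.out
  obtain ⟨g, hg⟩ := exists_sp_orderOf_unip (F := F) p h2 N hN
  have ht : t ≤ Nat.clog p (2 * N) := by
    rcases h with rfl | h
    · exact Nat.zero_le _
    · by_contra hcon
      have h1 : Nat.clog p (2 * N) ≤ t - 1 := by omega
      have h2 := (Nat.clog_le_iff_le_pow hp.one_lt).1 h1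
      omega
  refine ⟨g ^ (orderOf g / p ^ t), ?_⟩
  apply orderOf_pow_orderOf_div
  · rw [hg]; exact (pow_pos hp.pos _).ne'
  · rw [hg]; exact pow_dvd_pow p ht

end Unip

end Cfsg.Agent.Lib.Helper48
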