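import Mathlib
import Cfsg.Agent.Lib.Helper48.SpTori
import Cfsg.Agent.Lib.Helper48.SpBad2

set_option autoImplicit false
set_option linter.unusedSectionVars false

namespace Cfsg.Agent.Lib.Helper48

open Module LinearMap Cfsg.Agent.Lib.Helper17

theorem coprime_pow_sub_one_pow (p q d t : ℕ) (hp : p.Prime) (hpq : p ∣ q) (hq : 1 ≤ q)
    (hd : 1 ≤ d) : Nat.Coprime (q ^ d - 1) (p ^ t) := by
  apply Nat.Coprime.pow_right
  apply Nat.Coprime.symm
  rw [Nat.Prime.coprime_iff_not_dvd hp]
  intro h1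
  have h2 : p ∣ q ^ d := hpq.trans (dvd_pow_self q (by omega))
  have h3 : 1 ≤ q ^ d := Nat.one_le_pow _ _ hq
  have h4 : p ∣ 1 := by
    have := (Nat.dvd_sub h2 h1)
    rwa [Nat.sub_sub_self h3] at this
  exact hp.one_lt.ne' (Nat.dvd_one.1 h4)

theorem coprime_pow_add_one_pow (p q d t : ℕ) (hp : p.Prime) (hpq : p ∣ q)
    (hd : 1 ≤ d) : Nat.Coprime (q ^ d + 1) (p ^ t) := by
  apply Nat.Coprime.pow_right
  apply Nat.Coprime.symm
  rw [Nat.Prime.coprime_iff_not_dvd hp]
  intro h1
  have h2 : p ∣ q ^ d := hpq.trans (dvd_pow_self q (by omega))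
  have h4 : p ∣ 1 := (Nat.dvd_add_right h2).1 h1
  exact hp.one_lt.ne' (Nat.dvd_one.1 h4)

variable {F : Type*} [Field F] [Fintype F]

theorem finrank_symp_space (n : ℕ) : finrank F (Fin n ⊕ Fin n → F) = 2 * n := by
  rw [Module.finrank_fintype_fun_eq_card]
  simp only [Fintype.card_sum, Fintype.card_fin]
  omega

/-- odd element orders of `Sp_{2n}(q)` -/
theorem sp_odd_dichotomy (p : ℕ) [Fact p.Prime] [CharP F p] (h2 : (2 : F) ≠ 0) {n : ℕ}
    (hn : 1 ≤ n) (T : End F (Fin n ⊕ Fin n → F)) (hT : IsoB (sympB n F) T) (a : ℕ) (ha : Odd a)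
    (hord : ∀ j, T ^ j = 1 ↔ a ∣ j) :
    (∃ y : Cfsg.PSp n F, orderOf y = 2 * a) ∨ a ∣ Fintype.card F ^ n - 1 ∨
      a ∣ Fintype.card F ^ n + 1 ∨ a ∣ p ^ Nat.clog p (2 * n) := by
  have hp : p.Prime := Fact.out
  set q := Fintype.card F with hq
  have hq1 : 1 < q := Fintype.one_lt_card
  have hpq : p ∣ q := by
    obtain ⟨f, -, hf⟩ := FiniteField.card F p
    rw [hq, hf]
    exact dvd_pow_self p f.ne_zero
  have hdim := finrank_symp_space (F := F) n
  have hnt : Nontrivial (Fin n ⊕ Fin n → F) := Module.nontrivial_of_finrank_pos (R := F) (by omega)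
  by_cases hbad : ∀ ζ : End F (Fin n ⊕ Fin n → F), IsoB (sympB n F) ζ → Commute T ζ → ζ * ζ = 1 →
      ζ = 1 ∨ ζ = -1
  · have ha1 : 1 ≤ a := ha.pos
    have hTT' : T * T ^ (a - 1) = 1 := by
      rw [← pow_succ', Nat.sub_add_cancel ha1, hord]
    have hT'T : T ^ (a - 1) * T = 1 := by
      rw [← pow_succ, Nat.sub_add_cancel ha1, hord]
    rcases bad_trichotomy p h2 (sympB_isAlt n) (sympB_nondegenerate n) hn hdim hTT' hT'T hT hbad
      with ⟨d, k, hd, hk, hkd, h⟩ | hnil
    · have hdn : d ≤ n := by nlinarith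
      rcases Nat.lt_or_ge d n with hlt | hge
      · left
        have ht : Nat.clog p k = 0 ∨ p ^ (Nat.clog p k - 1) < 2 * (n - d) := by
          rcases Nat.lt_or_ge k 2 with hk2 | hk2
          · left
            have : k = 1 := by omega
            rw [this, Nat.clog_one_right]
          · right
            have h3 : p ^ (Nat.clog p k - 1) < k := Nat.pow_pred_clog_lt_self hp.one_lt (by omega)
            have h4 : k + d ≤ k * d + 1 := by nlinarith
            have h5 : 2 * d ≤ k * d := Nat.mul_le_mul_right d hk2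
            omega
        obtain ⟨A₂, hA₂⟩ := exists_sp_orderOf_p_pow (F := F) p h2 (n - d) (Nat.clog p k)
          (by omega) ht
        rcases h with h | h
        · obtain ⟨A₁, hA₁⟩ := exists_sp_orderOf_minus (F := F) d hd
          apply exists_PSp_two_mul h2 hd (show 1 ≤ n - d by omega) (by omega) A₁ A₂ a ha
          rw [hA₁, hA₂, (coprime_pow_sub_one_pow p q d _ hp hpq hq1.le hd).lcm_eq_mul, mul_comm]
          exact (hord _).1 h
        · obtain ⟨A₁, hA₁⟩ := exists_sp_orderOf_plus (F := F) h2 d hd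
          apply exists_PSp_two_mul h2 hd (show 1 ≤ n - d by omega) (by omega) A₁ A₂ a ha
          rw [hA₁, hA₂, (coprime_pow_add_one_pow p q d _ hp hpq hd).lcm_eq_mul, mul_comm]
          exact (hord _).1 h
      · have hdn' : d = n := le_antisymm hdn hge
        have hk1 : k = 1 := by
          subst hdn'
          by_contra hne
          have : 2 * d ≤ k * d := Nat.mul_le_mul_right d (by omega)
          omega
        rw [hk1, Nat.clog_one_right, pow_zero, one_mul, one_mul, hdn', hord, hord] at h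
        rcases h with h | h
        · exact Or.inr (Or.inl h)
        · exact Or.inr (Or.inr (Or.inl h))
    · right; right; right
      have : CharP (End F (Fin n ⊕ Fin n → F)) p :=
        charP_of_injective_algebraMap (algebraMap F (End F (Fin n ⊕ Fin n → F))).injective p
      have h3 : (T * T - 1) ^ (2 * n) = 0 := by
        have h := (LinearMap.isNilpotent_iff_charpoly (T * T - 1)).1 hnil
        have h4 := LinearMap.aeval_self_charpoly (T * T - 1)
        rw [h, hdim] at h4
        simpa using h4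
      have h4 : (T * T - 1) ^ (p ^ Nat.clog p (2 * n)) = 0 :=
        pow_eq_zero_of_le (Nat.le_pow_clog hp.one_lt _) h3
      rw [sub_pow_char_pow_of_commute _ _ (Commute.one_right _), one_pow, sub_eq_zero, ← pow_two,
        ← pow_mul, hord] at h4
      exact (Nat.Coprime.symm (Nat.coprime_two_left.2 ha)).dvd_of_dvd_mul_left h4
  · left
    push Not at hbad
    obtain ⟨ζ, hζ, hc, hζζ, h1, hm1⟩ := hbad
    have hS : IsoB (sympB n F) (T * ζ) := by
      intro x w
      rw [Module.End.mul_apply, Module.End.mul_apply, hT, hζ]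
    obtain ⟨A, hA⟩ := exists_sp_of_isoB (sympB n F) (sympB_isAlt n) (sympB_nondegenerate n).1 hdim
      (T * ζ) hS
    refine ⟨QuotientGroup.mk A, ?_⟩
    have key : ∀ j, orderOf (QuotientGroup.mk A : Cfsg.PSp n F) ∣ j ↔ 2 * a ∣ j := by
      intro j
      rw [orderOf_mk_sp_dvd_iff, (hA j).1, (hA j).2, po2_mul_invol h2 T ζ hc hζζ h1 hm1 a ha hord]
    exact Nat.dvd_antisymm ((key _).2 dvd_rfl) ((key _).1 dvd_rfl)

theorem exists_order_of_pm {V : Type*} [AddCommGroup V] [Module F V]
    {B : LinearMap.BilinForm F V} (T₀ : End F V) (hiso : IsoB B T₀) (a : ℕ) (ha : Odd a)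
    (hiff : ∀ j, a ∣ j ↔ (T₀ ^ j = 1 ∨ T₀ ^ j = -1)) :
    ∃ T : End F V, IsoB B T ∧ ∀ j, T ^ j = 1 ↔ a ∣ j := by
  rcases (hiff a).1 dvd_rfl with h | h
  · refine ⟨T₀, hiso, fun j => ⟨fun hj => (hiff j).2 (Or.inl hj), ?_⟩⟩
    rintro ⟨i, rfl⟩
    rw [pow_mul, h, one_pow]
  · refine ⟨-T₀, ?_, fun j => ⟨fun hj => (hiff j).2 ?_, ?_⟩⟩
    · intro x w
      simp only [map_neg, LinearMap.neg_apply, neg_neg]
      exact hiso x w
    · rw [neg_pow] at hj
      rcases neg_one_pow_eq_or (End F V) j with h3 | h3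
      · left
        rwa [h3, one_mul] at hj
      · right
        rw [h3, neg_mul, one_mul] at hj
        exact (neg_eq_iff_eq_neg.1 hj)
    · rintro ⟨i, rfl⟩
      rw [pow_mul, neg_pow, h, ha.neg_one_pow, neg_mul_neg, one_mul, one_pow]

/-- an element of odd order of `PSp` lifts to an isometry of the same order -/
theorem exists_isoB_of_PSp_odd {n : ℕ} (x : Cfsg.PSp n F) (ha : Odd (orderOf x)) :
    ∃ T : End F (Fin n ⊕ Fin n → F), IsoB (sympB n F) T ∧ ∀ j, T ^ j = 1 ↔ orderOf x ∣ j := by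
  obtain ⟨A, rfl⟩ := QuotientGroup.mk_surjective x
  apply exists_order_of_pm _ (isoB_mulVecLin A) _ ha
  intro j
  rw [orderOf_mk_sp_dvd_iff, (sp_pow_iff A j).1, (sp_pow_iff A j).2]

end Cfsg.Agent.Lib.Helper48
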