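import Mathlib
import Cfsg.Agent.Lib.Helper48.SpSpec

set_option autoImplicit false
set_option linter.unusedSectionVars false

namespace Cfsg.Agent.Lib.Helper48

open Module LinearMap Cfsg.Agent.Lib.Helper17

variable {F : Type*} [Field F] [Fintype F]

/-- the odd one among `(q^n - 1)/2` and `(q^n + 1)/2` -/
def spM (q n : ℕ) : ℕ := if Odd ((q ^ n - 1) / 2) then (q ^ n - 1) / 2 else (q ^ n + 1) / 2

theorem char_odd (p : ℕ) [Fact p.Prime] [CharP F p] (h2 : (2 : F) ≠ 0) : Odd p := by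
  have hp : p.Prime := Fact.out
  apply hp.odd_of_ne_two
  rintro rfl
  apply h2
  have := CharP.cast_eq_zero F 2
  exact_mod_cast this

theorem card_odd (h2 : (2 : F) ≠ 0) : Odd (Fintype.card F) := by
  obtain ⟨p, hp⟩ := CharP.exists F
  have : Fact p.Prime := ⟨CharP.char_is_prime F p⟩
  obtain ⟨f, -, hf⟩ := FiniteField.card F p
  rw [hf]
  exact (char_odd (F := F) p h2).pow

theorem half_dvd_orderOf_mk {n X : ℕ} (A : Matrix.symplecticGroup (Fin n) F)
    (hA : orderOf A = 2 * X) : X ∣ orderOf (QuotientGroup.mk A : Cfsg.PSp n F) := by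
  have h := orderOf_sp_dvd_two_mul A
  rw [hA] at h
  exact Nat.dvd_of_mul_dvd_mul_left (by norm_num) h

theorem exists_PSp_minus (n : ℕ) (hn : 1 ≤ n) {X : ℕ} (hX : Fintype.card F ^ n = 2 * X + 1) :
    ∃ y : Cfsg.PSp n F, X ∣ orderOf y := by
  obtain ⟨A, hA⟩ := exists_sp_orderOf_minus (F := F) n hn
  exact ⟨_, half_dvd_orderOf_mk A (by rw [hA, hX]; omega)⟩

theorem exists_PSp_plus (h2 : (2 : F) ≠ 0) (n : ℕ) (hn : 1 ≤ n) {X : ℕ}
    (hX : Fintype.card F ^ n = 2 * X + 1) : ∃ y : Cfsg.PSp n F, (X + 1) ∣ orderOf y := by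
  obtain ⟨A, hA⟩ := exists_sp_orderOf_plus (F := F) h2 n hn
  exact ⟨_, half_dvd_orderOf_mk A (by rw [hA, hX]; omega)⟩

theorem spM_eq {q n X : ℕ} (hX : q ^ n = 2 * X + 1) : spM q n = if Odd X then X else X + 1 := by
  unfold spM
  rw [hX, show 2 * X + 1 - 1 = 2 * X by omega, show 2 * X + 1 + 1 = 2 * (X + 1) by omega,
    Nat.mul_div_cancel_left _ (by norm_num), Nat.mul_div_cancel_left _ (by norm_num)]

theorem exists_PSp_orderOf_spM (h2 : (2 : F) ≠ 0) (n : ℕ) (hn : 1 ≤ n) :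
    ∃ y : Cfsg.PSp n F, orderOf y = spM (Fintype.card F) n := by
  obtain ⟨X, hX⟩ := (card_odd (F := F) h2).pow (n := n)
  rw [spM_eq hX]
  split_ifs with h
  · obtain ⟨y, hy⟩ := exists_PSp_minus (F := F) n hn hX
    exact exists_orderOf_eq_of_dvd y hy
  · obtain ⟨y, hy⟩ := exists_PSp_plus (F := F) h2 n hn hX
    exact exists_orderOf_eq_of_dvd y hy

theorem exists_PSp_orderOf_unip' (p : ℕ) [Fact p.Prime] [CharP F p] (h2 : (2 : F) ≠ 0) (n : ℕ)
    (hn : 1 ≤ n) : ∃ y : Cfsg.PSp n F, orderOf y = p ^ Nat.clog p (2 * n) := by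
  obtain ⟨A, hA⟩ := exists_sp_orderOf_unip (F := F) p h2 n hn
  apply exists_orderOf_eq_of_dvd (QuotientGroup.mk A : Cfsg.PSp n F)
  have h := orderOf_sp_dvd_two_mul A
  rw [hA] at h
  exact (Nat.Coprime.symm (Nat.coprime_two_left.2 ((char_odd (F := F) p h2).pow))).dvd_of_dvd_mul_left
    h

theorem exists_PSp_orderOf_two (h2 : (2 : F) ≠ 0) (n : ℕ) (hn : 2 ≤ n) :
    ∃ y : Cfsg.PSp n F, orderOf y = 2 := by
  obtain ⟨y, hy⟩ := exists_PSp_two_mul h2 (le_refl 1) (show 1 ≤ n - 1 by omega)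
    (show 1 + (n - 1) = n by omega) (1 : Matrix.symplecticGroup (Fin 1) F) (1 : Matrix.symplecticGroup (Fin (n - 1)) F) 1
    odd_one (one_dvd _)
  exact ⟨y, by rw [hy]⟩

/-- the dichotomy for the element orders of `PSp_{2n}(q)`, `q` odd -/
theorem psp_order_dichotomy (p : ℕ) [Fact p.Prime] [CharP F p] (h2 : (2 : F) ≠ 0) {n : ℕ}
    (hn : 2 ≤ n) (x : Cfsg.PSp n F) :
    (∃ y : Cfsg.PSp n F, orderOf x ∣ orderOf y ∧ 2 ∣ orderOf y) ∨
      orderOf x ∣ spM (Fintype.card F) n ∨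
      ∃ t, 1 ≤ t ∧ 2 * n = p ^ (t - 1) + 1 ∧ orderOf x ∣ p ^ t := by
  have hp : p.Prime := Fact.out
  rcases Nat.even_or_odd (orderOf x) with he | ha
  · exact Or.inl ⟨x, dvd_rfl, even_iff_two_dvd.1 he⟩
  set a := orderOf x with hadef
  have hcop : Nat.Coprime a 2 := Nat.Coprime.symm (Nat.coprime_two_left.2 ha)
  obtain ⟨T, hT, hord⟩ := exists_isoB_of_PSp_odd x ha
  obtain ⟨X, hX⟩ := (card_odd (F := F) h2).pow (n := n)
  rw [spM_eq hX]
  rcases sp_odd_dichotomy p h2 (by omega) T hT a ha hord with ⟨y, hy⟩ | h | h | h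
  · exact Or.inl ⟨y, by rw [hy]; exact dvd_mul_left _ _, by rw [hy]; exact dvd_mul_right _ _⟩
  · rw [hX, show 2 * X + 1 - 1 = 2 * X by omega] at h
    have haX : a ∣ X := hcop.dvd_of_dvd_mul_left h
    by_cases hXo : Odd X
    · right; left
      rw [if_pos hXo]
      exact haX
    · left
      obtain ⟨y, hy⟩ := exists_PSp_minus (F := F) n (by omega) hX
      exact ⟨y, haX.trans hy, (even_iff_two_dvd.1 (Nat.not_odd_iff_even.1 hXo)).trans hy⟩
  · rw [hX, show 2 * X + 1 + 1 = 2 * (X + 1) by omega] at h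
    have haX : a ∣ X + 1 := hcop.dvd_of_dvd_mul_left h
    by_cases hXo : Odd X
    · left
      obtain ⟨y, hy⟩ := exists_PSp_plus (F := F) h2 n (by omega) hX
      exact ⟨y, haX.trans hy, (even_iff_two_dvd.1 hXo.add_one).trans hy⟩
    · right; left
      rw [if_neg hXo]
      exact haX
  · by_cases hlt : p ^ (Nat.clog p (2 * n) - 1) < 2 * (n - 1)
    · left
      obtain ⟨A₂, hA₂⟩ := exists_sp_orderOf_p_pow (F := F) p h2 (n - 1) (Nat.clog p (2 * n))
        (by omega) (Or.inr hlt)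
      obtain ⟨y, hy⟩ := exists_PSp_two_mul h2 (le_refl 1) (show 1 ≤ n - 1 by omega)
        (show 1 + (n - 1) = n by omega)
        (1 : Matrix.symplecticGroup (Fin 1) F) A₂ a ha (by rw [hA₂, orderOf_one, Nat.lcm_one_left]; exact h)
      exact ⟨y, by rw [hy]; exact dvd_mul_left _ _, by rw [hy]; exact dvd_mul_right _ _⟩
    · right; right
      refine ⟨Nat.clog p (2 * n), Nat.clog_pos hp.one_lt (by omega), ?_, h⟩
      have h3 : p ^ (Nat.clog p (2 * n) - 1) < 2 * n :=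
        Nat.pow_pred_clog_lt_self hp.one_lt (by omega)
      obtain ⟨w, hw⟩ := (char_odd (F := F) p h2).pow (n := Nat.clog p (2 * n) - 1)
      omega

end Cfsg.Agent.Lib.Helper48
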