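import Mathlib
import Cfsg.Agent.Lib.Helper48.Cayley

set_option autoImplicit false
set_option linter.style.haveILetI false

namespace Cfsg.Agent.Lib.Helper48

open Module LinearMap

universe u

variable {F : Type*} [Field F]

/-- compression of an endomorphism to a direct summand -/
noncomputable def cutEnd {V : Type*} [AddCommGroup V] [Module F V] (p q : Submodule F V)
    (hc : IsCompl p q) (a : End F V) : End F p :=
  (p.projectionOnto q hc) ∘ₗ a ∘ₗ p.subtype

theorem cutEnd_apply {V : Type*} [AddCommGroup V] [Module F V] {p q : Submodule F V}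
    (hc : IsCompl p q) {a : End F V} (h : ∀ x ∈ p, a x ∈ p) (x : p) :
    ((cutEnd p q hc a x : p) : V) = a x := by
  have h1 : cutEnd p q hc a x = p.projectionOnto q hc ((⟨a x, h x x.2⟩ : p) : V) := rfl
  rw [h1, Submodule.projectionOnto_apply_left]

theorem isCompl_eigen {V : Type*} [AddCommGroup V] [Module F V] (h2 : (2 : F) ≠ 0) {t : End F V}
    (ht : t * t = 1) : IsCompl (ker (t - 1)) (ker (t + 1)) := by
  have htt : ∀ x, t (t x) = x := fun x => by
    rw [← Module.End.mul_apply, ht, Module.End.one_apply]
  constructor
  · rw [Submodule.disjoint_def]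
    intro x hx hy
    rw [mem_ker, LinearMap.sub_apply, Module.End.one_apply, sub_eq_zero] at hx
    rw [mem_ker, LinearMap.add_apply, Module.End.one_apply, hx] at hy
    have : (2 : F) • x = 0 := by rw [two_smul]; exact hy
    exact (smul_eq_zero.1 this).resolve_left h2
  · rw [codisjoint_iff, eq_top_iff]
    intro x _
    rw [Submodule.mem_sup]
    refine ⟨(2 : F)⁻¹ • (x + t x), ?_, (2 : F)⁻¹ • (x - t x), ?_, ?_⟩
    · rw [mem_ker, map_smul, LinearMap.sub_apply, Module.End.one_apply, map_add, htt]
      rw [show t x + x - (x + t x) = 0 by abel, smul_zero]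
    · rw [mem_ker, map_smul, LinearMap.add_apply, Module.End.one_apply, map_sub, htt]
      rw [show t x - x + (x - t x) = 0 by abel, smul_zero]
    · rw [← smul_add, show x + t x + (x - t x) = (2 : F) • x by rw [two_smul]; abel, smul_smul,
        inv_mul_cancel₀ h2, one_smul]

theorem finite_end [Finite F] (V : Type*) [AddCommGroup V] [Module F V] [FiniteDimensional F V] :
    Finite (End F V) := by
  haveI : Finite V := Module.finite_of_finite F
  exact Finite.of_injective (fun f : End F V => (f : V → V)) DFunLike.coe_injective

/-- commuting isometric involutions of a symplectic space of dimension `d`: at most `2^(d/2)` -/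
theorem sq_ncard_le [Finite F] (h2 : (2 : F) ≠ 0) : ∀ (d : ℕ) (V : Type u) [AddCommGroup V]
    [Module F V] [FiniteDimensional F V] (B : LinearMap.BilinForm F V), B.IsAlt →
    (∀ x, (∀ y, B x y = 0) → x = 0) → finrank F V = d → ∀ A : Set (End F V),
    (∀ a ∈ A, a * a = 1) → (∀ a ∈ A, IsoB B a) → (∀ a ∈ A, ∀ b ∈ A, Commute a b) →
    A.ncard ^ 2 ≤ 2 ^ d := by
  intro d
  induction d using Nat.strong_induction_on with
  | _ d ih =>
    intro V _ _ _ B hA hnd hd A hsq hiso hcomm
    haveI := finite_end (F := F) V
    by_cases hall : ∀ a ∈ A, a = 1 ∨ a = -1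
    · have hsub : A ⊆ {1, -1} := fun a ha => by
        rcases hall a ha with h | h
        · left; exact h
        · right; exact h
      have hle2 : A.ncard ≤ 2 :=
        (Set.ncard_le_ncard hsub (Set.toFinite _)).trans
          ((Set.ncard_insert_le _ _).trans (by rw [Set.ncard_singleton]))
      rcases Nat.lt_or_ge d 2 with hd2 | hd2
      · interval_cases d
        · haveI : Subsingleton V := Module.finrank_zero_iff.1 hd
          have : A.ncard ≤ 1 := Set.ncard_le_one_of_subsingleton A
          interval_cases A.ncard <;> simp
        · exfalso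
          obtain ⟨v, hv, hspan⟩ := finrank_eq_one_iff'.1 hd
          apply hv
          apply hnd
          intro y
          obtain ⟨c, rfl⟩ := hspan y
          rw [map_smul, smul_eq_mul, hA, mul_zero]
      · calc A.ncard ^ 2 ≤ 2 ^ 2 := Nat.pow_le_pow_left hle2 2
          _ ≤ 2 ^ d := Nat.pow_le_pow_right (by norm_num) hd2
    · push Not at hall
      obtain ⟨t, htA, ht1, htm1⟩ := hall
      have htt := hsq t htA
      set p := ker (t - 1) with hp
      set q := ker (t + 1) with hq
      have hc : IsCompl p q := isCompl_eigen h2 htt
      have memp : ∀ x, x ∈ p ↔ t x = x := fun x => by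
        rw [hp, mem_ker, LinearMap.sub_apply, Module.End.one_apply, sub_eq_zero]
      have memq : ∀ x, x ∈ q ↔ t x = -x := fun x => by
        rw [hq, mem_ker, LinearMap.add_apply, Module.End.one_apply, add_eq_zero_iff_eq_neg]
      have hdim := Submodule.finrank_add_eq_of_isCompl hc
      have hp0 : 0 < finrank F p := by
        rw [Module.finrank_pos_iff, Submodule.nontrivial_iff_ne_bot]
        intro hbot
        apply htm1
        have htop : q = ⊤ := by
          have := hc.sup_eq_top
          rwa [hbot, bot_sup_eq] at this
        apply LinearMap.ext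
        intro x
        have : x ∈ q := htop ▸ Submodule.mem_top
        rw [(memq x).1 this]; rfl
      have hq0 : 0 < finrank F q := by
        rw [Module.finrank_pos_iff, Submodule.nontrivial_iff_ne_bot]
        intro hbot
        apply ht1
        have htop : p = ⊤ := by
          have := hc.sup_eq_top
          rwa [hbot, sup_bot_eq] at this
        apply LinearMap.ext
        intro x
        have : x ∈ p := htop ▸ Submodule.mem_top
        rw [(memp x).1 this]; rfl
      have horth : ∀ x ∈ p, ∀ y ∈ q, B x y = 0 := by
        intro x hx y hy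
        have h1 := hiso t htA x y
        rw [(memp x).1 hx, (memq y).1 hy, map_neg] at h1
        have h3 : (2 : F) * B x y = 0 := by linear_combination -h1
        exact (mul_eq_zero.1 h3).resolve_left h2
      have horth' : ∀ x ∈ q, ∀ y ∈ p, B x y = 0 := by
        intro x hx y hy
        rw [← hA.neg_eq, horth y hy x hx, neg_zero]
      have invp : ∀ a ∈ A, ∀ x ∈ p, a x ∈ p := by
        intro a ha x hx
        rw [memp] at hx ⊢
        have := congrArg (fun f : End F V => f x) (hcomm t htA a ha).eq
        simp only [Module.End.mul_apply] at this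
        rw [this, hx]
      have invq : ∀ a ∈ A, ∀ x ∈ q, a x ∈ q := by
        intro a ha x hx
        rw [memq] at hx ⊢
        have := congrArg (fun f : End F V => f x) (hcomm t htA a ha).eq
        simp only [Module.End.mul_apply] at this
        rw [this, hx, map_neg]
      have key : ∀ (r r' : Submodule F V) (hrc : IsCompl r r'), (∀ x ∈ r, ∀ y ∈ r', B x y = 0) →
          (∀ a ∈ A, ∀ x ∈ r, a x ∈ r) → finrank F r < d →
          ((cutEnd r r' hrc) '' A).ncard ^ 2 ≤ 2 ^ finrank F r := by
        intro r r' hrc hor hinv hlt
        apply ih (finrank F r) hlt r (B.restrict r)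
        · intro x; exact hA x
        · intro x hx
          apply Subtype.ext
          apply hnd
          intro v
          have hv : v ∈ r ⊔ r' := hrc.sup_eq_top ▸ Submodule.mem_top
          obtain ⟨v1, hv1, v2, hv2, rfl⟩ := Submodule.mem_sup.1 hv
          rw [map_add, hor x x.2 v2 hv2, add_zero]
          exact hx ⟨v1, hv1⟩
        · rfl
        · rintro _ ⟨a, ha, rfl⟩
          apply LinearMap.ext
          intro x
          apply Subtype.ext
          rw [Module.End.mul_apply, cutEnd_apply hrc (hinv a ha), cutEnd_apply hrc (hinv a ha),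
            ← Module.End.mul_apply, hsq a ha]
          rfl
        · rintro _ ⟨a, ha, rfl⟩ x y
          change B (cutEnd r r' hrc a x : V) (cutEnd r r' hrc a y : V) = B x y
          rw [cutEnd_apply hrc (hinv a ha), cutEnd_apply hrc (hinv a ha)]
          exact hiso a ha x y
        · rintro _ ⟨a, ha, rfl⟩ _ ⟨b, hb, rfl⟩
          apply LinearMap.ext
          intro x
          apply Subtype.ext
          rw [Module.End.mul_apply, Module.End.mul_apply, cutEnd_apply hrc (hinv a ha),
            cutEnd_apply hrc (hinv b hb), cutEnd_apply hrc (hinv b hb),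
            cutEnd_apply hrc (hinv a ha)]
          have := congrArg (fun f : End F V => f (x : V)) (hcomm a ha b hb).eq
          simpa only [Module.End.mul_apply] using this
      have kp := key p q hc horth invp (by omega)
      have kq := key q p hc.symm horth' invq (by omega)
      haveI := finite_end (F := F) p
      haveI := finite_end (F := F) q
      have hinj : A.ncard ≤ (((cutEnd p q hc) '' A) ×ˢ ((cutEnd q p hc.symm) '' A)).ncard := by
        apply Set.ncard_le_ncard_of_injOn (fun a => (cutEnd p q hc a, cutEnd q p hc.symm a))
        · intro a ha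
          exact ⟨⟨a, ha, rfl⟩, ⟨a, ha, rfl⟩⟩
        · intro a ha b hb hab
          have e1 : cutEnd p q hc a = cutEnd p q hc b := congrArg Prod.fst hab
          have e2 : cutEnd q p hc.symm a = cutEnd q p hc.symm b := congrArg Prod.snd hab
          apply LinearMap.ext
          intro v
          have hv : v ∈ p ⊔ q := hc.sup_eq_top ▸ Submodule.mem_top
          obtain ⟨v1, hv1, v2, hv2, rfl⟩ := Submodule.mem_sup.1 hv
          have f1 : a v1 = b v1 := by
            have := congrArg (fun f : End F p => ((f ⟨v1, hv1⟩ : p) : V)) e1
            simpa only [cutEnd_apply hc (invp a ha), cutEnd_apply hc (invp b hb)] using this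
          have f2 : a v2 = b v2 := by
            have := congrArg (fun f : End F q => ((f ⟨v2, hv2⟩ : q) : V)) e2
            simpa only [cutEnd_apply hc.symm (invq a ha), cutEnd_apply hc.symm (invq b hb)]
              using this
          rw [map_add, map_add, f1, f2]
      rw [Set.ncard_prod] at hinj
      calc A.ncard ^ 2 ≤ (((cutEnd p q hc) '' A).ncard * ((cutEnd q p hc.symm) '' A).ncard) ^ 2 :=
            Nat.pow_le_pow_left hinj 2
        _ = ((cutEnd p q hc) '' A).ncard ^ 2 * ((cutEnd q p hc.symm) '' A).ncard ^ 2 := mul_pow _ _ _
        _ ≤ 2 ^ finrank F p * 2 ^ finrank F q := Nat.mul_le_mul kp kq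
        _ = 2 ^ d := by rw [← pow_add, hdim, hd]

end Cfsg.Agent.Lib.Helper48
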