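import Mathlib

set_option autoImplicit false
set_option linter.unusedSectionVars false

namespace Cfsg.Agent.Lib.Helper48

open Polynomial Finset

variable {q r : ℕ}

theorem dvd_pow_sub_one_iff_orderOf (hq : 1 ≤ q) (j : ℕ) :
    r ∣ q ^ j - 1 ↔ orderOf (q : ZMod r) ∣ j := by
  rw [orderOf_dvd_iff_pow_eq_one, ← ZMod.natCast_eq_zero_iff,
    Nat.cast_sub (Nat.one_le_pow _ _ hq)]
  simp [sub_eq_zero]

theorem orderOf_pos_of_not_dvd [Fact r.Prime] (hrq : ¬ r ∣ q) : 0 < orderOf (q : ZMod r) := by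
  have h0 : (q : ZMod r) ≠ 0 := by rwa [Ne, ZMod.natCast_eq_zero_iff]
  have := orderOf_pos (Units.mk0 (q : ZMod r) h0)
  rwa [← orderOf_units, Units.val_mk0] at this

/-- `v_r(q^(d l) - 1) = v_r(q^d - 1)` for `r ∤ l` -/
theorem factorization_pow_mul_sub_one [Fact r.Prime] (hq : 2 ≤ q) (hrq : ¬ r ∣ q) (l : ℕ)
    (hl : ¬ r ∣ l) :
    (q ^ (orderOf (q : ZMod r) * l) - 1).factorization r =
      (q ^ orderOf (q : ZMod r) - 1).factorization r := by
  have hr : r.Prime := Fact.out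
  set d := orderOf (q : ZMod r) with hd
  have hd0 : 0 < d := orderOf_pos_of_not_dvd hrq
  have hl0 : l ≠ 0 := by
    rintro rfl
    exact hl (dvd_zero r)
  have hdvd : r ∣ q ^ d - 1 := (dvd_pow_sub_one_iff_orderOf (by omega) d).2 dvd_rfl
  -- geometric sum argument
  have hgeom : q ^ (d * l) - 1 = (q ^ d - 1) * ∑ i ∈ range l, (q ^ d) ^ i := by
    have h1 := Nat.geomSum_eq (m := q ^ d) (by
      calc 2 ≤ q := hq
        _ = q ^ 1 := (pow_one q).symm
        _ ≤ q ^ d := Nat.pow_le_pow_right (by omega) hd0) l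
    rw [h1, pow_mul]
    have h2 : q ^ d - 1 ∣ (q ^ d) ^ l - 1 := by
      simpa using Nat.sub_dvd_pow_sub_pow (q ^ d) 1 l
    rw [Nat.mul_div_cancel' h2]
  have hsum : ¬ r ∣ ∑ i ∈ range l, (q ^ d) ^ i := by
    rw [← ZMod.natCast_eq_zero_iff]
    push_cast
    have h1 : (q : ZMod r) ^ d = 1 := pow_orderOf_eq_one _
    rw [h1]
    simp only [one_pow, sum_const, card_range, nsmul_eq_mul, mul_one]
    rwa [ZMod.natCast_eq_zero_iff]
  have hne1 : q ^ d - 1 ≠ 0 := by
    have : 2 ≤ q ^ d := by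
      calc 2 ≤ q := hq
        _ = q ^ 1 := (pow_one q).symm
        _ ≤ q ^ d := Nat.pow_le_pow_right (by omega) hd0
    omega
  have hne2 : ∑ i ∈ range l, (q ^ d) ^ i ≠ 0 := by
    intro h
    exact hsum (h ▸ dvd_zero r)
  rw [hgeom, Nat.factorization_mul hne1 hne2, Finsupp.add_apply,
    Nat.factorization_eq_zero_of_not_dvd hsum, add_zero]

/-- the `r`-part of `q^j - 1` -/
theorem factorization_pow_sub_one [Fact r.Prime] (hq : 2 ≤ q) (hrq : ¬ r ∣ q) (j : ℕ)
    (hj0 : 0 < j) (hj : j / orderOf (q : ZMod r) < r) :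
    (q ^ j - 1).factorization r =
      if orderOf (q : ZMod r) ∣ j then (q ^ orderOf (q : ZMod r) - 1).factorization r else 0 := by
  have hd0 : 0 < orderOf (q : ZMod r) := orderOf_pos_of_not_dvd hrq
  split_ifs with h
  · obtain ⟨l, rfl⟩ := h
    rw [Nat.mul_div_cancel_left _ hd0] at hj
    have hl0 : 0 < l := Nat.pos_of_mul_pos_left hj0
    exact factorization_pow_mul_sub_one hq hrq l (fun h => by
      have := Nat.le_of_dvd hl0 h
      omega)
  · exact Nat.factorization_eq_zero_of_not_dvd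
      (fun h' => h ((dvd_pow_sub_one_iff_orderOf (by omega) j).1 h'))

/-- the `r`-part of `∏_{j=1}^N (q^j - 1)` -/
theorem factorization_prod_pow_sub_one [Fact r.Prime] (hq : 2 ≤ q) (hrq : ¬ r ∣ q) (N : ℕ)
    (hN : N / orderOf (q : ZMod r) < r) :
    (∏ i ∈ range N, (q ^ (i + 1) - 1)).factorization r =
      (N / orderOf (q : ZMod r)) * (q ^ orderOf (q : ZMod r) - 1).factorization r := by
  have hne : ∀ i ∈ range N, q ^ (i + 1) - 1 ≠ 0 := by
    intro i _
    have : 2 ≤ q ^ (i + 1) := by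
      calc 2 ≤ q := hq
        _ = q ^ 1 := (pow_one q).symm
        _ ≤ q ^ (i + 1) := Nat.pow_le_pow_right (by omega) (by omega)
    omega
  rw [Nat.factorization_prod_apply hne]
  have h1 : ∀ i ∈ range N, (q ^ (i + 1) - 1).factorization r =
      if orderOf (q : ZMod r) ∣ i + 1 then (q ^ orderOf (q : ZMod r) - 1).factorization r
      else 0 := by
    intro i hi
    apply factorization_pow_sub_one hq hrq (i + 1) (Nat.succ_pos i)
    refine lt_of_le_of_lt (Nat.div_le_div_right ?_) hN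
    have := mem_range.1 hi
    omega
  rw [sum_congr rfl h1, ← sum_filter, sum_const, Nat.card_multiples, smul_eq_mul]

/-- the `r`-part of the order of `GL_N(q)` -/
theorem factorization_card_GL [Fact r.Prime] (hq : 2 ≤ q) (hrq : ¬ r ∣ q) (N : ℕ)
    (hN : N / orderOf (q : ZMod r) < r) :
    (∏ i : Fin N, (q ^ N - q ^ (i : ℕ))).factorization r =
      (N / orderOf (q : ZMod r)) * (q ^ orderOf (q : ZMod r) - 1).factorization r := by
  have hr : r.Prime := Fact.out
  rw [← factorization_prod_pow_sub_one hq hrq N hN, Fin.prod_univ_eq_prod_range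
    (fun i => q ^ N - q ^ i) N, ← prod_range_reflect]
  have hne1 : ∀ i ∈ range N, q ^ N - q ^ (N - 1 - i) ≠ 0 := by
    intro i hi
    have := mem_range.1 hi
    have : q ^ (N - 1 - i) < q ^ N := Nat.pow_lt_pow_right (by omega) (by omega)
    omega
  have hne2 : ∀ i ∈ range N, q ^ (i + 1) - 1 ≠ 0 := by
    intro i _
    have : 2 ≤ q ^ (i + 1) := by
      calc 2 ≤ q := hq
        _ = q ^ 1 := (pow_one q).symm
        _ ≤ q ^ (i + 1) := Nat.pow_le_pow_right (by omega) (by omega)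
    omega
  rw [Nat.factorization_prod_apply hne1, Nat.factorization_prod_apply hne2]
  apply sum_congr rfl
  intro i hi
  have hi' := mem_range.1 hi
  have h1 : q ^ N - q ^ (N - 1 - i) = q ^ (N - 1 - i) * (q ^ (i + 1) - 1) := by
    rw [Nat.mul_sub, mul_one, ← pow_add]
    congr 2
    omega
  rw [h1, Nat.factorization_mul (pow_ne_zero _ (by omega)) (hne2 i hi), Finsupp.add_apply,
    Nat.factorization_eq_zero_of_not_dvd (fun h => hrq (hr.dvd_of_dvd_pow h)), zero_add]

/-- the `r`-part of `q^d - 1` is the `r`-part of `Φ_d(q)`, `d` the order of `q` mod `r` -/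
theorem factorization_cyclotomic [Fact r.Prime] (hq : 2 ≤ q) (hrq : ¬ r ∣ q) :
    padicValNat r ((cyclotomic (orderOf (q : ZMod r)) ℤ).eval (q : ℤ)).natAbs =
      (q ^ orderOf (q : ZMod r) - 1).factorization r := by
  have hr : r.Prime := Fact.out
  set d := orderOf (q : ZMod r) with hd
  have hd0 : 0 < d := orderOf_pos_of_not_dvd hrq
  have h1 : ((q ^ d - 1 : ℕ) : ℤ) = ∏ i ∈ Nat.divisors d, (cyclotomic i ℤ).eval (q : ℤ) := by
    rw [← eval_prod, prod_cyclotomic_eq_X_pow_sub_one hd0, Nat.cast_sub (Nat.one_le_pow _ _ (by omega))]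
    simp
  have h2 : q ^ d - 1 = ∏ i ∈ Nat.divisors d, ((cyclotomic i ℤ).eval (q : ℤ)).natAbs := by
    have := congrArg Int.natAbs h1
    rw [Int.natAbs_natCast] at this
    rw [this]
    exact map_prod Int.natAbsHom _ _
  have hne0 : q ^ d - 1 ≠ 0 := by
    have : 2 ≤ q ^ d := by
      calc 2 ≤ q := hq
        _ = q ^ 1 := (pow_one q).symm
        _ ≤ q ^ d := Nat.pow_le_pow_right (by omega) hd0
    omega
  have hne : ∀ i ∈ Nat.divisors d, ((cyclotomic i ℤ).eval (q : ℤ)).natAbs ≠ 0 := by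
    intro i hi h0
    apply hne0
    rw [h2]
    exact prod_eq_zero hi h0
  rw [h2, Nat.factorization_prod_apply hne, ← Nat.factorization_def _ hr]
  symm
  apply sum_eq_single_of_mem d (Nat.mem_divisors_self d hd0.ne')
  intro i hi hid
  apply Nat.factorization_eq_zero_of_not_dvd
  intro hdvd
  have hi' := Nat.mem_divisors.1 hi
  have hi0 : 0 < i := Nat.pos_of_dvd_of_pos hi'.1 hd0
  have h3 : ((cyclotomic i ℤ).eval (q : ℤ)) ∣ ((q ^ i - 1 : ℕ) : ℤ) := by
    have h4 := eval_dvd (x := (q : ℤ)) (cyclotomic.dvd_X_pow_sub_one i ℤ)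
    rw [Nat.cast_sub (Nat.one_le_pow _ _ (by omega))]
    simpa using h4
  have h5 : r ∣ q ^ i - 1 := by
    have h6 : ((cyclotomic i ℤ).eval (q : ℤ)).natAbs ∣ q ^ i - 1 := by
      have := Int.natAbs_dvd_natAbs.2 h3
      rwa [Int.natAbs_natCast] at this
    exact hdvd.trans h6
  have h7 := (dvd_pow_sub_one_iff_orderOf (by omega) i).1 h5
  exact hid (Nat.dvd_antisymm hi'.1 h7)

end Cfsg.Agent.Lib.Helper48
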