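import Mathlib
import Cfsg.Agent.Lib.Helper48.AlgEmb
import Cfsg.Agent.Lib.Helper48.GLOrders
import Cfsg.Agent.Lib.Helper48.SylArith

set_option autoImplicit false
set_option linter.unusedSectionVars false

namespace Cfsg.Agent.Lib.Helper48

open Module

/-- A subgroup (given by an injective hom) of the full `r`-part order is isomorphic to every Sylow
`r`-subgroup. -/
theorem sylow_mulEquiv_of_injective {G H : Type*} [Group G] [Finite G] [Group H] (r : ℕ)
    [Fact r.Prime] (θ : H →* G) (hθ : Function.Injective θ)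
    (hcard : Nat.card H = r ^ (Nat.card G).factorization r) (P : Sylow r G) :
    Nonempty (↥(P : Subgroup G) ≃* H) := by
  have h1 : Nat.card θ.range = r ^ (Nat.card G).factorization r := by
    rw [← hcard]
    exact (Nat.card_congr (MonoidHom.ofInjective hθ).toEquiv).symm
  exact ⟨(Sylow.equiv P (Sylow.ofCard θ.range h1)).trans (MonoidHom.ofInjective hθ).symm⟩

/-- an element of order `m` gives an embedding of `Z_m` -/
theorem exists_injective_zmod_hom {G : Type*} [Group G] (c : G) (m : ℕ) (hc : orderOf c = m) :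
    ∃ ι : Multiplicative (ZMod m) →* G, Function.Injective ι := by
  subst hc
  have h1 : Nat.card (Subgroup.zpowers c) = orderOf c := Nat.card_zpowers c
  have e := zmodCyclicMulEquiv (G := Subgroup.zpowers c) inferInstance
  rw [h1] at e
  exact ⟨(Subgroup.zpowers c).subtype.comp e.toMonoidHom,
    (Subgroup.subtype_injective _).comp e.injective⟩

theorem card_homocyclic (a m : ℕ) : Nat.card (Fin a → Multiplicative (ZMod m)) = m ^ a := by
  rw [Nat.card_fun, Nat.card_eq_fintype_card (α := Fin a), Fintype.card_fin]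
  congr 1
  exact Nat.card_zmod m

variable {F : Type*} [Field F] [Finite F]

/-- homocyclic subgroups of the torus `(F_{q^d}^×)^a` of `GL_n(q)` -/
theorem exists_injective_homocyclic (n d a m : ℕ) (hd : 1 ≤ d) (had : a * d ≤ n)
    (hm : m ∣ Nat.card F ^ d - 1) :
    ∃ θ : (Fin a → Multiplicative (ZMod m)) →* GL (Fin n) F, Function.Injective θ := by
  obtain ⟨p, hp⟩ := CharP.exists F
  have : Fact p.Prime := ⟨CharP.char_is_prime F p⟩
  have : NeZero d := ⟨by omega⟩
  obtain ⟨φ, hφ⟩ := exists_injective_units_hom (F := F) (Fin a → FiniteField.Extension F p d) n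
    (by rw [finrank_pi_fintype]; simp [FiniteField.finrank_extension]; exact had)
  obtain ⟨x, hx⟩ := exists_units_orderOf_eq (FiniteField.Extension F p d)
  rw [FiniteField.natCard_extension] at hx
  have hx0 : orderOf x ≠ 0 := (orderOf_pos x).ne'
  have hc : orderOf (x ^ (orderOf x / m)) = m := orderOf_pow_orderOf_div hx0 (hx ▸ hm)
  obtain ⟨ι, hι⟩ := exists_injective_zmod_hom _ m hc
  refine ⟨φ.comp ((MulEquiv.piUnits (M := fun _ : Fin a => FiniteField.Extension F p d)).symm.toMonoidHom.comp
    (ι.compLeft (Fin a))), ?_⟩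
  intro u v huv
  have h1 := (MulEquiv.piUnits (M := fun _ : Fin a => FiniteField.Extension F p d)).symm.injective
    (hφ huv)
  funext i
  exact hι (congrFun h1 i)

theorem two_le_card_field : 2 ≤ Nat.card F := Finite.one_lt_card

/-- the embedded homocyclic `r`-subgroup of `GL_n(q)` of full order -/
theorem exists_injective_homocyclic_GL (n r : ℕ) [Fact r.Prime] (hrq : ¬ r ∣ Nat.card F) :
    ∃ θ : (Fin (n / orderOf (Nat.card F : ZMod r)) → Multiplicative (ZMod
      (r ^ (Nat.card F ^ orderOf (Nat.card F : ZMod r) - 1).factorization r))) →* GL (Fin n) F,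
      Function.Injective θ :=
  exists_injective_homocyclic n _ _ _ (orderOf_pos_of_not_dvd hrq) (Nat.div_mul_le_self _ _)
    (Nat.ordProj_dvd _ _)

theorem card_GL_factorization (n r : ℕ) [Fact r.Prime] (hrq : ¬ r ∣ Nat.card F)
    (hrn : n / orderOf (Nat.card F : ZMod r) < r) :
    (Nat.card (GL (Fin n) F)).factorization r = (n / orderOf (Nat.card F : ZMod r)) *
      (Nat.card F ^ orderOf (Nat.card F : ZMod r) - 1).factorization r := by
  have := Fintype.ofFinite F
  rw [Matrix.card_GL_field, ← Nat.card_eq_fintype_card]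
  exact factorization_card_GL two_le_card_field hrq n hrn

/-- Sylow `r`-subgroups of `GL_n(q)` are homocyclic when `⌊n/d⌋ < r`. -/
theorem sylow_GL_homocyclic (n r : ℕ) [Fact r.Prime] (hrq : ¬ r ∣ Nat.card F)
    (hrn : n / orderOf (Nat.card F : ZMod r) < r) (P : Sylow r (GL (Fin n) F)) :
    Nonempty (↥(P : Subgroup (GL (Fin n) F)) ≃*
      (Fin (n / orderOf (Nat.card F : ZMod r)) → Multiplicative (ZMod
      (r ^ (Nat.card F ^ orderOf (Nat.card F : ZMod r) - 1).factorization r)))) := by
  obtain ⟨θ, hθ⟩ := exists_injective_homocyclic_GL (F := F) n r hrq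
  refine sylow_mulEquiv_of_injective r θ hθ ?_ P
  rw [card_homocyclic, card_GL_factorization n r hrq hrn, ← pow_mul, mul_comm]

end Cfsg.Agent.Lib.Helper48
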