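import Mathlib
import Cfsg.Agent.S4623
import Cfsg.Agent.Lib.Helper48.SylTorus

set_option autoImplicit false

namespace Cfsg.Agent.Lib.Helper48

open Matrix Cfsg.Agent.S4623
open scoped commutatorElement

theorem ExT_of_twist {H : Type*} [Group H] (t i : H) (hz : ∀ y : H, Commute (i ^ 2) y)
    (hi : i * t * i = t)
    (hx : ∀ x : H, x * t * x = t ∨ x * t * x = i ^ 2 * t ∨ x ^ 2 = 1 ∨ x ^ 2 = i ^ 2) :
    ExT 2 H := by
  have key : ∀ x z : H, (∀ y, Commute z y) → x * t * x = z * t → x ^ 2 * ⁅t, x⁆ = z := by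
    intro x z hz h
    have h1 : x ^ 2 * ⁅t, x⁆ = x * (x * t * x) * t⁻¹ * x⁻¹ := by
      rw [commutatorElement_def, pow_two]; simp only [mul_assoc]
    rw [h1, h]
    have h2 := (hz x).eq
    calc x * (z * t) * t⁻¹ * x⁻¹ = (x * z) * x⁻¹ := by group
      _ = z := by rw [← h2]; group
  have hc : ∀ x : H, ⁅t, x⁆ ∈ commutator H := fun x =>
    Subgroup.commutator_mem_commutator (Subgroup.mem_top _) (Subgroup.mem_top _)
  have hzmem : i ^ 2 ∈ commutator H := by
    have := key i 1 (fun y => Commute.one_left y) (by rw [one_mul]; exact hi)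
    rw [eq_inv_of_mul_eq_one_left this]
    exact inv_mem (hc i)
  intro x
  rcases hx x with h | h | h | h
  · have := key x 1 (fun y => Commute.one_left y) (by rw [one_mul]; exact h)
    rw [eq_inv_of_mul_eq_one_left this]
    exact inv_mem (hc x)
  · have := key x (i ^ 2) hz h
    rw [eq_mul_inv_of_mul_eq this]
    exact mul_mem hzmem (inv_mem (hc x))
  · rw [h]; exact one_mem _
  · rw [h]; exact hzmem

variable {F : Type*} [Field F]

/-- matrices `a + b i` -/
def IsCT (g : Matrix (Fin 2) (Fin 2) F) : Prop := g 0 0 = g 1 1 ∧ g 0 1 = - g 1 0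

/-- matrices `(a + b i) w` -/
def IsWT (g : Matrix (Fin 2) (Fin 2) F) : Prop := g 0 0 = - g 1 1 ∧ g 0 1 = g 1 0

theorem IsCT.mul {g h : Matrix (Fin 2) (Fin 2) F} (hg : IsCT g) (hh : IsCT h) : IsCT (g * h) := by
  obtain ⟨a1, a2⟩ := hg
  obtain ⟨b1, b2⟩ := hh
  constructor <;> simp only [Matrix.mul_apply, Fin.sum_univ_two] <;> rw [a1, a2, b1, b2] <;> ring

theorem IsCT.mul_WT {g h : Matrix (Fin 2) (Fin 2) F} (hg : IsCT g) (hh : IsWT h) :
    IsWT (g * h) := by
  obtain ⟨a1, a2⟩ := hg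
  obtain ⟨b1, b2⟩ := hh
  constructor <;> simp only [Matrix.mul_apply, Fin.sum_univ_two] <;> rw [a1, a2, b1, b2] <;> ring

theorem IsWT.mul_CT {g h : Matrix (Fin 2) (Fin 2) F} (hg : IsWT g) (hh : IsCT h) :
    IsWT (g * h) := by
  obtain ⟨a1, a2⟩ := hg
  obtain ⟨b1, b2⟩ := hh
  constructor <;> simp only [Matrix.mul_apply, Fin.sum_univ_two] <;> rw [a1, a2, b1, b2] <;> ring

theorem IsWT.mul {g h : Matrix (Fin 2) (Fin 2) F} (hg : IsWT g) (hh : IsWT h) : IsCT (g * h) := by
  obtain ⟨a1, a2⟩ := hg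
  obtain ⟨b1, b2⟩ := hh
  constructor <;> simp only [Matrix.mul_apply, Fin.sum_univ_two] <;> rw [a1, a2, b1, b2] <;> ring

theorem isCT_inv (g : GL (Fin 2) F) (h : IsCT g.1) : IsCT (g⁻¹).1 := by
  rw [Matrix.coe_units_inv, Matrix.inv_def, Matrix.adjugate_fin_two]
  obtain ⟨h1, h2⟩ := h
  constructor
  · simp [h1]
  · simp [h2]

theorem isWT_inv (g : GL (Fin 2) F) (h : IsWT g.1) : IsWT (g⁻¹).1 := by
  rw [Matrix.coe_units_inv, Matrix.inv_def, Matrix.adjugate_fin_two]
  obtain ⟨h1, h2⟩ := h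
  constructor
  · simp [h1]
  · simp [h2]

theorem not_CT_and_WT (h2 : (2 : F) ≠ 0) (g : GL (Fin 2) F) (h : IsCT g.1) (h' : IsWT g.1) :
    False := by
  obtain ⟨a1, a2⟩ := h
  obtain ⟨b1, b2⟩ := h'
  have e1 : g.1 1 1 = 0 := by
    have : (2 : F) * g.1 1 1 = 0 := by linear_combination b1 - a1
    exact (mul_eq_zero.1 this).resolve_left h2
  have e2 : g.1 1 0 = 0 := by
    have : (2 : F) * g.1 1 0 = 0 := by linear_combination a2 - b2
    exact (mul_eq_zero.1 this).resolve_left h2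
  have hdet : g.1.det ≠ 0 := ((Matrix.isUnit_iff_isUnit_det _).1 g.isUnit).ne_zero
  apply hdet
  rw [det_fin_two, e1, e2]; ring

theorem CT_mul_WT_mul_CT {x t : Matrix (Fin 2) (Fin 2) F} (hx : IsCT x) (ht : IsWT t) :
    x * t * x = x.det • t := by
  obtain ⟨a1, a2⟩ := hx
  obtain ⟨b1, b2⟩ := ht
  ext i j
  fin_cases i <;> fin_cases j <;>
    simp only [Matrix.mul_apply, Fin.sum_univ_two, det_fin_two, Matrix.smul_apply, smul_eq_mul,
      Fin.zero_eta, Fin.mk_one, Fin.isValue] <;> rw [a1, a2, b1, b2] <;> ring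

theorem WT_mul_self {x : Matrix (Fin 2) (Fin 2) F} (hx : IsWT x) :
    x * x = (-x.det) • (1 : Matrix (Fin 2) (Fin 2) F) := by
  obtain ⟨a1, a2⟩ := hx
  ext i j
  fin_cases i <;> fin_cases j <;>
    simp [Matrix.mul_apply, Fin.sum_univ_two, det_fin_two, a1, a2] <;> ring

/-- the normaliser of the nonsplit torus -/
def torusN (F : Type*) [Field F] : Subgroup (GL (Fin 2) F) where
  carrier := {g | IsCT g.1 ∨ IsWT g.1}
  mul_mem' := by
    rintro a b (ha | ha) (hb | hb)
    · exact Or.inl (ha.mul hb)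
    · exact Or.inr (ha.mul_WT hb)
    · exact Or.inr (ha.mul_CT hb)
    · exact Or.inl (ha.mul hb)
  one_mem' := Or.inl ⟨by simp, by simp⟩
  inv_mem' := by
    rintro a (ha | ha)
    · exact Or.inl (isCT_inv a ha)
    · exact Or.inr (isWT_inv a ha)

/-- the nonsplit torus -/
def torusC (F : Type*) [Field F] : Subgroup (GL (Fin 2) F) where
  carrier := {g | IsCT g.1}
  mul_mem' := fun ha hb => ha.mul hb
  one_mem' := ⟨by simp, by simp⟩
  inv_mem' := fun {a} ha => isCT_inv a ha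

/-- the torus has `q² - 1` elements -/
noncomputable def torusCEquiv (hsq : ∀ a b : F, a ^ 2 + b ^ 2 = 0 → a = 0 ∧ b = 0) :
    torusC F ≃ {p : F × F // p ≠ 0} where
  toFun g := ⟨(g.1.1 0 0, g.1.1 1 0), by
    intro h
    have h1 : g.1.1 0 0 = 0 := congrArg Prod.fst h
    have h2 : g.1.1 1 0 = 0 := congrArg Prod.snd h
    have hdet : g.1.1.det ≠ 0 := ((Matrix.isUnit_iff_isUnit_det _).1 g.1.isUnit).ne_zero
    apply hdet
    rw [det_fin_two, ← g.2.1, g.2.2, h1, h2]; ring⟩
  invFun p := ⟨Matrix.GeneralLinearGroup.mkOfDetNeZero !![p.1.1, -p.1.2; p.1.2, p.1.1] (by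
    rw [det_fin_two_of]
    intro h
    have := hsq p.1.1 p.1.2 (by linear_combination h)
    exact p.2 (Prod.ext this.1 this.2)), ⟨rfl, rfl⟩⟩
  left_inv g := by
    apply Subtype.ext
    apply Units.ext
    have h1 := g.2.1
    have h2 := g.2.2
    ext a b
    fin_cases a <;> fin_cases b
    · rfl
    · exact h2.symm
    · rfl
    · exact h1
  right_inv p := by
    apply Subtype.ext
    rfl

theorem sq_add_sq_eq_zero [Fintype F] (hq : 4 ∣ Fintype.card F + 1) (a b : F)
    (h : a ^ 2 + b ^ 2 = 0) : a = 0 ∧ b = 0 := by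
  have hns : ¬ IsSquare (-1 : F) := by
    rw [FiniteField.isSquare_neg_one_iff]
    omega
  by_cases hb : b = 0
  · subst hb
    refine ⟨?_, rfl⟩
    have : a ^ 2 = 0 := by linear_combination h
    exact pow_eq_zero_iff (by norm_num) |>.1 this
  · exfalso
    apply hns
    refine ⟨a / b, ?_⟩
    field_simp
    linear_combination -h

theorem card_torusC [Fintype F] (hq : 4 ∣ Fintype.card F + 1) :
    Nat.card (torusC F) = Fintype.card F ^ 2 - 1 := by
  classical
  rw [Nat.card_congr (torusCEquiv (sq_add_sq_eq_zero hq)), Nat.card_eq_fintype_card,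
    Fintype.card_subtype_compl, Fintype.card_prod, Fintype.card_subtype_eq, pow_two]

/-- `diag(1,-1)` -/
noncomputable def wGL (F : Type*) [Field F] : GL (Fin 2) F :=
  Matrix.GeneralLinearGroup.mkOfDetNeZero !![1, 0; 0, -1] (by simp)

/-- `i` -/
noncomputable def iGL (F : Type*) [Field F] : GL (Fin 2) F :=
  Matrix.GeneralLinearGroup.mkOfDetNeZero !![0, -1; 1, 0] (by simp)

theorem wGL_WT : IsWT (wGL F).1 := ⟨by simp [wGL, Matrix.GeneralLinearGroup.mkOfDetNeZero],
  by simp [wGL, Matrix.GeneralLinearGroup.mkOfDetNeZero]⟩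

theorem iGL_CT : IsCT (iGL F).1 := ⟨by simp [iGL, Matrix.GeneralLinearGroup.mkOfDetNeZero],
  by simp [iGL, Matrix.GeneralLinearGroup.mkOfDetNeZero]⟩

theorem iGL_sq : ((iGL F) ^ 2).1 = -1 := by
  rw [Units.val_pow_eq_pow_val, pow_two]
  change !![0, -1; 1, 0] * !![0, -1; 1, 0] = (-1 : Matrix (Fin 2) (Fin 2) F)
  rw [Matrix.mul_fin_two, ← Matrix.ext_iff]
  intro i j
  fin_cases i <;> fin_cases j <;> simp

theorem iGL_det : (iGL F).1.det = 1 := by
  change (!![0, -1; 1, 0] : Matrix (Fin 2) (Fin 2) F).det = 1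
  simp

theorem index_torusC (h2 : (2 : F) ≠ 0) : ((torusC F).subgroupOf (torusN F)).index = 2 := by
  rw [Subgroup.index_eq_two_iff]
  refine ⟨⟨wGL F, Or.inr wGL_WT⟩, ?_⟩
  rintro ⟨b, hb | hb⟩
  · right
    refine ⟨hb, ?_⟩
    intro h
    exact not_CT_and_WT h2 (b * wGL F) h (hb.mul_WT wGL_WT)
  · left
    refine ⟨hb.mul wGL_WT, ?_⟩
    intro h
    exact not_CT_and_WT h2 b h hb

theorem card_torusN [Fintype F] (hq : 4 ∣ Fintype.card F + 1) (h2 : (2 : F) ≠ 0) :
    Nat.card (torusN F) = (Fintype.card F ^ 2 - 1) * 2 := by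
  have hle : torusC F ≤ torusN F := fun g hg => Or.inl hg
  rw [← Subgroup.card_mul_index ((torusC F).subgroupOf (torusN F)), index_torusC h2,
    Nat.card_congr (Subgroup.subgroupOfEquivOfLe hle).toEquiv, card_torusC hq]

theorem det_eq_one_or_neg_one [Fintype F] (hq : 4 ∣ Fintype.card F + 1) (x : GL (Fin 2) F) (k : ℕ)
    (hx : x ^ 2 ^ k = 1) : x.1.det = 1 ∨ x.1.det = -1 := by
  set d := x.1.det with hd
  have hd0 : d ≠ 0 := ((Matrix.isUnit_iff_isUnit_det _).1 x.isUnit).ne_zero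
  have h1 : d ^ 2 ^ k = 1 := by
    rw [hd, ← Matrix.det_pow, ← Units.val_pow_eq_pow_val, hx]; simp
  have h2 : d ^ (Fintype.card F - 1) = 1 := FiniteField.pow_card_sub_one_eq_one d hd0
  obtain ⟨r, hr⟩ : ∃ r, Fintype.card F - 1 = 2 * (2 * r + 1) := by
    obtain ⟨c, hc⟩ := hq
    exact ⟨c - 1, by omega⟩
  have h3 : (d ^ 2) ^ (2 * r + 1) = 1 := by rw [← pow_mul, ← hr]; exact h2
  have h4 : (d ^ 2) ^ (2 ^ k) = 1 := by rw [← pow_mul, mul_comm, pow_mul, h1, one_pow]
  have h5 : (d ^ 2) ^ (Nat.gcd (2 * r + 1) (2 ^ k)) = 1 := pow_gcd_eq_one.2 ⟨h3, h4⟩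
  have h6 : Nat.gcd (2 * r + 1) (2 ^ k) = 1 := by
    apply Nat.Coprime.pow_right
    rw [Nat.coprime_two_right]
    exact ⟨r, rfl⟩
  rw [h6, pow_one] at h5
  have h7 : (d - 1) * (d + 1) = 0 := by linear_combination h5
  rcases mul_eq_zero.1 h7 with h | h
  · left; linear_combination h
  · right; linear_combination h

theorem ExT_sylow_GL2 [Fintype F] (hq : 4 ∣ Fintype.card F + 1) (S : Sylow 2 (GL (Fin 2) F)) :
    ExT 2 (S : Subgroup (GL (Fin 2) F)) := by
  classical
  have h2 : (2 : F) ≠ 0 := by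
    intro h
    have := sq_add_sq_eq_zero hq 1 1 (by linear_combination h)
    exact one_ne_zero this.1
  set q := Fintype.card F with hqdef
  have hq1 : 1 < q := Fintype.one_lt_card
  have hne : q ^ 2 - 1 ≠ 0 := by
    have : 1 < q ^ 2 := Nat.one_lt_pow (by omega) hq1
    omega
  let i₀ : torusN F := ⟨iGL F, Or.inl iGL_CT⟩
  have hi4 : i₀ ^ 4 = 1 := by
    apply Subtype.ext
    apply Units.ext
    change ((iGL F) ^ 4).1 = 1
    have : (iGL F) ^ 4 = ((iGL F) ^ 2) ^ 2 := by rw [← pow_mul]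
    rw [this, Units.val_pow_eq_pow_val, iGL_sq]
    simp
  have hP : IsPGroup 2 (Subgroup.zpowers i₀) := by
    rintro ⟨g, n, rfl⟩
    refine ⟨2, Subtype.ext ?_⟩
    change (i₀ ^ n) ^ 2 ^ 2 = 1
    rw [← zpow_natCast, ← _root_.zpow_mul, mul_comm, _root_.zpow_mul, zpow_natCast]
    norm_num [hi4]
  obtain ⟨P₀, hP₀⟩ := hP.exists_le_sylow
  have hcardP : Nat.card P₀ = 2 ^ ((q ^ 2 - 1).factorization 2 + 1) := by
    rw [P₀.card_eq_multiplicity, card_torusN hq h2, Nat.factorization_mul hne (by norm_num),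
      Finsupp.add_apply, Nat.prime_two.factorization_self]
  have hle' : torusC F ≤ torusN F := fun g hg => Or.inl hg
  obtain ⟨t, ht⟩ : ∃ t : P₀, IsWT t.1.1.1 := by
    by_contra hcon
    push Not at hcon
    have hle : (P₀ : Subgroup (torusN F)) ≤ (torusC F).subgroupOf (torusN F) := by
      intro x hx
      rcases x.2 with h | h
      · exact h
      · exact absurd h (hcon ⟨x, hx⟩)
    have hdvd := Subgroup.card_dvd_of_le hle
    rw [hcardP, Nat.card_congr (Subgroup.subgroupOfEquivOfLe hle').toEquiv, card_torusC hq] at hdvd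
    exact Nat.pow_succ_factorization_not_dvd hne Nat.prime_two hdvd
  have hH : ExT 2 P₀ := by
    apply ExT_of_twist t ⟨i₀, hP₀ (Subgroup.mem_zpowers i₀)⟩
    · intro y
      apply Subtype.ext
      apply Subtype.ext
      apply Units.ext
      change (iGL F ^ 2).1 * y.1.1.1 = y.1.1.1 * (iGL F ^ 2).1
      rw [iGL_sq]; simp
    · apply Subtype.ext
      apply Subtype.ext
      apply Units.ext
      change (iGL F).1 * t.1.1.1 * (iGL F).1 = t.1.1.1
      rw [CT_mul_WT_mul_CT iGL_CT ht, iGL_det, one_smul]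
    · intro x
      obtain ⟨k, hk⟩ := P₀.2 x
      have hk' : x.1.1 ^ 2 ^ k = 1 := congrArg (fun z => z.1.1) hk
      rcases x.1.2 with h | h
      · rcases det_eq_one_or_neg_one hq x.1.1 k hk' with hd | hd
        · left
          apply Subtype.ext
          apply Subtype.ext
          apply Units.ext
          change x.1.1.1 * t.1.1.1 * x.1.1.1 = t.1.1.1
          rw [CT_mul_WT_mul_CT h ht, hd, one_smul]
        · right; left
          apply Subtype.ext
          apply Subtype.ext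
          apply Units.ext
          change x.1.1.1 * t.1.1.1 * x.1.1.1 = (iGL F ^ 2).1 * t.1.1.1
          rw [CT_mul_WT_mul_CT h ht, hd, iGL_sq]; simp
      · rcases det_eq_one_or_neg_one hq x.1.1 k hk' with hd | hd
        · right; right; right
          apply Subtype.ext
          apply Subtype.ext
          apply Units.ext
          change (x.1.1 ^ 2).1 = (iGL F ^ 2).1
          rw [Units.val_pow_eq_pow_val, pow_two, WT_mul_self h, hd, iGL_sq]; simp
        · right; right; left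
          apply Subtype.ext
          apply Subtype.ext
          apply Units.ext
          change (x.1.1 ^ 2).1 = 1
          rw [Units.val_pow_eq_pow_val, pow_two, WT_mul_self h, hd]; simp
  have hcard : Nat.card P₀ = 2 ^ (Nat.card (GL (Fin 2) F)).factorization 2 := by
    rw [hcardP, Matrix.card_GL_field, Fin.prod_univ_two, ← hqdef]
    obtain ⟨r, hr⟩ : ∃ r, q - 1 = 2 * (2 * r + 1) := by
      obtain ⟨c, hc⟩ := hq
      exact ⟨c - 1, by omega⟩
    have e1 : q ^ 2 - q ^ ((1 : Fin 2) : ℕ) = q * (2 * (2 * r + 1)) := by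
      rw [← hr, Nat.mul_sub, mul_one, pow_two]; simp
    have e0 : q ^ 2 - q ^ ((0 : Fin 2) : ℕ) = q ^ 2 - 1 := by simp
    have hqodd : ¬ 2 ∣ q := by
      obtain ⟨c, hc⟩ := hq
      omega
    rw [e0, e1, Nat.factorization_mul hne (by positivity), Finsupp.add_apply,
      Nat.factorization_mul (by omega) (by omega), Finsupp.add_apply,
      Nat.factorization_mul (by omega) (by omega), Finsupp.add_apply,
      Nat.factorization_eq_zero_of_not_dvd hqodd, Nat.prime_two.factorization_self,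
      Nat.factorization_eq_zero_of_not_dvd (by omega : ¬ 2 ∣ 2 * r + 1), zero_add, add_zero]
  obtain ⟨e⟩ := sylow_mulEquiv_of_injective 2
    ((torusN F).subtype.comp (P₀ : Subgroup (torusN F)).subtype)
    ((torusN F).subtype_injective.comp (P₀ : Subgroup (torusN F)).subtype_injective) hcard S
  exact hH.of_equiv e.symm

end Cfsg.Agent.Lib.Helper48
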