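import Mathlib

set_option autoImplicit false

namespace Cfsg.Agent.Lib.Helper48

open Matrix SemidirectProduct
open scoped Matrix

variable {F : Type*} [Field F] {n : ℕ}

/-- the permutation matrix of `σ` (a homomorphism in `σ`) -/
def pmat (F : Type*) [Field F] {n : ℕ} (σ : Equiv.Perm (Fin n)) : Matrix (Fin n) (Fin n) F :=
  (1 : Matrix (Fin n) (Fin n) F).submatrix id σ

theorem pmat_apply (σ : Equiv.Perm (Fin n)) (i j : Fin n) :
    pmat F σ i j = if i = σ j then 1 else 0 := by
  simp [pmat, Matrix.one_apply]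

theorem mul_pmat (M : Matrix (Fin n) (Fin n) F) (σ : Equiv.Perm (Fin n)) :
    M * pmat F σ = M.submatrix id σ := by
  have := Matrix.mul_submatrix_one (Equiv.refl (Fin n)) σ M
  simpa [pmat] using this

theorem pmat_mul' (M : Matrix (Fin n) (Fin n) F) (σ : Equiv.Perm (Fin n)) :
    pmat F σ * M = M.submatrix σ.symm id := by
  have := Matrix.one_submatrix_mul (id : Fin n → Fin n) σ M
  simpa [pmat] using this

theorem pmat_one : pmat F (1 : Equiv.Perm (Fin n)) = 1 := by
  ext i j
  rw [pmat_apply, Matrix.one_apply]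
  rfl

theorem pmat_mul (σ τ : Equiv.Perm (Fin n)) : pmat F (σ * τ) = pmat F σ * pmat F τ := by
  rw [mul_pmat]
  ext i j
  rw [submatrix_apply, pmat_apply, pmat_apply]
  rfl

theorem pmat_transpose_mul (σ : Equiv.Perm (Fin n)) : (pmat F σ)ᵀ * pmat F σ = 1 := by
  rw [mul_pmat]
  ext i j
  rw [submatrix_apply, transpose_apply, pmat_apply, Matrix.one_apply]
  by_cases h : i = j
  · subst h; simp
  · have h2 : ¬ σ j = σ (id i) := by
      intro h3; exact h (σ.injective h3).symm
    rw [if_neg h, if_neg h2]

theorem diagonal_mul_pmat (a : Fin n → F) (σ : Equiv.Perm (Fin n)) :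
    diagonal (fun i => a (σ⁻¹ i)) * pmat F σ = pmat F σ * diagonal a := by
  rw [mul_pmat, pmat_mul']
  ext i j
  simp only [submatrix_apply, id_eq, diagonal_apply]
  by_cases h : i = σ j
  · subst h; simp
  · have h2 : ¬ σ.symm i = j := by
      intro h3; apply h; rw [← h3]; simp
    simp [h, h2]

/-- `SL₂(F)ⁿ → Sp₂ₙ(F)` -/
def spDiag (F : Type*) [Field F] (n : ℕ) :
    (Fin n → SpecialLinearGroup (Fin 2) F) →* symplecticGroup (Fin n) F where
  toFun g := ⟨fromBlocks (diagonal fun i => (g i).1 0 0) (diagonal fun i => (g i).1 0 1)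
      (diagonal fun i => (g i).1 1 0) (diagonal fun i => (g i).1 1 1), by
    rw [SymplecticGroup.fromBlocks_mem_iff]
    simp only [diagonal_transpose, diagonal_mul_diagonal]
    refine ⟨?_, ?_, ?_⟩
    · congr 1; funext i; ring
    · congr 1; funext i; ring
    · rw [diagonal_sub, ← diagonal_one]
      congr 1; funext i
      have := (g i).2
      rw [Matrix.det_fin_two] at this
      linear_combination this⟩
  map_one' := by
    apply Subtype.ext
    simp
  map_mul' g h := by
    apply Subtype.ext
    simp only [Submonoid.coe_mul, fromBlocks_multiply, diagonal_mul_diagonal, diagonal_add]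
    congr 1 <;> · congr 1; funext i; simp [Matrix.mul_apply, Fin.sum_univ_two]

/-- `Sₙ → Sp₂ₙ(F)` -/
def spPerm (F : Type*) [Field F] (n : ℕ) : Equiv.Perm (Fin n) →* symplecticGroup (Fin n) F where
  toFun σ := ⟨fromBlocks (pmat F σ) 0 0 (pmat F σ), by
    rw [SymplecticGroup.fromBlocks_mem_iff]
    simp [pmat_transpose_mul]⟩
  map_one' := by
    apply Subtype.ext
    simp [pmat_one]
  map_mul' g h := by
    apply Subtype.ext
    simp [fromBlocks_multiply, pmat_mul]

theorem spDiag_conj (σ : Equiv.Perm (Fin n)) (g : Fin n → SpecialLinearGroup (Fin 2) F) :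
    spDiag F n (fun i => g (σ⁻¹ i)) * spPerm F n σ = spPerm F n σ * spDiag F n g := by
  apply Subtype.ext
  simp only [spDiag, spPerm, MonoidHom.coe_mk, OneHom.coe_mk, Submonoid.coe_mul,
    fromBlocks_multiply, mul_zero, zero_mul, add_zero, zero_add]
  rw [diagonal_mul_pmat (fun i => (g i).1 0 0), diagonal_mul_pmat (fun i => (g i).1 0 1),
    diagonal_mul_pmat (fun i => (g i).1 1 0), diagonal_mul_pmat (fun i => (g i).1 1 1)]

/-- the wreath product `Q ≀ T → Sp₂ₙ(F)` -/
def spWreath (Q : Subgroup (SpecialLinearGroup (Fin 2) F)) (T : Subgroup (Equiv.Perm (Fin n))) :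
    (Fin n → Q) ⋊[(mulAutArrow : T →* MulAut (Fin n → Q))] T →* symplecticGroup (Fin n) F :=
  SemidirectProduct.lift ((spDiag F n).comp (MonoidHom.piMap fun _ => Q.subtype))
    ((spPerm F n).comp T.subtype) (by
      intro σ
      ext g : 1
      simp only [MonoidHom.comp_apply, MulEquiv.coe_toMonoidHom, MulAut.conj_apply]
      rw [eq_mul_inv_iff_mul_eq]
      exact spDiag_conj (σ : Equiv.Perm (Fin n)) (fun i => (g i : SpecialLinearGroup (Fin 2) F)))

theorem spWreath_injective (Q : Subgroup (SpecialLinearGroup (Fin 2) F))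
    (T : Subgroup (Equiv.Perm (Fin n))) : Function.Injective (spWreath Q T) := by
  rw [injective_iff_map_eq_one]
  intro x hx
  have h1 : ((spWreath Q T x : symplecticGroup (Fin n) F) : Matrix _ _ F) =
      fromBlocks (diagonal (fun i => (x.left i).1.1 0 0) * pmat F x.right.1)
        (diagonal (fun i => (x.left i).1.1 0 1) * pmat F x.right.1)
        (diagonal (fun i => (x.left i).1.1 1 0) * pmat F x.right.1)
        (diagonal (fun i => (x.left i).1.1 1 1) * pmat F x.right.1) := by
    conv_lhs => rw [← inl_left_mul_inr_right x]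
    rw [map_mul, spWreath, SemidirectProduct.lift_inl, SemidirectProduct.lift_inr]
    simp [spDiag, spPerm, fromBlocks_multiply]
  rw [hx] at h1
  have h2 : (1 : Matrix (Fin n ⊕ Fin n) (Fin n ⊕ Fin n) F) = fromBlocks 1 0 0 1 :=
    fromBlocks_one.symm
  rw [Submonoid.coe_one, h2, fromBlocks_inj] at h1
  obtain ⟨ha, hb, hc, hd⟩ := h1
  simp only [mul_pmat] at ha hb hc hd
  have hσ : ∀ i, x.right.1 i = i := by
    intro i
    have := congrFun (congrFun ha i) i
    rw [one_apply_eq, submatrix_apply, diagonal_apply] at this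
    by_contra h
    rw [if_neg (fun h' => h h'.symm)] at this
    exact one_ne_zero this
  have e00 : ∀ i, (x.left i).1.1 0 0 = 1 := by
    intro i
    have := congrFun (congrFun ha i) i
    rw [one_apply_eq, submatrix_apply, hσ i] at this
    simpa using this.symm
  have e11 : ∀ i, (x.left i).1.1 1 1 = 1 := by
    intro i
    have := congrFun (congrFun hd i) i
    rw [one_apply_eq, submatrix_apply, hσ i] at this
    simpa using this.symm
  have e01 : ∀ i, (x.left i).1.1 0 1 = 0 := by
    intro i
    have := congrFun (congrFun hb i) i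
    rw [Matrix.zero_apply, submatrix_apply, hσ i] at this
    simpa using this.symm
  have e10 : ∀ i, (x.left i).1.1 1 0 = 0 := by
    intro i
    have := congrFun (congrFun hc i) i
    rw [Matrix.zero_apply, submatrix_apply, hσ i] at this
    simpa using this.symm
  apply SemidirectProduct.ext
  · funext i
    apply Subtype.ext
    apply Subtype.ext
    ext a b
    fin_cases a <;> fin_cases b <;> simp [e00, e01, e10, e11]
  · apply Subtype.ext
    ext i
    simp [hσ i]

end Cfsg.Agent.Lib.Helper48
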