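import Mathlib
import Cfsg.Agent.S4624

set_option autoImplicit false

namespace Cfsg.Agent.Lib.Helper48

open Finset

/-- the `2`-part of the order formula of `GL_N(q)` -/
theorem v2_card_GL_formula (q : ℕ) (hq : 2 ≤ q) (h2q : ¬ 2 ∣ q) (N : ℕ) :
    padicValNat 2 (∏ i : Fin N, (q ^ N - q ^ (i : ℕ))) =
      padicValNat 2 (∏ i ∈ range N, (q ^ (i + 1) - 1)) := by
  rw [Fin.prod_univ_eq_prod_range (fun i => q ^ N - q ^ i) N, ← prod_range_reflect]
  have hne1 : ∀ i ∈ range N, q ^ N - q ^ (N - 1 - i) ≠ 0 := by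
    intro i hi
    have := mem_range.1 hi
    have : q ^ (N - 1 - i) < q ^ N := Nat.pow_lt_pow_right (by omega) (by omega)
    omega
  have hne2 : ∀ i ∈ range N, q ^ (i + 1) - 1 ≠ 0 := by
    intro i _
    have : 2 ≤ q ^ (i + 1) := by
      calc 2 ≤ q := hq
        _ = q ^ 1 := (pow_one q).symm
        _ ≤ q ^ (i + 1) := Nat.pow_le_pow_right (by omega) (by omega)
    omega
  rw [← Nat.factorization_def _ Nat.prime_two, ← Nat.factorization_def _ Nat.prime_two,
    Nat.factorization_prod_apply hne1, Nat.factorization_prod_apply hne2]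
  apply sum_congr rfl
  intro i hi
  have hi' := mem_range.1 hi
  have h1 : q ^ N - q ^ (N - 1 - i) = q ^ (N - 1 - i) * (q ^ (i + 1) - 1) := by
    rw [Nat.mul_sub, mul_one, ← pow_add]
    congr 2
    omega
  rw [h1, Nat.factorization_mul (pow_ne_zero _ (by omega)) (hne2 i hi), Finsupp.add_apply,
    Nat.factorization_eq_zero_of_not_dvd (fun h => h2q (Nat.prime_two.dvd_of_dvd_pow h)), zero_add]

theorem v2_odd_pow (q : ℕ) (hq : 4 ∣ q + 1) (j : ℕ) : padicValNat 2 (q ^ (2 * j + 1) - 1) = 1 := by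
  have h3 : q % 4 = 3 := by omega
  have h4 : q ^ (2 * j + 1) % 4 = 3 := by
    induction j with
    | zero => simpa using h3
    | succ j ih =>
      have : q ^ (2 * (j + 1) + 1) = q ^ (2 * j + 1) * q * q := by ring
      rw [this, Nat.mul_mod, Nat.mul_mod (q ^ (2 * j + 1)), ih, h3]
  obtain ⟨c, hc⟩ : ∃ c, q ^ (2 * j + 1) - 1 = 2 * (2 * c + 1) := ⟨q ^ (2 * j + 1) / 4, by omega⟩
  rw [hc, padicValNat.mul (by norm_num) (by omega), padicValNat.self (by norm_num),
    padicValNat.eq_zero_of_not_dvd (by omega)]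

theorem pow_sub_one_ne_zero' (q : ℕ) (hq : 1 < q) (i : ℕ) : q ^ (i + 1) - 1 ≠ 0 := by
  have : 1 < q ^ (i + 1) := Nat.one_lt_pow (by omega) hq
  omega

theorem v2_prod_even (q : ℕ) (hq : 4 ∣ q + 1) (m : ℕ) :
    padicValNat 2 (∏ i ∈ range (2 * m), (q ^ (i + 1) - 1)) =
      m + m * padicValNat 2 (q ^ 2 - 1) + padicValNat 2 m.factorial := by
  have hq1 : 1 < q := by omega
  have hodd : Odd q := by
    rw [Nat.odd_iff]; omega
  induction m with
  | zero => simp
  | succ m ih =>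
    have e : 2 * (m + 1) = 2 * m + 1 + 1 := by ring
    rw [e, prod_range_succ, prod_range_succ,
      padicValNat.mul (mul_ne_zero (prod_ne_zero_iff.2 fun i _ => pow_sub_one_ne_zero' q hq1 i)
        (pow_sub_one_ne_zero' q hq1 _)) (pow_sub_one_ne_zero' q hq1 _),
      padicValNat.mul (prod_ne_zero_iff.2 fun i _ => pow_sub_one_ne_zero' q hq1 i)
        (pow_sub_one_ne_zero' q hq1 _), ih, v2_odd_pow q hq m]
    have e2 : 2 * m + 1 + 1 = 2 * (m + 1) := by ring
    rw [e2, Cfsg.Agent.S4624.v2_pow q hodd hq1 m, Nat.factorial_succ,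
      padicValNat.mul (by omega) (Nat.factorial_ne_zero m)]
    ring

theorem v2_prod_odd (q : ℕ) (hq : 4 ∣ q + 1) (m : ℕ) :
    padicValNat 2 (∏ i ∈ range (2 * m + 1), (q ^ (i + 1) - 1)) =
      (m + m * padicValNat 2 (q ^ 2 - 1) + padicValNat 2 m.factorial) + 1 := by
  have hq1 : 1 < q := by omega
  rw [prod_range_succ, padicValNat.mul (prod_ne_zero_iff.2 fun i _ => pow_sub_one_ne_zero' q hq1 i)
        (pow_sub_one_ne_zero' q hq1 _), v2_prod_even q hq m, v2_odd_pow q hq m]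

end Cfsg.Agent.Lib.Helper48
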