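import Mathlib
import Cfsg.Agent.S4624
import Cfsg.Agent.Lib.Helper48.GLTwoArith

set_option autoImplicit false

namespace Cfsg.Agent.Lib.Helper48

open Finset

theorem exists_odd_cofactor (r : ℕ) (hr : Even r) (j : ℕ) :
    ∃ g, Odd g ∧ (r + 1) ^ (2 * j + 1) = r * g + 1 := by
  induction j with
  | zero => exact ⟨1, odd_one, by ring⟩
  | succ j ih =>
    obtain ⟨g, hg, h⟩ := ih
    refine ⟨(r + 1) ^ 2 * g + (r + 2), ?_, ?_⟩
    · have h1 : Odd ((r + 1) ^ 2 * g) := (hr.add_one.pow).mul hg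
      exact h1.add_even (hr.add even_two)
    · have : (r + 1) ^ (2 * (j + 1) + 1) = (r + 1) ^ 2 * (r + 1) ^ (2 * j + 1) := by ring
      rw [this, h]; ring

theorem v2_odd_pow' (q : ℕ) (hq : Odd q) (hq1 : 1 < q) (j : ℕ) :
    padicValNat 2 (q ^ (2 * j + 1) - 1) = padicValNat 2 (q - 1) := by
  obtain ⟨r, rfl⟩ : ∃ r, q = r + 1 := ⟨q - 1, by omega⟩
  have hr : Even r := by
    rcases Nat.even_or_odd r with h | h
    · exact h
    · exact absurd hq (Nat.not_odd_iff_even.2 h.add_one)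
  obtain ⟨g, hg, h⟩ := exists_odd_cofactor r hr j
  have hg2 : ¬ 2 ∣ g := by
    rw [Nat.two_dvd_ne_zero]; exact Nat.odd_iff.1 hg
  have hg0 : g ≠ 0 := fun h => hg2 (h ▸ dvd_zero 2)
  rw [h, Nat.add_sub_cancel, Nat.add_sub_cancel, padicValNat.mul (by omega) hg0,
    padicValNat.eq_zero_of_not_dvd hg2, add_zero]

theorem v2_prod_even' (q : ℕ) (hq : Odd q) (hq1 : 1 < q) (m : ℕ) :
    padicValNat 2 (∏ i ∈ range (2 * m), (q ^ (i + 1) - 1)) =
      m * padicValNat 2 (q - 1) + m * padicValNat 2 (q ^ 2 - 1) + padicValNat 2 m.factorial := by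
  induction m with
  | zero => simp
  | succ m ih =>
    have e : 2 * (m + 1) = 2 * m + 1 + 1 := by ring
    rw [e, prod_range_succ, prod_range_succ,
      padicValNat.mul (mul_ne_zero (prod_ne_zero_iff.2 fun i _ => pow_sub_one_ne_zero' q hq1 i)
        (pow_sub_one_ne_zero' q hq1 _)) (pow_sub_one_ne_zero' q hq1 _),
      padicValNat.mul (prod_ne_zero_iff.2 fun i _ => pow_sub_one_ne_zero' q hq1 i)
        (pow_sub_one_ne_zero' q hq1 _), ih, v2_odd_pow' q hq hq1 m]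
    have e2 : 2 * m + 1 + 1 = 2 * (m + 1) := by ring
    rw [e2, Cfsg.Agent.S4624.v2_pow q hq hq1 m, Nat.factorial_succ,
      padicValNat.mul (by omega) (Nat.factorial_ne_zero m)]
    ring

end Cfsg.Agent.Lib.Helper48
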