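import Mathlib
import Cfsg.Agent.Lib.Helper48.SpWreath
import Cfsg.Agent.Lib.Helper65.GenDih

set_option autoImplicit false

namespace Cfsg.Agent.Lib.Helper48

open Matrix SemidirectProduct
open scoped Matrix

variable {F : Type*} [Field F] {n : ℕ}

/-- `GL₂(F)ⁿ → M₂ₙ(F)` -/
def glDiagM (F : Type*) [Field F] (n : ℕ) :
    (Fin n → GL (Fin 2) F) →* Matrix (Fin n ⊕ Fin n) (Fin n ⊕ Fin n) F where
  toFun g := fromBlocks (diagonal fun i => (g i).1 0 0) (diagonal fun i => (g i).1 0 1)
      (diagonal fun i => (g i).1 1 0) (diagonal fun i => (g i).1 1 1)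
  map_one' := by simp
  map_mul' g h := by
    simp only [fromBlocks_multiply, diagonal_mul_diagonal, diagonal_add]
    congr 1 <;> · congr 1; funext i; simp [Matrix.mul_apply, Fin.sum_univ_two]

/-- `Sₙ → M₂ₙ(F)` -/
def glPermM (F : Type*) [Field F] (n : ℕ) :
    Equiv.Perm (Fin n) →* Matrix (Fin n ⊕ Fin n) (Fin n ⊕ Fin n) F where
  toFun σ := fromBlocks (pmat F σ) 0 0 (pmat F σ)
  map_one' := by simp [pmat_one]
  map_mul' g h := by simp [fromBlocks_multiply, pmat_mul]

theorem glDiagM_conj (σ : Equiv.Perm (Fin n)) (g : Fin n → GL (Fin 2) F) :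
    glDiagM F n (fun i => g (σ⁻¹ i)) * glPermM F n σ = glPermM F n σ * glDiagM F n g := by
  simp only [glDiagM, glPermM, MonoidHom.coe_mk, OneHom.coe_mk,
    fromBlocks_multiply, mul_zero, zero_mul, add_zero, zero_add]
  rw [diagonal_mul_pmat (fun i => (g i).1 0 0), diagonal_mul_pmat (fun i => (g i).1 0 1),
    diagonal_mul_pmat (fun i => (g i).1 1 0), diagonal_mul_pmat (fun i => (g i).1 1 1)]

/-- the wreath product `S ≀ T → GL₂ₙ(F)` -/
def glWreath (S : Subgroup (GL (Fin 2) F)) (T : Subgroup (Equiv.Perm (Fin n))) :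
    (Fin n → S) ⋊[(mulAutArrow : T →* MulAut (Fin n → S))] T →* GL (Fin n ⊕ Fin n) F :=
  SemidirectProduct.lift ((glDiagM F n).toHomUnits.comp (MonoidHom.piMap fun _ => S.subtype))
    ((glPermM F n).toHomUnits.comp T.subtype) (by
      intro σ
      ext g : 1
      simp only [MonoidHom.comp_apply, MulEquiv.coe_toMonoidHom, MulAut.conj_apply]
      rw [eq_mul_inv_iff_mul_eq]
      apply Units.ext
      exact glDiagM_conj (σ : Equiv.Perm (Fin n)) (fun i => (g i : GL (Fin 2) F)))

theorem glWreath_val (S : Subgroup (GL (Fin 2) F)) (T : Subgroup (Equiv.Perm (Fin n)))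
    (x : (Fin n → S) ⋊[(mulAutArrow : T →* MulAut (Fin n → S))] T) :
    (glWreath S T x).1 =
      fromBlocks (diagonal (fun i => (x.left i).1.1 0 0) * pmat F x.right.1)
        (diagonal (fun i => (x.left i).1.1 0 1) * pmat F x.right.1)
        (diagonal (fun i => (x.left i).1.1 1 0) * pmat F x.right.1)
        (diagonal (fun i => (x.left i).1.1 1 1) * pmat F x.right.1) := by
  conv_lhs => rw [← inl_left_mul_inr_right x]
  rw [map_mul, glWreath, SemidirectProduct.lift_inl, SemidirectProduct.lift_inr]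
  simp [glDiagM, glPermM, fromBlocks_multiply]

theorem glWreath_injective (S : Subgroup (GL (Fin 2) F))
    (T : Subgroup (Equiv.Perm (Fin n))) : Function.Injective (glWreath S T) := by
  rw [injective_iff_map_eq_one]
  intro x hx
  have h1 := glWreath_val S T x
  rw [hx] at h1
  have h2 : (1 : Matrix (Fin n ⊕ Fin n) (Fin n ⊕ Fin n) F) = fromBlocks 1 0 0 1 :=
    fromBlocks_one.symm
  rw [Units.val_one, h2, fromBlocks_inj] at h1
  obtain ⟨ha, hb, hc, hd⟩ := h1
  simp only [mul_pmat] at ha hb hc hd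
  have hσ : ∀ i, x.right.1 i = i := by
    intro i
    have := congrFun (congrFun ha i) i
    rw [one_apply_eq, submatrix_apply, diagonal_apply] at this
    by_contra h
    rw [if_neg (fun h' => h h'.symm)] at this
    exact one_ne_zero this
  have e00 : ∀ i, (x.left i).1.1 0 0 = 1 := by
    intro i
    have := congrFun (congrFun ha i) i
    rw [one_apply_eq, submatrix_apply, hσ i] at this
    simpa using this.symm
  have e11 : ∀ i, (x.left i).1.1 1 1 = 1 := by
    intro i
    have := congrFun (congrFun hd i) i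
    rw [one_apply_eq, submatrix_apply, hσ i] at this
    simpa using this.symm
  have e01 : ∀ i, (x.left i).1.1 0 1 = 0 := by
    intro i
    have := congrFun (congrFun hb i) i
    rw [Matrix.zero_apply, submatrix_apply, hσ i] at this
    simpa using this.symm
  have e10 : ∀ i, (x.left i).1.1 1 0 = 0 := by
    intro i
    have := congrFun (congrFun hc i) i
    rw [Matrix.zero_apply, submatrix_apply, hσ i] at this
    simpa using this.symm
  apply SemidirectProduct.ext
  · funext i
    apply Subtype.ext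
    apply Units.ext
    ext a b
    fin_cases a <;> fin_cases b <;> simp [e00, e01, e10, e11]
  · apply Subtype.ext
    ext i
    simp [hσ i]

/-- `GL_ι(F) → SL_{ι+1}(F)` -/
def glToSL (ι : Type*) [Fintype ι] [DecidableEq ι] (F : Type*) [Field F] :
    GL ι F →* SpecialLinearGroup (ι ⊕ Unit) F where
  toFun A := ⟨fromBlocks A.1 0 0 ((A.1.det)⁻¹ • (1 : Matrix Unit Unit F)), by
    have hdet : A.1.det ≠ 0 := ((Matrix.isUnit_iff_isUnit_det _).1 A.isUnit).ne_zero
    rw [det_fromBlocks_zero₂₁, det_smul, det_one, Fintype.card_unit, pow_one, mul_one,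
      mul_inv_cancel₀ hdet]⟩
  map_one' := by
    apply Subtype.ext
    simp
  map_mul' A B := by
    apply Subtype.ext
    change fromBlocks (A * B).1 0 0 (((A * B).1.det)⁻¹ • (1 : Matrix Unit Unit F)) =
      fromBlocks A.1 0 0 ((A.1.det)⁻¹ • (1 : Matrix Unit Unit F)) *
      fromBlocks B.1 0 0 ((B.1.det)⁻¹ • (1 : Matrix Unit Unit F))
    simp [fromBlocks_multiply, mul_comm, smul_smul]

theorem glToSL_injective (ι : Type*) [Fintype ι] [DecidableEq ι] :
    Function.Injective (glToSL ι F) := by
  intro A B h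
  have h1 : fromBlocks A.1 0 0 ((A.1.det)⁻¹ • (1 : Matrix Unit Unit F)) =
      fromBlocks B.1 0 0 ((B.1.det)⁻¹ • (1 : Matrix Unit Unit F)) := congrArg Subtype.val h
  rw [fromBlocks_inj] at h1
  exact Units.ext h1.1

end Cfsg.Agent.Lib.Helper48
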