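import Mathlib

set_option autoImplicit false

namespace Cfsg.Agent.Lib.Helper48

/-- `gcd(2m, Q) ∣ m` iff the 2-part of `Q` is smaller than that of `2m` -/
theorem gcd_two_mul_dvd_iff (m Q : ℕ) (hm : 1 ≤ m) (hQ : 1 ≤ Q) :
    Nat.gcd (2 * m) Q ∣ m ↔ padicValNat 2 Q < padicValNat 2 (2 * m) := by
  haveI : Fact (Nat.Prime 2) := ⟨Nat.prime_two⟩
  have hv : padicValNat 2 (2 * m) = padicValNat 2 m + 1 := by
    rw [padicValNat.mul (by norm_num) (by omega), padicValNat_self, add_comm]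
  constructor
  · intro h
    by_contra hcon
    push Not at hcon
    have h1 : 2 ^ padicValNat 2 (2 * m) ∣ 2 * m := pow_padicValNat_dvd
    have h2 : 2 ^ padicValNat 2 (2 * m) ∣ Q := (padicValNat_dvd_iff_le (by omega)).2 hcon
    have h3 := (Nat.dvd_gcd h1 h2).trans h
    have h4 := (padicValNat_dvd_iff_le (p := 2) (by omega)).1 h3
    omega
  · intro h
    obtain ⟨e, Q', hQ', hQe⟩ := Nat.exists_eq_pow_mul_and_not_dvd (n := Q) (by omega) 2 (by norm_num)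
    have hQ'0 : Q' ≠ 0 := by
      rintro rfl
      simp at hQ'
    have he : padicValNat 2 Q = e := by
      rw [hQe, padicValNat.mul (pow_ne_zero _ (by norm_num)) hQ'0, padicValNat.prime_pow,
        padicValNat.eq_zero_of_not_dvd hQ', add_zero]
    have h1 : 2 ^ e ∣ m := (padicValNat_dvd_iff_le (by omega)).2 (by omega)
    obtain ⟨m', rfl⟩ := h1
    have hcop : Nat.Coprime 2 Q' := (Nat.coprime_primes_iff_not_dvd' Q' hQ')
    rw [hQe, show 2 * (2 ^ e * m') = 2 ^ e * (2 * m') by ring, Nat.gcd_mul_left,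
      Nat.Coprime.gcd_mul_left_cancel m' hcop]
    exact Nat.mul_dvd_mul_left _ (Nat.gcd_dvd_left _ _)
where
  Nat.coprime_primes_iff_not_dvd' (Q' : ℕ) (h : ¬ 2 ∣ Q') : Nat.Coprime 2 Q' :=
    (Nat.Prime.coprime_iff_not_dvd Nat.prime_two).2 h

theorem geom_two_mul (q m : ℕ) (hq : 2 ≤ q) :
    (q ^ (2 * m) - 1) / (q - 1) = (q ^ m - 1) / (q - 1) * (q ^ m + 1) := by
  rw [← Nat.geomSum_eq hq, ← Nat.geomSum_eq hq]
  have h1 : ((∑ i ∈ Finset.range (2 * m), q ^ i : ℕ) : ℤ) * ((q : ℤ) - 1) = (q : ℤ) ^ (2 * m) - 1 := by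
    push_cast
    exact geom_sum_mul _ _
  have h2 : ((∑ i ∈ Finset.range m, q ^ i : ℕ) : ℤ) * ((q : ℤ) - 1) = (q : ℤ) ^ m - 1 := by
    push_cast
    exact geom_sum_mul _ _
  have h3 : ((q : ℤ) - 1) ≠ 0 := by
    have : (2 : ℤ) ≤ q := by exact_mod_cast hq
    omega
  have h4 : ((∑ i ∈ Finset.range (2 * m), q ^ i : ℕ) : ℤ) =
      ((∑ i ∈ Finset.range m, q ^ i : ℕ) : ℤ) * ((q : ℤ) ^ m + 1) := by
    apply mul_right_cancel₀ h3
    rw [h1, mul_right_comm, h2]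
    ring
  exact_mod_cast h4

theorem dvd_geom_iff (q m d : ℕ) (hq : 2 ≤ q) (hd : d ∣ q - 1) :
    d ∣ (q ^ m - 1) / (q - 1) ↔ d ∣ m := by
  rw [← Nat.geomSum_eq hq m, ← ZMod.natCast_eq_zero_iff, ← ZMod.natCast_eq_zero_iff]
  have h1 : (q : ZMod d) = 1 := by
    have h2 : ((q - 1 : ℕ) : ZMod d) = 0 := (ZMod.natCast_eq_zero_iff _ _).2 hd
    rw [Nat.cast_sub (by omega), Nat.cast_one, sub_eq_zero] at h2
    exact h2
  push_cast
  rw [h1]
  simp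

theorem half_torus_dvd_iff (q m : ℕ) (hq : 2 ≤ q) (hm : 1 ≤ m)
    (hd : Nat.gcd (2 * m) (q - 1) ∣ (q ^ (2 * m) - 1) / (q - 1)) :
    q ^ m + 1 ∣ (q ^ (2 * m) - 1) / (q - 1) / Nat.gcd (2 * m) (q - 1) ↔
      padicValNat 2 (q - 1) < padicValNat 2 (2 * m) := by
  rw [← gcd_two_mul_dvd_iff m (q - 1) hm (by omega), Nat.dvd_div_iff_mul_dvd hd, geom_two_mul q m hq,
    Nat.mul_dvd_mul_iff_right (by omega), dvd_geom_iff q m _ hq (Nat.gcd_dvd_right _ _)]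

end Cfsg.Agent.Lib.Helper48
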