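import Mathlib
import Cfsg.Agent.Lib.Helper48.Indec
import Cfsg.Agent.Lib.Helper50.SemiConj

set_option autoImplicit false
set_option linter.unusedSectionVars false

namespace Cfsg.Agent.Lib.Helper48

open Module Polynomial

universe u

variable {F : Type u} [Field F] {V : Type u} [AddCommGroup V] [Module F V]

theorem finrank_range_ev_le [FiniteDimensional F V] (T : End F V) (v : V) (f : F[X])
    (hf : f.Monic) (h0 : aeval T f = 0) :
    finrank F (LinearMap.range (Cfsg.Agent.Lib.Helper50.SemiConj.ev T v)) ≤ f.natDegree := by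
  have h1 : LinearMap.range (Cfsg.Agent.Lib.Helper50.SemiConj.ev T v) ≤
      (degreeLT F f.natDegree).map (Cfsg.Agent.Lib.Helper50.SemiConj.ev T v) := by
    rintro _ ⟨P, rfl⟩
    refine ⟨P %ₘ f, ?_, ?_⟩
    · rw [SetLike.mem_coe, mem_degreeLT, ← degree_eq_natDegree hf.ne_zero]
      exact degree_modByMonic_lt P hf
    · conv_rhs => rw [← modByMonic_add_div P f]
      rw [map_add, Cfsg.Agent.Lib.Helper50.SemiConj.ev_apply T v (f * _), map_mul, h0, zero_mul]
      simp
  calc finrank F (LinearMap.range (Cfsg.Agent.Lib.Helper50.SemiConj.ev T v))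
      ≤ finrank F ((degreeLT F f.natDegree).map (Cfsg.Agent.Lib.Helper50.SemiConj.ev T v)) :=
        Submodule.finrank_mono h1
    _ ≤ finrank F (degreeLT F f.natDegree) := Submodule.finrank_map_le _ _
    _ = f.natDegree := by
        rw [(degreeLTEquiv F f.natDegree).finrank_eq, finrank_fin_fun]

/-- a semisimple operator with irreducible minimal polynomial of small degree is decomposable -/
theorem decomp_of_irreducible_lt [FiniteDimensional F V] {T : End F V} {f : F[X]}
    (hf : Irreducible f) (hfm : f.Monic) (h0 : aeval T f = 0) (hlt : f.natDegree < finrank F V) :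
    Decomp T := by
  have hss : T.IsSemisimple :=
    Module.End.isSemisimple_of_squarefree_aeval_eq_zero hf.squarefree h0
  have hpos : 0 < finrank F V := by omega
  obtain ⟨v, hv⟩ := (Module.finrank_pos_iff_exists_ne_zero).1 hpos
  obtain ⟨B, hB, hAB⟩ := (Module.End.isSemisimple_iff.1 hss) _
    (Cfsg.Agent.Lib.Helper50.SemiConj.range_ev_invt T v)
  have hle := finrank_range_ev_le T v f hfm h0
  refine ⟨_, B, hAB, ?_, ?_, ?_, ?_⟩
  · intro h
    have := Cfsg.Agent.Lib.Helper50.SemiConj.mem_range_ev T v
    rw [h, Submodule.mem_bot] at this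
    exact hv this
  · rintro rfl
    have h1 := Submodule.finrank_add_eq_of_isCompl hAB
    rw [finrank_bot] at h1
    omega
  · exact (Module.End.mem_invtSubmodule_iff_forall_mem_of_mem T).1
      (Cfsg.Agent.Lib.Helper50.SemiConj.range_ev_invt T v)
  · exact (Module.End.mem_invtSubmodule_iff_forall_mem_of_mem T).1 hB

section Fin

variable [Fintype F]

theorem sub_one_dvd_pow_sub_one (q e : ℕ) : q - 1 ∣ q ^ e - 1 := by
  simpa using Nat.sub_dvd_pow_sub_pow q 1 e

/-- projective order bound for an indecomposable operator with minimal polynomial `f^k` -/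
theorem pow_scalar_of_not_decomp (p : ℕ) [Fact p.Prime] [CharP F p] [Nontrivial V]
    {T : End F V} (hT : ¬ Decomp T) (hu : IsUnit T) {f : F[X]} {k t : ℕ} (hf : Irreducible f)
    (hmin : aeval T (f ^ k) = 0) (hk : k ≤ p ^ t) :
    ∃ c : F, T ^ (p ^ t * ((Fintype.card F ^ f.natDegree - 1) / (Fintype.card F - 1))) =
      c • (1 : End F V) := by
  set q := Fintype.card F with hq
  set e := f.natDegree with he
  have hq1 : 1 < q := Fintype.one_lt_card
  set S := T ^ (p ^ t) with hS
  have hSu : IsUnit S := hu.pow _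
  have h1 : aeval S (f.map (iterateFrobenius F p t)) = 0 := by
    rw [hS, ← expand_aeval, ← map_expand, map_iterateFrobenius_expand, map_pow]
    rw [map_pow] at hmin
    exact pow_eq_zero_of_le hk hmin
  have h2 : f.map (iterateFrobenius F p t) ∣ X ^ q ^ e - X := by
    have h3 : f ∣ X ^ (Nat.card F) ^ e - X :=
      (hf.natDegree_dvd_iff_dvd_X_pow_card_pow_sub_X).1 dvd_rfl
    rw [Nat.card_eq_fintype_card] at h3
    have h4 := Polynomial.map_dvd (iterateFrobenius F p t) h3
    simpa using h4
  have h3 : S ^ (q ^ e) = S := by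
    obtain ⟨g, hg⟩ := h2
    have h4 := congrArg (aeval S) hg
    rw [map_mul, h1, zero_mul] at h4
    simpa [sub_eq_zero] using h4
  have hqe : 1 ≤ q ^ e := Nat.one_le_pow _ _ (by omega)
  have h4 : S ^ (q ^ e - 1) = 1 := by
    obtain ⟨s, hs⟩ := hSu
    have h5 : S ^ (q ^ e - 1) * S = 1 * S := by
      rw [← pow_succ, Nat.sub_add_cancel hqe, h3, one_mul]
    rw [← hs] at h5 ⊢
    exact (Units.mul_left_inj s).1 h5
  set z := S ^ ((q ^ e - 1) / (q - 1)) with hz
  have h5 : z ^ q = z := by
    have h6 : z ^ (q - 1) = 1 := by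
      rw [hz, ← pow_mul, Nat.div_mul_cancel (sub_one_dvd_pow_sub_one q e), h4]
    have h7 : q = (q - 1) + 1 := by omega
    rw [h7, pow_succ, h6, one_mul]
  have hc : Commute T z := by
    rw [hz, hS]
    exact ((Commute.refl T).pow_right _).pow_right _
  obtain ⟨c, hc'⟩ := scalar_of_pow_card hT hc h5
  exact ⟨c, by rw [pow_mul, ← hS, ← hz, hc']⟩

/-- an operator of determinant one with irreducible characteristic polynomial lies in the
norm one subgroup of the Singer cycle -/
theorem pow_eq_one_of_det_eq_one [FiniteDimensional F V] {T : End F V} {f : F[X]}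
    (hf : Irreducible f) (hfm : f.Monic) (h0 : aeval T f = 0) (hdeg : f.natDegree = finrank F V)
    (hdet : LinearMap.det T = 1) :
    T ^ ((Fintype.card F ^ finrank F V - 1) / (Fintype.card F - 1)) = 1 := by
  have : Fact (Irreducible f) := ⟨hf⟩
  have hpos : 0 < finrank F V := hdeg ▸ hf.natDegree_pos
  have hnt : Nontrivial V := Module.nontrivial_of_finrank_pos hpos
  have hmin : minpoly F T = f := by
    symm
    exact minpoly.eq_of_irreducible_of_monic hf h0 hfm
  have hchar : T.charpoly = f := by
    have h1 : f ∣ T.charpoly := hmin ▸ LinearMap.minpoly_dvd_charpoly T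
    apply eq_of_monic_of_dvd_of_natDegree_le hfm (LinearMap.charpoly_monic T) h1
    rw [LinearMap.charpoly_natDegree, hdeg]
  have hcoeff : (-1 : F) ^ finrank F V * f.coeff 0 = 1 := by
    rw [← hchar, ← LinearMap.det_eq_sign_charpoly_coeff, hdet]
  have hfin : Module.Finite F (AdjoinRoot f) := hfm.finite_adjoinRoot
  have hFin : Finite (AdjoinRoot f) := Module.finite_of_finite F
  have hnorm : Algebra.norm F (AdjoinRoot.root f) = 1 := by
    have h1 := Algebra.PowerBasis.norm_gen_eq_coeff_zero_minpoly (AdjoinRoot.powerBasis hf.ne_zero)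
    rw [AdjoinRoot.powerBasis_gen, AdjoinRoot.powerBasis_dim, AdjoinRoot.minpoly_root hf.ne_zero,
      hfm.leadingCoeff, inv_one, C_1, mul_one, hdeg] at h1
    rw [h1, hcoeff]
  have hpow := FiniteField.algebraMap_norm_eq_pow (K := F) (K' := AdjoinRoot f)
    (x := AdjoinRoot.root f)
  have hcard : Nat.card (AdjoinRoot f) = Fintype.card F ^ finrank F V := by
    rw [Module.natCard_eq_pow_finrank (K := F), Nat.card_eq_fintype_card,
      (AdjoinRoot.powerBasis hf.ne_zero).finrank, AdjoinRoot.powerBasis_dim, hdeg]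
  rw [hnorm, map_one, hcard, Nat.card_eq_fintype_card] at hpow
  have hdvd : f ∣ X ^ ((Fintype.card F ^ finrank F V - 1) / (Fintype.card F - 1)) - 1 := by
    rw [← AdjoinRoot.mk_eq_zero, map_sub, map_pow, AdjoinRoot.mk_X, map_one, ← hpow, sub_self]
  obtain ⟨g, hg⟩ := hdvd
  have h4 := congrArg (aeval T) hg
  rw [map_mul, h0, zero_mul] at h4
  simpa [sub_eq_zero] using h4

end Fin

end Cfsg.Agent.Lib.Helper48
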