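import Mathlib
import Cfsg.Agent.Lib.Helper48.ProjOrd
import Cfsg.Agent.Lib.Helper48.IndecOrder
import Cfsg.Agent.Lib.Helper48.GLOrders

set_option autoImplicit false
set_option linter.unusedSectionVars false

namespace Cfsg.Agent.Lib.Helper48

open Module Polynomial

universe u

variable {F : Type u} [Field F]

/-- the operator of a matrix in `GL` -/
noncomputable def opGL {n : ℕ} (g : GL (Fin n) F) : End F (Fin n → F) :=
  ((glEquivEnd g : (End F (Fin n → F))ˣ) : End F (Fin n → F))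

theorem opGL_pow_eq_one_iff {n : ℕ} (g : GL (Fin n) F) (j : ℕ) :
    (opGL g) ^ j = 1 ↔ orderOf g ∣ j := by
  rw [opGL, ← Units.val_pow_eq_pow_val, Units.val_eq_one, ← map_pow,
    MulEquiv.map_eq_one_iff, orderOf_dvd_iff_pow_eq_one]

theorem det_opGL {n : ℕ} (g : GL (Fin n) F) :
    LinearMap.det (opGL g) = (g : Matrix (Fin n) (Fin n) F).det := by
  rw [opGL, glEquivEnd_coe, ← Matrix.toLin'_apply', LinearMap.det_toLin']

/-- block sum of an element of determinant one and a `p`-element -/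
theorem exists_decomp_pord (p : ℕ) [Fact p.Prime] [CharP F p] (n e N : ℕ) (he : 1 ≤ e)
    (hN : 1 ≤ N) (hn : e + N = n) (g₁ : GL (Fin e) F)
    (hdet : (g₁ : Matrix (Fin e) (Fin e) F).det = 1) (g₂ : GL (Fin N) F) (t : ℕ)
    (hg₂ : orderOf g₂ = p ^ t) :
    ∃ T : End F (Fin n → F), LinearMap.det T = 1 ∧ Decomp T ∧
      POrd T (Nat.lcm (orderOf g₁) (p ^ t)) := by
  have : Nonempty (Fin e) := ⟨⟨0, he⟩⟩
  have : Nonempty (Fin N) := ⟨⟨0, hN⟩⟩
  have hV : finrank F ((Fin e → F) × (Fin N → F)) = finrank F (Fin n → F) := by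
    rw [finrank_prod, Module.finrank_fin_fun, Module.finrank_fin_fun, Module.finrank_fin_fun, hn]
  let φ : ((Fin e → F) × (Fin N → F)) ≃ₗ[F] (Fin n → F) := LinearEquiv.ofFinrankEq _ _ hV
  refine ⟨φ.conj (LinearMap.prodMap (opGL g₁) (opGL g₂)), ?_, ?_, ?_⟩
  · rw [det_conj', LinearMap.det_prodMap, det_opGL, hdet, one_mul]
    apply eq_one_of_pow_char_pow_eq_one p (t := t)
    rw [← map_pow, (opGL_pow_eq_one_iff g₂ _).2 (by rw [hg₂]), map_one]
  · exact (decomp_prodMap _ _).conj φ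
  · apply POrd.conj
    apply pord_prodMap_unip p _ _ _ _ (opGL_pow_eq_one_iff g₁)
    intro j
    rw [opGL_pow_eq_one_iff, hg₂]

/-- `p`-elements of prescribed order -/
theorem exists_GL_orderOf_p_pow (p : ℕ) [Fact p.Prime] [CharP F p] (N t : ℕ)
    (h : t = 0 ∨ p ^ (t - 1) < N) : ∃ g : GL (Fin N) F, orderOf g = p ^ t := by
  have hp : p.Prime := Fact.out
  obtain ⟨g, hg⟩ := exists_GL_orderOf_unip (F := F) p N
  have ht : t ≤ Nat.clog p N := by
    rcases h with rfl | h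
    · exact Nat.zero_le _
    · by_contra hcon
      have h1 : Nat.clog p N ≤ t - 1 := by omega
      have h2 := (Nat.clog_le_iff_le_pow hp.one_lt).1 h1
      omega
  refine ⟨g ^ (orderOf g / p ^ t), ?_⟩
  apply orderOf_pow_orderOf_div
  · rw [hg]; exact (pow_pos hp.pos _).ne'
  · rw [hg]; exact pow_dvd_pow p ht

section Fin

variable [Fintype F]

/-- norm one Singer element: determinant one and order `(q^e - 1)/(q - 1)` -/
theorem exists_GL_singer_det_one (e : ℕ) (he : 1 ≤ e) :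
    ∃ g : GL (Fin e) F, (g : Matrix (Fin e) (Fin e) F).det = 1 ∧
      orderOf g = (Fintype.card F ^ e - 1) / (Fintype.card F - 1) := by
  classical
  obtain ⟨g, hg⟩ := exists_GL_orderOf_singer (F := F) e e he le_rfl
  rw [Nat.card_eq_fintype_card] at hg
  have hq1 : 1 < Fintype.card F := Fintype.one_lt_card
  refine ⟨g ^ (Fintype.card F - 1), ?_, ?_⟩
  · have h1 : (Matrix.GeneralLinearGroup.det g) ^ (Fintype.card F - 1) = 1 := by
      rw [← Fintype.card_units]
      exact pow_card_eq_one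
    have h2 := congrArg (fun u : Fˣ => (u : F)) h1
    simpa [Matrix.det_pow] using h2
  · rw [orderOf_pow_of_dvd (by omega) (hg ▸ sub_one_dvd_pow_sub_one _ _), hg]

theorem exists_root_of_unity {r n : ℕ} (hr : r.Prime) (hrq : r ∣ Fintype.card F - 1)
    (hrn : ¬ r ∣ n) : ∃ ζ : F, ζ ^ r = 1 ∧ ζ ^ n ≠ 1 := by
  classical
  have : Fact r.Prime := ⟨hr⟩
  obtain ⟨x, hx⟩ := exists_prime_orderOf_dvd_card (G := Fˣ) r (by rwa [Fintype.card_units])
  refine ⟨(x : F), ?_, ?_⟩
  · rw [← Units.val_pow_eq_pow_val, ← hx, pow_orderOf_eq_one, Units.val_one]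
  · intro h
    apply hrn
    rw [← hx]
    apply orderOf_dvd_of_pow_eq_one
    exact Units.ext (by rw [Units.val_pow_eq_pow_val, h, Units.val_one])

theorem gcd_dvd_geom (q n : ℕ) (hq : 2 ≤ q) : Nat.gcd n (q - 1) ∣ (q ^ n - 1) / (q - 1) := by
  rw [← Nat.geomSum_eq hq n, ← ZMod.natCast_eq_zero_iff]
  have h1 : (q : ZMod (Nat.gcd n (q - 1))) = 1 := by
    have h2 : ((q - 1 : ℕ) : ZMod (Nat.gcd n (q - 1))) = 0 :=
      (ZMod.natCast_eq_zero_iff _ _).2 (Nat.gcd_dvd_right _ _)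
    rw [Nat.cast_sub (by omega), Nat.cast_one, sub_eq_zero] at h2
    exact h2
  push_cast
  rw [h1]
  simp only [one_pow, Finset.sum_const, Finset.card_range, nsmul_eq_mul, mul_one]
  exact (ZMod.natCast_eq_zero_iff _ _).2 (Nat.gcd_dvd_left _ _)

theorem char_dvd_card (p : ℕ) [Fact p.Prime] [CharP F p] : p ∣ Fintype.card F := by
  obtain ⟨f, -, hf⟩ := FiniteField.card F p
  rw [hf]
  exact dvd_pow_self p f.ne_zero

theorem coprime_geom (p q e : ℕ) (hp : p.Prime) (hpq : p ∣ q) (hq : 2 ≤ q) (he : 1 ≤ e) (t : ℕ) :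
    Nat.Coprime ((q ^ e - 1) / (q - 1)) (p ^ t) := by
  apply Nat.Coprime.pow_right
  apply Nat.Coprime.symm
  rw [Nat.Prime.coprime_iff_not_dvd hp]
  intro h
  have h1 : p ∣ q ^ e - 1 := h.trans (Nat.div_dvd_of_dvd (sub_one_dvd_pow_sub_one q e))
  have h2 : p ∣ q ^ e := hpq.trans (dvd_pow_self q (by omega))
  have h3 : 1 ≤ q ^ e := Nat.one_le_pow _ _ (by omega)
  have h4 : p ∣ 1 := by
    have := (Nat.dvd_sub h2 h1)
    rwa [Nat.sub_sub_self h3] at this
  exact hp.one_lt.ne' (Nat.dvd_one.1 h4)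

theorem pow_div_pow_succ {M : Type*} [Monoid M] (T : M) (m d Q : ℕ) (hd : d ∣ m) (hdQ : d ∣ Q)
    (h1 : T ^ m = 1) : (T ^ (m / d)) ^ (Q + 1) = T ^ (m / d) := by
  obtain ⟨w, rfl⟩ := hdQ
  rw [pow_succ, ← pow_mul, ← mul_assoc, Nat.div_mul_cancel hd, pow_mul, h1, one_pow, one_mul]

/-- The dichotomy for projective orders in `SL_n(q)`. -/
theorem pord_dichotomy (p : ℕ) [Fact p.Prime] [CharP F p] (n : ℕ) (hn : 2 ≤ n) (r : ℕ)
    (hr : r.Prime) (hrq : r ∣ Fintype.card F - 1) (hrn : ¬ r ∣ n) (T : End F (Fin n → F))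
    (hdet : LinearMap.det T = 1) (a : ℕ) (ha : POrd T a) :
    (∃ (T' : End F (Fin n → F)) (b : ℕ), LinearMap.det T' = 1 ∧ POrd T' b ∧ a ∣ b ∧ r ∣ b) ∨
    a ∣ ((Fintype.card F ^ n - 1) / (Fintype.card F - 1)) / Nat.gcd n (Fintype.card F - 1) ∨
    (∃ t, 1 ≤ t ∧ n = p ^ (t - 1) + 1 ∧ a ∣ p ^ t) := by
  have hp : p.Prime := Fact.out
  have : Nonempty (Fin n) := ⟨⟨0, by omega⟩⟩
  set q := Fintype.card F with hq
  have hq1 : 1 < q := Fintype.one_lt_card
  have hfr : finrank F (Fin n → F) = n := Module.finrank_fin_fun F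
  obtain ⟨ζ, hζ, hζn⟩ := exists_root_of_unity (F := F) hr hrq hrn
  have hgood : ∀ (T₀ : End F (Fin n → F)) (b₀ : ℕ), LinearMap.det T₀ = 1 → Decomp T₀ →
      POrd T₀ b₀ → a ∣ b₀ →
      ∃ (T' : End F (Fin n → F)) (b : ℕ), LinearMap.det T' = 1 ∧ POrd T' b ∧ a ∣ b ∧ r ∣ b := by
    intro T₀ b₀ h1 h2 h3 h4
    obtain ⟨T', b, h5, h6, h7, h8⟩ := exists_good_of_decomp h1 h2 h3 hr ζ hζ (by rwa [hfr])
    exact ⟨T', b, h5, h6, h4.trans h7, h8⟩
  by_cases hT : Decomp T
  · exact Or.inl (hgood T a hdet hT ha dvd_rfl)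
  have hu : IsUnit T := isUnit_of_det_eq_one hdet
  obtain ⟨f, k, hf, hfm, hk1, hmin⟩ := exists_minpoly_eq_pow hT
  have h0 : aeval T (f ^ k) = 0 := by rw [← hmin, minpoly.aeval]
  have hdeg : k * f.natDegree ≤ n := by
    have h1 := natDegree_le_of_dvd (LinearMap.minpoly_dvd_charpoly T)
      (LinearMap.charpoly_monic T).ne_zero
    rwa [hmin, natDegree_pow, LinearMap.charpoly_natDegree, hfr] at h1
  have he1 : 1 ≤ f.natDegree := hf.natDegree_pos
  obtain ⟨c, hc⟩ := pow_scalar_of_not_decomp p hT hu hf h0 (Nat.le_pow_clog hp.one_lt k)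
  have ha1 : a ∣ p ^ Nat.clog p k * ((q ^ f.natDegree - 1) / (q - 1)) := (ha _).1 ⟨c, hc⟩
  rcases Nat.lt_or_ge k 2 with hk2 | hk2
  · -- semisimple case
    have hk : k = 1 := by omega
    subst hk
    rw [pow_one] at h0
    right; left
    have hen : f.natDegree = n := by
      by_contra hne
      exact hT (decomp_of_irreducible_lt hf hfm h0 (by rw [hfr]; omega))
    have h1 := pow_eq_one_of_det_eq_one hf hfm h0 (by rw [hfr, hen]) hdet
    rw [hfr] at h1
    -- the power by m/d is scalar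
    have hd := gcd_dvd_geom q n (by omega)
    have hz : (T ^ (((q ^ n - 1) / (q - 1)) / Nat.gcd n (q - 1))) ^ q =
        T ^ (((q ^ n - 1) / (q - 1)) / Nat.gcd n (q - 1)) := by
      have := pow_div_pow_succ T _ _ (q - 1) hd (Nat.gcd_dvd_right n (q - 1)) h1
      rwa [Nat.sub_add_cancel hq1.le] at this
    obtain ⟨c', hc'⟩ := scalar_of_pow_card hT ((Commute.refl T).pow_right _) hz
    exact (ha _).1 ⟨c', hc'⟩
  · have ht1 : 1 ≤ Nat.clog p k := Nat.clog_pos hp.one_lt (by omega)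
    have htk : p ^ (Nat.clog p k - 1) < k := Nat.pow_pred_clog_lt_self hp.one_lt (by omega)
    rcases Nat.lt_or_ge f.natDegree 2 with he2 | he2
    · have he : f.natDegree = 1 := by omega
      rw [he, pow_one, Nat.div_self (by omega), mul_one] at ha1
      rw [he, mul_one] at hdeg
      by_cases hlt : p ^ (Nat.clog p k - 1) + 1 < n
      · left
        obtain ⟨g₂, hg₂⟩ := exists_GL_orderOf_p_pow (F := F) p (n - 1) (Nat.clog p k)
          (Or.inr (by omega))
        obtain ⟨T₀, h1, h2, h3⟩ := exists_decomp_pord p n 1 (n - 1) le_rfl (by omega) (by omega)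
          (1 : GL (Fin 1) F) (by simp) g₂ _ hg₂
        exact hgood T₀ _ h1 h2 h3 (ha1.trans (Nat.dvd_lcm_right _ _))
      · right; right
        exact ⟨Nat.clog p k, ht1, by omega, ha1⟩
    · left
      have hke : f.natDegree + k ≤ n := by
        have : f.natDegree + k ≤ k * f.natDegree := by nlinarith
        omega
      obtain ⟨g₁, hg₁d, hg₁⟩ := exists_GL_singer_det_one (F := F) f.natDegree he1
      obtain ⟨g₂, hg₂⟩ := exists_GL_orderOf_p_pow (F := F) p (n - f.natDegree) (Nat.clog p k)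
        (Or.inr (by omega))
      obtain ⟨T₀, h1, h2, h3⟩ := exists_decomp_pord p n f.natDegree (n - f.natDegree) he1
        (by omega) (by omega) g₁ hg₁d g₂ _ hg₂
      refine hgood T₀ _ h1 h2 h3 ?_
      rw [hg₁, (coprime_geom p q f.natDegree hp (char_dvd_card p) (by omega) he1 _).lcm_eq_mul,
        mul_comm]
      exact ha1

end Fin

end Cfsg.Agent.Lib.Helper48
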