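import Mathlib
import Cfsg.Agent.Lib.Helper48.ProjSpec
import Cfsg.Agent.Lib.Helper48.UPoly

set_option autoImplicit false
set_option linter.unusedSectionVars false
set_option linter.style.haveILetI false

namespace Cfsg.Agent.Lib.Helper48

open Module Polynomial Cfsg.Agent.Lib.Helper17

variable {F : Type*} [Field F] {V : Type*} [AddCommGroup V] [Module F V]

theorem aeval_zero_or_unit {T : End F V} {f : F[X]} (hf : Irreducible f) (h0 : aeval T f = 0)
    (R : F[X]) : aeval T R = 0 ∨ IsUnit (aeval T R) := by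
  rcases hf.isCoprime_or_dvd R with h | h
  · right
    obtain ⟨a, b, hab⟩ := h
    have h1 : aeval T b * aeval T R = 1 := by
      have h3 := congrArg (aeval T) hab
      rw [map_add, map_mul, map_mul, h0, mul_zero, zero_add, map_one] at h3
      exact h3
    have h2 : aeval T R * aeval T b = 1 := by rw [← map_mul, mul_comm, map_mul, h1]
    exact ⟨⟨_, _, h2, h1⟩, rfl⟩
  · left
    obtain ⟨g, rfl⟩ := h
    rw [map_mul, h0, zero_mul]

theorem prod_X_sub_C_univ [Fintype F] :
    (∏ a : F, (X - C a) : F[X]) = X ^ Fintype.card F - X := by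
  classical
  have h1 := FiniteField.roots_X_pow_card_sub_X F
  have h2 : (X ^ Fintype.card F - X : F[X]).Monic := by
    apply Polynomial.Monic.sub_of_left (monic_X_pow _)
    rw [degree_X_pow, degree_X]
    exact_mod_cast Fintype.one_lt_card
  have h3 : Multiset.card (X ^ Fintype.card F - X : F[X]).roots =
      (X ^ Fintype.card F - X : F[X]).natDegree := by
    rw [h1, FiniteField.X_pow_card_sub_X_natDegree_eq F Fintype.one_lt_card]
    rfl
  have h4 := Polynomial.prod_multiset_X_sub_C_of_monic_of_roots_card_eq h2 h3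
  rw [h1] at h4
  exact h4

theorem scalar_of_pow_card_irr [Fintype F] [Nontrivial V] {T : End F V} {f : F[X]}
    (hf : Irreducible f) (h0 : aeval T f = 0) (k : ℕ)
    (hz : (T ^ k) ^ Fintype.card F = T ^ k) : ∃ c : F, T ^ k = c • (1 : End F V) := by
  classical
  have key : ∀ s : Finset F, aeval (T ^ k) (∏ a ∈ s, (X - C a) : F[X]) = 0 →
      ∃ a ∈ s, T ^ k = a • (1 : End F V) := by
    intro s
    induction s using Finset.induction_on with
    | empty =>
      intro h
      rw [Finset.prod_empty, map_one] at h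
      exact absurd h one_ne_zero
    | insert a s ha ih =>
      intro h
      rw [Finset.prod_insert ha, map_mul] at h
      have h1 : aeval (T ^ k) (X - C a : F[X]) = aeval T (X ^ k - C a : F[X]) := by simp
      rcases aeval_zero_or_unit hf h0 (X ^ k - C a) with h2 | h2
      · refine ⟨a, Finset.mem_insert_self _ _, ?_⟩
        simp only [map_sub, map_pow, aeval_X, aeval_C] at h2
        rw [sub_eq_zero.1 h2, Algebra.algebraMap_eq_smul_one]
      · rw [h1, h2.mul_right_eq_zero] at h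
        obtain ⟨b, hb, hb'⟩ := ih h
        exact ⟨b, Finset.mem_insert_of_mem hb, hb'⟩
  obtain ⟨c, -, hc⟩ := key Finset.univ (by
    rw [prod_X_sub_C_univ]
    simp [hz])
  exact ⟨c, hc⟩

theorem pow_eq_smul_of_dvd {T : End F V} {P : F[X]} (h0 : aeval T P = 0) {j : ℕ} {k : F}
    (hd : P ∣ X ^ j - C k) : T ^ j = k • (1 : End F V) := by
  obtain ⟨g, hg⟩ := hd
  have h1 : aeval T (X ^ j - C k : F[X]) = 0 := by rw [hg, map_mul, h0, zero_mul]
  simp only [map_sub, map_pow, aeval_X, aeval_C] at h1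
  rw [sub_eq_zero.1 h1, Algebra.algebraMap_eq_smul_one]

theorem X_sub_C_dvd_of_pow {a k : F} {j : ℕ} (h : a ^ j = k) : (X - C a : F[X]) ∣ X ^ j - C k := by
  rw [dvd_iff_isRoot]
  simp [h]

theorem pow_eq_smul_two {T : End F V} {a b : F} (hab : a ≠ b)
    (h0 : aeval T ((X - C a) * (X - C b) : F[X]) = 0) {j : ℕ} {k : F} (ha : a ^ j = k)
    (hb : b ^ j = k) : T ^ j = k • (1 : End F V) := by
  apply pow_eq_smul_of_dvd h0
  exact (isCoprime_X_sub_C_of_isUnit_sub (sub_ne_zero.2 hab).isUnit).mul_dvd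
    (X_sub_C_dvd_of_pow ha) (X_sub_C_dvd_of_pow hb)

theorem pow_eq_smul_three {T : End F V} {a b c : F} (hab : a ≠ b) (hac : a ≠ c) (hbc : b ≠ c)
    (h0 : aeval T ((X - C a) * (X - C b) * (X - C c) : F[X]) = 0) {j : ℕ} {k : F} (ha : a ^ j = k)
    (hb : b ^ j = k) (hc : c ^ j = k) : T ^ j = k • (1 : End F V) := by
  apply pow_eq_smul_of_dvd h0
  have h1 := (isCoprime_X_sub_C_of_isUnit_sub (sub_ne_zero.2 hab).isUnit).mul_dvd
    (X_sub_C_dvd_of_pow ha) (X_sub_C_dvd_of_pow hb)
  have h2 : IsCoprime ((X - C a) * (X - C b) : F[X]) (X - C c) :=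
    IsCoprime.mul_left (isCoprime_X_sub_C_of_isUnit_sub (sub_ne_zero.2 hac).isUnit)
      (isCoprime_X_sub_C_of_isUnit_sub (sub_ne_zero.2 hbc).isUnit)
  exact h2.mul_dvd h1 (X_sub_C_dvd_of_pow hc)

/-- eigenvalue pattern `(a, a, b)` with `a^(q+1) = 1`, `a a b = 1` -/
theorem scalar_aab (p : ℕ) [Fact p.Prime] [CharP F p] (hp : p ≠ 2) {q : ℕ} {T : End F V} {a b : F}
    (h0 : aeval T ((X - C a) * (X - C a) * (X - C b) : F[X]) = 0) (ha : a ^ (q + 1) = 1)
    (hab : a * a * b = 1) :
    T ^ (p * ((q + 1) / Nat.gcd 3 (q + 1))) =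
      (a ^ (p * ((q + 1) / Nat.gcd 3 (q + 1)))) • (1 : End F V) := by
  set d := Nat.gcd 3 (q + 1) with hd
  set j := (q + 1) / d with hj
  have hp3 : 3 ≤ p := by
    have := (Fact.out : p.Prime).two_le
    omega
  have hjd : j * d = q + 1 := Nat.div_mul_cancel (Nat.gcd_dvd_right 3 (q + 1))
  obtain ⟨t, ht⟩ : d ∣ 3 := Nat.gcd_dvd_left 3 (q + 1)
  have h3j : a ^ (3 * j) = 1 := by
    have : 3 * j = (q + 1) * t := by rw [ht, ← hjd]; ring
    rw [this, pow_mul, ha, one_pow]
  have hb : b ^ (p * j) = a ^ (p * j) := by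
    have h1 : b ^ (p * j) * a ^ (2 * (p * j)) = 1 := by
      rw [pow_mul a 2, ← mul_pow, show b * a ^ 2 = a * a * b by ring, hab, one_pow]
    have h2 : a ^ (3 * (p * j)) = 1 := by
      rw [show 3 * (p * j) = (3 * j) * p by ring, pow_mul, h3j, one_pow]
    calc b ^ (p * j) = b ^ (p * j) * a ^ (3 * (p * j)) := by rw [h2, mul_one]
      _ = (b ^ (p * j) * a ^ (2 * (p * j))) * a ^ (p * j) := by
          rw [mul_assoc, ← pow_add]
          congr 2
          ring
      _ = a ^ (p * j) := by rw [h1, one_mul]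
  have hfa : ∀ c : F, ((X - C c) ^ p : F[X]) = X ^ p - C (c ^ p) := by
    intro c
    rw [sub_pow_char, ← C_pow]
  by_cases hne : a = b
  · have h1 : aeval T (X ^ p - C (a ^ p) : F[X]) = 0 := by
      rw [← hfa, show p = 3 + (p - 3) by omega, pow_add,
        show ((X - C a) ^ 3 : F[X]) = (X - C a) * (X - C a) * (X - C a) by ring, map_mul]
      nth_rewrite 3 [hne]
      rw [h0, zero_mul]
    simp only [map_sub, map_pow, aeval_X, aeval_C] at h1
    rw [pow_mul, sub_eq_zero.1 h1, ← map_pow, ← map_pow, Algebra.algebraMap_eq_smul_one, ← pow_mul]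
  · have hne' : a ^ p ≠ b ^ p := fun h => hne (frobenius_inj F p h)
    have h1 : aeval (T ^ p) ((X - C (a ^ p)) * (X - C (b ^ p)) : F[X]) = 0 := by
      have h2 : aeval (T ^ p) ((X - C (a ^ p)) * (X - C (b ^ p)) : F[X]) =
          aeval T ((X ^ p - C (a ^ p)) * (X ^ p - C (b ^ p)) : F[X]) := by simp
      rw [h2, ← hfa, ← hfa, show p = 2 + (p - 2) by omega, pow_add,
        show (2 + (p - 2)) = 1 + (1 + (p - 2)) by omega, pow_add (X - C b),
        show ((X - C a) ^ 2 * (X - C a) ^ (p - 2) * ((X - C b) ^ 1 * (X - C b) ^ (1 + (p - 2))) : F[X])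
          = ((X - C a) * (X - C a) * (X - C b)) * ((X - C a) ^ (p - 2) * (X - C b) ^ (1 + (p - 2)))
          by ring, map_mul, h0, zero_mul]
    rw [pow_mul]
    apply pow_eq_smul_two hne' h1
    · rw [← pow_mul]
    · rw [← pow_mul, hb]

end Cfsg.Agent.Lib.Helper48
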