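import Mathlib
import Cfsg.Agent.Lib.Helper48.U3Aux

set_option autoImplicit false
set_option linter.unusedSectionVars false
set_option linter.style.haveILetI false

namespace Cfsg.Agent.Lib.Helper48

open Module Polynomial

universe u

variable {F : Type u} [Field F] {V : Type u} [AddCommGroup V] [Module F V]

theorem scalar_aab_ne (p : ℕ) [Fact p.Prime] [CharP F p] {E : ℕ} {T : End F V} {a b : F}
    (h0 : aeval T ((X - C a) * (X - C a) * (X - C b) : F[X]) = 0) (ha : a ^ E = 1)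
    (hab : a * a * b = 1) (hne : a ≠ b) :
    T ^ (p * (E / Nat.gcd 3 E)) = (a ^ (p * (E / Nat.gcd 3 E))) • (1 : End F V) := by
  set d := Nat.gcd 3 E with hd
  set j := E / d with hj
  have hp2 : 2 ≤ p := (Fact.out : p.Prime).two_le
  have hjd : j * d = E := Nat.div_mul_cancel (Nat.gcd_dvd_right 3 E)
  obtain ⟨t, ht⟩ : d ∣ 3 := Nat.gcd_dvd_left 3 E
  have h3j : a ^ (3 * j) = 1 := by
    have : 3 * j = E * t := by rw [ht, ← hjd]; ring
    rw [this, pow_mul, ha, one_pow]
  have hb : b ^ (p * j) = a ^ (p * j) := by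
    have h1 : b ^ (p * j) * a ^ (2 * (p * j)) = 1 := by
      rw [pow_mul a 2, ← mul_pow, show b * a ^ 2 = a * a * b by ring, hab, one_pow]
    have h2 : a ^ (3 * (p * j)) = 1 := by
      rw [show 3 * (p * j) = (3 * j) * p by ring, pow_mul, h3j, one_pow]
    calc b ^ (p * j) = b ^ (p * j) * a ^ (3 * (p * j)) := by rw [h2, mul_one]
      _ = (b ^ (p * j) * a ^ (2 * (p * j))) * a ^ (p * j) := by
          rw [mul_assoc, ← pow_add]
          congr 2
          ring
      _ = a ^ (p * j) := by rw [h1, one_mul]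
  have hfa : ∀ c : F, ((X - C c) ^ p : F[X]) = X ^ p - C (c ^ p) := by
    intro c
    rw [sub_pow_char, ← C_pow]
  have hne' : a ^ p ≠ b ^ p := fun h => hne (frobenius_inj F p h)
  have h1 : aeval (T ^ p) ((X - C (a ^ p)) * (X - C (b ^ p)) : F[X]) = 0 := by
    have h2 : aeval (T ^ p) ((X - C (a ^ p)) * (X - C (b ^ p)) : F[X]) =
        aeval T ((X ^ p - C (a ^ p)) * (X ^ p - C (b ^ p)) : F[X]) := by simp
    rw [h2, ← hfa, ← hfa, show p = 2 + (p - 2) by omega, pow_add,
      show (2 + (p - 2)) = 1 + (1 + (p - 2)) by omega, pow_add (X - C b),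
      show ((X - C a) ^ 2 * (X - C a) ^ (p - 2) * ((X - C b) ^ 1 * (X - C b) ^ (1 + (p - 2))) : F[X])
        = ((X - C a) * (X - C a) * (X - C b)) * ((X - C a) ^ (p - 2) * (X - C b) ^ (1 + (p - 2)))
        by ring, map_mul, h0, zero_mul]
  rw [pow_mul]
  apply pow_eq_smul_two hne' h1
  · rw [← pow_mul]
  · rw [← pow_mul, hb]

theorem scalar_aaa (p : ℕ) [Fact p.Prime] [CharP F p] {T : End F V} {a : F}
    (h0 : aeval T ((X - C a) * (X - C a) * (X - C a) : F[X]) = 0) {s : ℕ} (hs : 3 ≤ p ^ s) :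
    T ^ (p ^ s) = (a ^ (p ^ s)) • (1 : End F V) := by
  apply pow_eq_smul_of_dvd h0
  have : ((X - C a) ^ (p ^ s) : F[X]) = X ^ (p ^ s) - C (a ^ (p ^ s)) := by
    rw [sub_pow_char_pow, ← C_pow]
  rw [← this, show p ^ s = 3 + (p ^ s - 3) by omega, pow_add]
  exact ⟨(X - C a) ^ (p ^ s - 3), by ring⟩

variable [Fintype F]

theorem exists_algebraMap_eq_of_pow_card {K : Type*} [Field K] [Algebra F K] {y : K}
    (h : y ^ Fintype.card F = y) : ∃ c : F, y = algebraMap F K c := by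
  classical
  have h1 : aeval y (∏ a : F, (X - C a) : F[X]) = 0 := by
    rw [prod_X_sub_C_univ]
    simp [h]
  rw [map_prod, Finset.prod_eq_zero_iff] at h1
  obtain ⟨c, -, hc⟩ := h1
  refine ⟨c, ?_⟩
  simpa [sub_eq_zero] using hc

theorem scalar_lin_quad {T : End F V} {l : F} {g : F[X]} (hg : Irreducible g) (hgm : g.Monic)
    (hgd : g.natDegree = 2) (h0 : aeval T ((X - C l) * g : F[X]) = 0) (hl : l * g.coeff 0 = 1) :
    ∃ c : F, T ^ ((Fintype.card F ^ 2 - 1) / Nat.gcd 3 (Fintype.card F - 1)) =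
      c • (1 : End F V) := by
  classical
  set q := Fintype.card F with hq
  have hq2 : 2 ≤ q := Fintype.one_lt_card
  set d := Nat.gcd 3 (q - 1) with hd
  set j := (q ^ 2 - 1) / d with hj
  haveI : Fact (Irreducible g) := ⟨hg⟩
  set θ : AdjoinRoot g := AdjoinRoot.root g with hθ
  haveI : FiniteDimensional F (AdjoinRoot g) := (AdjoinRoot.powerBasis hg.ne_zero).finite
  haveI : Finite (AdjoinRoot g) := Module.finite_of_finite F
  haveI : Fintype (AdjoinRoot g) := Fintype.ofFinite _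
  have hfin : finrank F (AdjoinRoot g) = 2 := by
    rw [(AdjoinRoot.powerBasis hg.ne_zero).finrank, AdjoinRoot.powerBasis_dim, hgd]
  have hcard : Fintype.card (AdjoinRoot g) = q ^ 2 := by
    rw [Module.card_eq_pow_finrank (K := F), hfin]
  have hfac : q ^ 2 - 1 = (q - 1) * (q + 1) := by
    obtain ⟨r, hr⟩ : ∃ r, q = r + 1 := ⟨q - 1, by omega⟩
    rw [hr]
    simp only [Nat.add_sub_cancel]
    have : (r + 1) ^ 2 = r * (r + 1 + 1) + 1 := by ring
    omega
  have hd1 : d ∣ q - 1 := Nat.gcd_dvd_right 3 (q - 1)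
  have hd3 : d ∣ 3 := Nat.gcd_dvd_left 3 (q - 1)
  have hjd : j * d = q ^ 2 - 1 := Nat.div_mul_cancel (hfac ▸ Dvd.dvd.mul_right hd1 _)
  have hnorm : θ ^ (q + 1) = algebraMap F _ (g.coeff 0) := by
    have h1 := Algebra.PowerBasis.norm_gen_eq_coeff_zero_minpoly (AdjoinRoot.powerBasis hg.ne_zero)
    rw [AdjoinRoot.powerBasis_gen, AdjoinRoot.powerBasis_dim, hgd, AdjoinRoot.minpoly_root hg.ne_zero,
      hgm.leadingCoeff, inv_one, map_one, mul_one] at h1
    have h2 := FiniteField.algebraMap_norm_eq_pow_sum F (AdjoinRoot g) θ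
    rw [h1, hfin, Nat.card_eq_fintype_card] at h2
    simp only [Finset.sum_range_succ, Finset.sum_range_zero, pow_zero, pow_one, zero_add] at h2
    rw [add_comm, ← hq] at h2
    rw [← h2]
    simp
  have hg0 : g.coeff 0 ≠ 0 := by
    intro h
    rw [h, mul_zero] at hl
    exact zero_ne_one hl
  have hθ0 : θ ≠ 0 := by
    intro h
    rw [h, zero_pow (by omega)] at hnorm
    exact hg0 ((map_eq_zero _).1 hnorm.symm)
  have hθQ : θ ^ (q ^ 2 - 1) = 1 := by
    rw [← hcard]
    exact FiniteField.pow_card_sub_one_eq_one θ hθ0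
  have hyd : (θ ^ j) ^ d = 1 := by rw [← pow_mul, hjd, hθQ]
  have hyq : (θ ^ j) ^ q = θ ^ j := by
    obtain ⟨s, hs⟩ := hd1
    have : q = d * s + 1 := by omega
    rw [this, pow_succ, pow_mul, hyd, one_pow, one_mul]
  obtain ⟨c, hc⟩ := exists_algebraMap_eq_of_pow_card hyq
  have hcd : c ^ d = 1 := by
    apply (algebraMap F (AdjoinRoot g)).injective
    rw [map_pow, ← hc, hyd, map_one]
  have hc3 : c ^ 3 = 1 := by
    obtain ⟨s, hs⟩ := hd3
    rw [hs, pow_mul, hcd, one_pow]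
  have hc0 : c ≠ 0 := by
    rintro rfl
    rw [zero_pow (by norm_num)] at hc3
    exact zero_ne_one hc3
  have hcq : c ^ (q + 1) = c ^ 2 := by
    have h1 : c ^ (q - 1) = 1 := FiniteField.pow_card_sub_one_eq_one c hc0
    rw [show q + 1 = (q - 1) + 2 by omega, pow_add, h1, one_mul]
  have hgj : g.coeff 0 ^ j = c ^ 2 := by
    apply (algebraMap F (AdjoinRoot g)).injective
    rw [map_pow, ← hnorm, ← pow_mul, mul_comm, pow_mul, hc, ← map_pow, hcq]
  have hlj : l ^ j = c := by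
    have h1 : l ^ j * c ^ 2 = 1 := by rw [← hgj, ← mul_pow, hl, one_pow]
    calc l ^ j = l ^ j * c ^ 3 := by rw [hc3, mul_one]
      _ = (l ^ j * c ^ 2) * c := by ring
      _ = c := by rw [h1, one_mul]
  refine ⟨c, pow_eq_smul_of_dvd h0 ?_⟩
  have hcop : IsCoprime (X - C l : F[X]) g := by
    rw [isCoprime_comm]
    refine (hg.isCoprime_or_dvd (X - C l)).resolve_right ?_
    intro h
    have := natDegree_le_of_dvd h (X_sub_C_ne_zero l)
    rw [natDegree_X_sub_C, hgd] at this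
    omega
  apply hcop.mul_dvd (X_sub_C_dvd_of_pow hlj)
  rw [← AdjoinRoot.mk_eq_zero, ← AdjoinRoot.aeval_eq]
  simp only [map_sub, map_pow, aeval_X, aeval_C]
  rw [← hθ, hc, sub_self]

end Cfsg.Agent.Lib.Helper48
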