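import Mathlib
import Cfsg.Agent.Lib.Helper48.ProjSpec
import Cfsg.Agent.Lib.Helper48.SpecProd

set_option autoImplicit false
set_option linter.unusedSectionVars false

namespace Cfsg.Agent.Lib.Helper48

open Module

universe u

variable {F : Type u} [Field F]

theorem POrd.unique {V : Type*} [AddCommGroup V] [Module F V] {T : End F V} {a b : ℕ}
    (ha : POrd T a) (hb : POrd T b) : a = b :=
  Nat.dvd_antisymm ((ha b).1 ((hb b).2 dvd_rfl)) ((hb a).1 ((ha a).2 dvd_rfl))

theorem pord_of_mk {n : ℕ} (x : Matrix.SpecialLinearGroup (Fin n) F) :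
    POrd (Matrix.toLin' (x : Matrix (Fin n) (Fin n) F))
      (orderOf (QuotientGroup.mk x : Matrix.ProjectiveSpecialLinearGroup (Fin n) F)) := by
  intro j
  rw [orderOf_dvd_iff_pow_eq_one, ← QuotientGroup.mk_pow, QuotientGroup.eq_one_iff,
    Matrix.SpecialLinearGroup.mem_center_iff]
  have key : ∀ c : F, (Matrix.toLin' (x : Matrix (Fin n) (Fin n) F)) ^ j =
      c • (1 : End F (Fin n → F)) ↔
      Matrix.scalar (Fin n) c = ((x ^ j : Matrix.SpecialLinearGroup (Fin n) F) :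
        Matrix (Fin n) (Fin n) F) := by
    intro c
    rw [Matrix.SpecialLinearGroup.coe_pow, ← Matrix.toLin'_pow]
    have h1 : c • (1 : End F (Fin n → F)) = Matrix.toLin' (Matrix.scalar (Fin n) c) := by
      rw [Matrix.scalar_apply, ← Matrix.smul_one_eq_diagonal, map_smul, Matrix.toLin'_one]
      rfl
    rw [h1]
    constructor
    · intro h
      exact (Matrix.toLin'.injective h).symm
    · intro h
      rw [h]
  constructor
  · rintro ⟨c, hc⟩
    have h2 := (key c).1 hc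
    refine ⟨c, ?_, h2⟩
    have h3 := congrArg Matrix.det h2
    rw [(x ^ j).2, Matrix.scalar_apply, Matrix.det_diagonal, Finset.prod_const,
      Finset.card_univ] at h3
    exact h3
  · rintro ⟨c, -, hc⟩
    exact ⟨c, (key c).2 hc⟩

theorem exists_PSL_orderOf_of_pord {n : ℕ} (T : End F (Fin n → F)) (hdet : LinearMap.det T = 1)
    (a : ℕ) (ha : POrd T a) :
    ∃ y : Matrix.ProjectiveSpecialLinearGroup (Fin n) F, orderOf y = a := by
  have hd : (LinearMap.toMatrix' T).det = 1 := by rw [LinearMap.det_toMatrix', hdet]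
  refine ⟨QuotientGroup.mk (⟨LinearMap.toMatrix' T, hd⟩ : Matrix.SpecialLinearGroup (Fin n) F), ?_⟩
  have h1 := pord_of_mk (⟨LinearMap.toMatrix' T, hd⟩ : Matrix.SpecialLinearGroup (Fin n) F)
  have h2 : Matrix.toLin' ((⟨LinearMap.toMatrix' T, hd⟩ : Matrix.SpecialLinearGroup (Fin n) F) :
      Matrix (Fin n) (Fin n) F) = T := Matrix.toLin'_toMatrix' T
  rw [h2] at h1
  exact h1.unique ha

theorem exists_pord_of_PSL {n : ℕ} (y : Matrix.ProjectiveSpecialLinearGroup (Fin n) F) :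
    ∃ T : End F (Fin n → F), LinearMap.det T = 1 ∧ POrd T (orderOf y) := by
  obtain ⟨x, rfl⟩ := QuotientGroup.mk_surjective y
  exact ⟨_, by rw [LinearMap.det_toLin']; exact x.2, pord_of_mk x⟩

theorem pord_unip (p : ℕ) [Fact p.Prime] [CharP F p] {V : Type*} [AddCommGroup V] [Module F V]
    [Nontrivial V] (U : End F V) (t : ℕ) (h2 : ∀ j, U ^ j = 1 ↔ p ^ t ∣ j) : POrd U (p ^ t) := by
  intro j
  constructor
  · rintro ⟨c, hU⟩
    have hc1 : c = 1 := by
      apply eq_one_of_pow_char_pow_eq_one p (t := t)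
      apply smul_one_injective' (V := V)
      rw [one_smul, ← one_pow (p ^ t), ← smul_pow, ← hU, ← pow_mul, mul_comm, pow_mul,
        (h2 (p ^ t)).2 dvd_rfl, one_pow, one_pow]
    rw [hc1, one_smul] at hU
    exact (h2 j).1 hU
  · intro h
    exact ⟨1, by rw [(h2 j).2 h, one_smul]⟩

section Fin

variable [Fintype F]

/-- the regular unipotent element in `PSL_n(q)` -/
theorem exists_PSL_orderOf_unip (p : ℕ) [Fact p.Prime] [CharP F p] (n : ℕ) (hn : 1 ≤ n) :
    ∃ y : Matrix.ProjectiveSpecialLinearGroup (Fin n) F, orderOf y = p ^ Nat.clog p n := by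
  have : Nonempty (Fin n) := ⟨⟨0, hn⟩⟩
  obtain ⟨g, hg⟩ := exists_GL_orderOf_unip (F := F) p n
  have h2 : ∀ j, (opGL g) ^ j = 1 ↔ p ^ Nat.clog p n ∣ j := by
    intro j
    rw [opGL_pow_eq_one_iff, hg]
  refine exists_PSL_orderOf_of_pord (opGL g) ?_ _ (pord_unip p _ _ h2)
  apply eq_one_of_pow_char_pow_eq_one p (t := Nat.clog p n)
  rw [← map_pow, (h2 _).2 dvd_rfl, map_one]

/-- an element of order `r` in `PSL_n(q)` -/
theorem exists_PSL_orderOf_prime (p : ℕ) [Fact p.Prime] [CharP F p] (n : ℕ) (hn : 2 ≤ n) (r : ℕ)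
    (hr : r.Prime) (hrq : r ∣ Fintype.card F - 1) (hrn : ¬ r ∣ n) :
    ∃ y : Matrix.ProjectiveSpecialLinearGroup (Fin n) F, orderOf y = r := by
  have : Nonempty (Fin n) := ⟨⟨0, by omega⟩⟩
  obtain ⟨ζ, hζ, hζn⟩ := exists_root_of_unity (F := F) hr hrq hrn
  obtain ⟨T₀, h1, h2, h3⟩ := exists_decomp_pord p n 1 (n - 1) le_rfl (by omega) (by omega)
    (1 : GL (Fin 1) F) (by simp) (1 : GL (Fin (n - 1)) F) 0 (by simp)
  obtain ⟨T', b, h5, h6, -, h8⟩ := exists_good_of_decomp h1 h2 h3 hr ζ hζ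
    (by rwa [Module.finrank_fin_fun])
  obtain ⟨y, hy⟩ := exists_PSL_orderOf_of_pord T' h5 b h6
  exact exists_orderOf_eq_of_dvd y (hy ▸ h8)

/-- the image of the norm one Singer cycle in `PSL_n(q)` -/
theorem exists_PSL_orderOf_singer (n : ℕ) (hn : 1 ≤ n) :
    ∃ y : Matrix.ProjectiveSpecialLinearGroup (Fin n) F, orderOf y =
      ((Fintype.card F ^ n - 1) / (Fintype.card F - 1)) / Nat.gcd n (Fintype.card F - 1) := by
  have : Nonempty (Fin n) := ⟨⟨0, hn⟩⟩
  set q := Fintype.card F with hq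
  have hq1 : 1 < q := Fintype.one_lt_card
  obtain ⟨g, hgd, hg⟩ := exists_GL_singer_det_one (F := F) n hn
  have hdet : LinearMap.det (opGL g) = 1 := by rw [det_opGL, hgd]
  have hd : (LinearMap.toMatrix' (opGL g)).det = 1 := by rw [LinearMap.det_toMatrix', hdet]
  set y₀ : Matrix.ProjectiveSpecialLinearGroup (Fin n) F :=
    QuotientGroup.mk (⟨LinearMap.toMatrix' (opGL g), hd⟩ : Matrix.SpecialLinearGroup (Fin n) F)
    with hy₀
  have h1 := pord_of_mk (⟨LinearMap.toMatrix' (opGL g), hd⟩ : Matrix.SpecialLinearGroup (Fin n) F)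
  have h2 : Matrix.toLin' ((⟨LinearMap.toMatrix' (opGL g), hd⟩ :
      Matrix.SpecialLinearGroup (Fin n) F) : Matrix (Fin n) (Fin n) F) = opGL g :=
    Matrix.toLin'_toMatrix' _
  rw [h2, ← hy₀] at h1
  apply exists_orderOf_eq_of_dvd y₀
  obtain ⟨c, hc⟩ := (h1 (orderOf y₀)).2 dvd_rfl
  have hcn : c ^ n = 1 := by
    have h3 := congrArg LinearMap.det hc
    rw [map_pow, hdet, one_pow, LinearMap.det_smul, map_one, mul_one,
      Module.finrank_fin_fun] at h3
    exact h3.symm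
  have hc0 : c ≠ 0 := by
    rintro rfl
    rw [zero_pow (by omega)] at hcn
    exact zero_ne_one hcn
  have hcq : c ^ (q - 1) = 1 := FiniteField.pow_card_sub_one_eq_one c hc0
  have hcd : c ^ Nat.gcd n (q - 1) = 1 := pow_gcd_eq_one.2 ⟨hcn, hcq⟩
  have h4 : (opGL g) ^ (orderOf y₀ * Nat.gcd n (q - 1)) = 1 := by
    rw [pow_mul, hc, smul_pow, one_pow, hcd, one_smul]
  have h5 := (opGL_pow_eq_one_iff g _).1 h4
  rw [hg] at h5
  have hdpos : 0 < Nat.gcd n (q - 1) := Nat.gcd_pos_of_pos_left _ hn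
  apply Nat.dvd_of_mul_dvd_mul_right hdpos
  rwa [Nat.div_mul_cancel (gcd_dvd_geom q n (by omega))]

end Fin

end Cfsg.Agent.Lib.Helper48
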