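import Mathlib
import Cfsg.Agent.Lib.Helper48.L3Upper
import Cfsg.Agent.Lib.Helper48.ProjPSL

set_option autoImplicit false
set_option linter.unusedSectionVars false
set_option linter.style.haveILetI false

namespace Cfsg.Agent.Lib.Helper48

open Module Polynomial

universe u

variable {F : Type u} [Field F] [Fintype F] {V : Type u} [AddCommGroup V] [Module F V]

theorem geom3 (q : ℕ) (hq : 2 ≤ q) : (q ^ 3 - 1) / (q - 1) = q ^ 2 + q + 1 := by
  apply Nat.div_eq_of_eq_mul_right (by omega)
  obtain ⟨r, rfl⟩ : ∃ r, q = r + 1 := ⟨q - 1, by omega⟩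
  simp only [Nat.add_sub_cancel]
  have : (r + 1) ^ 3 = r * ((r + 1) ^ 2 + (r + 1) + 1) + 1 := by ring
  omega

theorem l3_scalar_irr [FiniteDimensional F V] (h3 : finrank F V = 3)
    {T : End F V} (hdet : LinearMap.det T = 1) (hirr : Irreducible T.charpoly) :
    ∃ c : F, T ^ ((Fintype.card F ^ 2 + Fintype.card F + 1) / Nat.gcd 3 (Fintype.card F - 1)) =
      c • (1 : End F V) := by
  set q := Fintype.card F with hq
  have hq2 : 2 ≤ q := Fintype.one_lt_card
  have hnt : Nontrivial V := Module.nontrivial_of_finrank_pos (R := F) (by omega)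
  have hdeg : T.charpoly.natDegree = 3 := by rw [LinearMap.charpoly_natDegree, h3]
  have h2 := pow_eq_one_of_det_eq_one (T := T) hirr (LinearMap.charpoly_monic T)
    (LinearMap.aeval_self_charpoly T) (hdeg.trans h3.symm) hdet
  rw [h3, ← hq, geom3 q hq2] at h2
  apply scalar_of_pow_card_irr hirr (LinearMap.aeval_self_charpoly T)
  have hd := gcd_dvd_geom q 3 hq2
  rw [geom3 q hq2] at hd
  have h5 := pow_div_pow_succ T (q ^ 2 + q + 1) (Nat.gcd 3 (q - 1)) (q - 1) hd
    (Nat.gcd_dvd_right 3 (q - 1)) h2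
  rwa [show q - 1 + 1 = q by omega] at h5

theorem l3_scalar (p : ℕ) [Fact p.Prime] [CharP F p] [FiniteDimensional F V]
    (h3 : finrank F V = 3) {T : End F V} (hdet : LinearMap.det T = 1) :
    (∃ c : F, T ^ ((Fintype.card F ^ 2 + Fintype.card F + 1) / Nat.gcd 3 (Fintype.card F - 1)) =
      c • (1 : End F V)) ∨
    (∃ c : F, T ^ ((Fintype.card F ^ 2 - 1) / Nat.gcd 3 (Fintype.card F - 1)) =
      c • (1 : End F V)) ∨
    (∃ c : F, T ^ (Fintype.card F - 1) = c • (1 : End F V)) ∨
    (∃ c : F, T ^ (p * ((Fintype.card F - 1) / Nat.gcd 3 (Fintype.card F - 1))) =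
      c • (1 : End F V)) ∨
    (p = 2 ∧ ∃ c : F, T ^ 4 = c • (1 : End F V)) := by
  classical
  set q := Fintype.card F with hq
  set χ := T.charpoly with hχdef
  have hmon : χ.Monic := LinearMap.charpoly_monic T
  have hdeg : χ.natDegree = 3 := by rw [hχdef, LinearMap.charpoly_natDegree, h3]
  have h0 : aeval T χ = 0 := LinearMap.aeval_self_charpoly T
  have hc0 : χ.coeff 0 = -1 := by
    have := LinearMap.det_eq_sign_charpoly_coeff T
    rw [hdet, h3] at this
    linear_combination this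
  by_cases hirr : Irreducible χ
  · exact Or.inl (l3_scalar_irr h3 hdet hirr)
  rw [hmon.irreducible_iff_roots_eq_zero_of_degree_le_three (by omega) (by omega)] at hirr
  obtain ⟨l, hl⟩ := Multiset.exists_mem_of_ne_zero hirr
  obtain ⟨g, hg⟩ := dvd_iff_isRoot.2 (isRoot_of_mem_roots hl)
  have hgmon : g.Monic := (monic_X_sub_C l).of_mul_monic_left (hg ▸ hmon)
  have hgdeg : g.natDegree = 2 := by
    have := congrArg natDegree hg
    rw [(monic_X_sub_C l).natDegree_mul hgmon, natDegree_X_sub_C, hdeg] at this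
    omega
  by_cases hgirr : Irreducible g
  · refine Or.inr (Or.inl (scalar_lin_quad hgirr hgmon hgdeg (by rw [← hg, h0]) ?_))
    rw [hg, mul_coeff_zero] at hc0
    simp at hc0
    exact hc0
  rw [hgmon.irreducible_iff_roots_eq_zero_of_degree_le_three (by omega) (by omega)] at hgirr
  obtain ⟨m, hm⟩ := Multiset.exists_mem_of_ne_zero hgirr
  obtain ⟨h, hh⟩ := dvd_iff_isRoot.2 (isRoot_of_mem_roots hm)
  have hhmon : h.Monic := (monic_X_sub_C m).of_mul_monic_left (hh ▸ hgmon)
  have hhdeg : h.natDegree = 1 := by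
    have := congrArg natDegree hh
    rw [(monic_X_sub_C m).natDegree_mul hhmon, natDegree_X_sub_C, hgdeg] at this
    omega
  obtain ⟨n, hn⟩ : ∃ n : F, h = X - C n := ⟨- h.coeff 0, by
    rw [C_neg, sub_neg_eq_add]
    exact hhmon.eq_X_add_C hhdeg⟩
  have hχ : χ = (X - C l) * (X - C m) * (X - C n) := by rw [hg, hh, hn]; ring
  have hlmn : l * m * n = 1 := by
    rw [hχ, coeff_zero_eq_eval_zero] at hc0
    simp only [eval_mul, eval_sub, eval_X, eval_C, zero_sub] at hc0
    linear_combination -hc0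
  have hl0 : l ≠ 0 := by rintro rfl; simp at hlmn
  have hm0 : m ≠ 0 := by rintro rfl; simp at hlmn
  have hn0 : n ≠ 0 := by rintro rfl; simp at hlmn
  have hpow : ∀ a : F, a ≠ 0 → a ^ (q - 1) = 1 := fun a ha =>
    FiniteField.pow_card_sub_one_eq_one a ha
  have haab : ∀ a b : F, a ≠ 0 → χ = (X - C a) * (X - C a) * (X - C b) → a * a * b = 1 →
      (∃ c : F, T ^ (p * ((q - 1) / Nat.gcd 3 (q - 1))) = c • (1 : End F V)) ∨
      (p = 2 ∧ ∃ c : F, T ^ 4 = c • (1 : End F V)) := by
    intro a b ha hχ' hab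
    by_cases hne : a = b
    · have h0' : aeval T ((X - C a) * (X - C a) * (X - C a) : F[X]) = 0 := by
        nth_rewrite 3 [hne]
        rw [← hχ', h0]
      by_cases hp2 : p = 2
      · right
        have := scalar_aaa p h0' (s := 2) (by rw [hp2]; norm_num)
        rw [hp2] at this
        exact ⟨hp2, _, this⟩
      · left
        have hp3 : 3 ≤ p := by
          have := (Fact.out : p.Prime).two_le
          omega
        have := scalar_aaa p h0' (s := 1) (by simpa using hp3)
        rw [pow_one] at this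
        refine ⟨(a ^ p) ^ ((q - 1) / Nat.gcd 3 (q - 1)), ?_⟩
        rw [pow_mul, this, _root_.smul_pow, one_pow]
    · left
      exact ⟨_, scalar_aab_ne p (by rw [← hχ', h0]) (hpow a ha) hab hne⟩
  by_cases hlm : l = m
  · exact Or.inr (Or.inr (Or.inr (haab l n hl0 (by rw [hχ, ← hlm]) (by rw [← hlmn, ← hlm]))))
  by_cases hln : l = n
  · exact Or.inr (Or.inr (Or.inr (haab l m hl0 (by rw [hχ, ← hln]; ring)
      (by rw [← hlmn, ← hln]; ring))))
  by_cases hmn : m = n
  · exact Or.inr (Or.inr (Or.inr (haab m l hm0 (by rw [hχ, ← hmn]; ring)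
      (by rw [← hlmn, ← hmn]; ring))))
  exact Or.inr (Or.inr (Or.inl ⟨1, pow_eq_smul_three hlm hln hmn (by rw [← hχ, h0]) (hpow l hl0)
    (hpow m hm0) (hpow n hn0)⟩))

end Cfsg.Agent.Lib.Helper48
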