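import Mathlib
import Cfsg.Agent.Lib.Helper48.GLWreath

set_option autoImplicit false

namespace Cfsg.Agent.Lib.Helper48

open Matrix SemidirectProduct
open scoped Matrix

variable {F : Type*} [Field F] {n : ℕ}

/-- index equivalence -/
def twoProdEquiv (n : ℕ) : Fin 2 × Fin n ≃ Fin n ⊕ Fin n where
  toFun p := if p.1 = 0 then Sum.inl p.2 else Sum.inr p.2
  invFun := Sum.elim (fun k => (0, k)) (fun k => (1, k))
  left_inv := by rintro ⟨a, k⟩; fin_cases a <;> simp
  right_inv := by rintro (k | k) <;> simp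

theorem glDiagM_det (g : Fin n → GL (Fin 2) F) : (glDiagM F n g).det = ∏ i, (g i).1.det := by
  rw [← Matrix.det_blockDiagonal, ← Matrix.det_submatrix_equiv_self (twoProdEquiv n)]
  congr 1
  ext ⟨a, k⟩ ⟨b, l⟩
  fin_cases a <;> fin_cases b <;>
    simp [glDiagM, twoProdEquiv, blockDiagonal_apply, diagonal_apply]

theorem glPermM_det (σ : Equiv.Perm (Fin n)) : (glPermM F n σ).det = 1 := by
  have h := congrArg Matrix.det (pmat_transpose_mul (F := F) σ)
  rw [det_mul, det_transpose, det_one] at h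
  change (fromBlocks (pmat F σ) 0 0 (pmat F σ)).det = 1
  rw [det_fromBlocks_zero₂₁, h]

theorem det_glWreath_inl (S : Subgroup (GL (Fin 2) F)) (T : Subgroup (Equiv.Perm (Fin n)))
    (s : Fin n → S) : (glWreath S T (inl s)).1.det = ∏ i, (s i).1.1.det := by
  rw [glWreath, SemidirectProduct.lift_inl]
  exact glDiagM_det _

theorem det_glWreath_inr (S : Subgroup (GL (Fin 2) F)) (T : Subgroup (Equiv.Perm (Fin n)))
    (t : T) : (glWreath S T (inr t)).1.det = 1 := by
  rw [glWreath, SemidirectProduct.lift_inr]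
  exact glPermM_det _

/-- reindexing `GL` -/
def glReindex {ι κ : Type*} [Fintype ι] [DecidableEq ι] [Fintype κ] [DecidableEq κ] (e : ι ≃ κ) :
    GL ι F ≃* GL κ F :=
  Units.mapEquiv (Matrix.reindexAlgEquiv F F e).toMulEquiv

theorem glReindex_det {ι κ : Type*} [Fintype ι] [DecidableEq ι] [Fintype κ] [DecidableEq κ]
    (e : ι ≃ κ) (A : GL ι F) : (glReindex e A).1.det = A.1.det :=
  Matrix.det_reindexAlgEquiv F F e A.1

/-- `z ↦ diag(z,1)` -/
def betaM (F : Type*) [Field F] : F →* Matrix (Fin 2) (Fin 2) F where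
  toFun z := diagonal ![z, 1]
  map_one' := by
    ext i j
    fin_cases i <;> fin_cases j <;> simp
  map_mul' a b := by
    rw [diagonal_mul_diagonal]
    congr 1
    funext i
    fin_cases i <;> simp

/-- `z ↦ diag(z,1)` -/
def betaGL (F : Type*) [Field F] : Fˣ →* GL (Fin 2) F := Units.map (betaM F)

theorem betaGL_det (z : Fˣ) : Matrix.GeneralLinearGroup.det (betaGL F z) = z := by
  apply Units.ext
  change (diagonal ![(z : F), 1]).det = z
  simp [det_diagonal, Fin.prod_univ_two]

end Cfsg.Agent.Lib.Helper48
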