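import Mathlib
import Cfsg.Agent.Lib.Helper48.U3Aux

set_option autoImplicit false
set_option linter.unusedSectionVars false
set_option linter.style.haveILetI false

namespace Cfsg.Agent.Lib.Helper48

open Module Polynomial Cfsg.Agent.Lib.Helper17

universe u

variable {F : Type u} [Field F] [Fintype F] {V : Type u} [AddCommGroup V] [Module F V] {q : ℕ}

theorem pow_q_eq_one (hF : Fintype.card F = q ^ 2) {x : F} (h : x ^ q = 1) : x = 1 := by
  have := pow_q_pow_q hF x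
  rw [h, one_pow] at this
  exact this.symm

theorem scalar_swap (hF : Fintype.card F = q ^ 2) {T : End F V} {a b c : F}
    (h0 : aeval T ((X - C a) * (X - C b) * (X - C c) : F[X]) = 0) (habc : a * b * c = 1)
    (hc : c * a ^ q = 1) (ha : a ^ (q + 1) ≠ 1) :
    T ^ ((q ^ 2 - 1) / Nat.gcd 3 (q + 1)) =
      (a ^ ((q ^ 2 - 1) / Nat.gcd 3 (q + 1))) • (1 : End F V) := by
  have hq2 : 2 ≤ q := two_le_of_card_sq hF
  set d := Nat.gcd 3 (q + 1) with hd
  set j := (q ^ 2 - 1) / d with hj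
  have ha0 : a ≠ 0 := by
    rintro rfl
    simp at habc
  have hc0 : c ≠ 0 := by
    rintro rfl
    simp at habc
  have hQ : a ^ (q ^ 2 - 1) = 1 := by
    rw [← hF]
    exact FiniteField.pow_card_sub_one_eq_one a ha0
  have hfac : q ^ 2 - 1 = (q + 1) * (q - 1) := by
    obtain ⟨r, rfl⟩ : ∃ r, q = r + 1 := ⟨q - 1, by omega⟩
    simp only [Nat.add_sub_cancel]
    have : (r + 1) ^ 2 = (r + 1 + 1) * r + 1 := by ring
    omega
  have hd1 : d ∣ q + 1 := Nat.gcd_dvd_right 3 (q + 1)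
  have hd3 : d ∣ 3 := Nat.gcd_dvd_left 3 (q + 1)
  have hdQ : d ∣ q ^ 2 - 1 := hfac ▸ Dvd.dvd.mul_right hd1 _
  have hjd : d * j = q ^ 2 - 1 := Nat.mul_div_cancel' hdQ
  obtain ⟨s, hs⟩ : d ∣ q - 2 := by
    have := Nat.dvd_sub hd1 hd3
    rwa [show q + 1 - 3 = q - 2 by omega] at this
  obtain ⟨t, ht⟩ := hd1
  have hb : b = a ^ (q - 1) := by
    have h1 : a * c * b = a * c * a ^ (q - 1) := by
      have h2 : a * a ^ (q - 1) = a ^ q := by
        rw [← pow_succ']
        congr 1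
        omega
      calc a * c * b = a * b * c := by ring
        _ = c * a ^ q := by rw [habc, hc]
        _ = a * c * a ^ (q - 1) := by rw [← h2]; ring
    exact mul_left_cancel₀ (mul_ne_zero ha0 hc0) h1
  have hbj : b ^ j = a ^ j := by
    rw [hb, ← pow_mul, show (q - 1) * j = j + s * (d * j) by
      rw [show q - 1 = 1 + (q - 2) by omega, hs]; ring, pow_add, hjd, mul_comm s, pow_mul, hQ,
      one_pow, mul_one]
  have hcj : c ^ j = a ^ j := by
    have h1 : c ^ j * a ^ (q * j) = 1 := by rw [pow_mul, ← mul_pow, hc, one_pow]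
    have h2 : a ^ (q * j) * a ^ j = 1 := by
      rw [← pow_add, show q * j + j = (d * j) * t by
        rw [show q * j + j = (q + 1) * j by ring, ht]; ring, hjd, pow_mul, hQ, one_pow]
    calc c ^ j = c ^ j * (a ^ (q * j) * a ^ j) := by rw [h2, mul_one]
      _ = a ^ j := by rw [← mul_assoc, h1, one_mul]
  have hbq : b ^ (q + 1) = 1 := by
    rw [hb, ← pow_mul, mul_comm, ← hfac, hQ]
  have hab : a ≠ b := by
    intro h
    exact ha (h ▸ hbq)
  have hac : a ≠ c := by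
    intro h
    apply ha
    rw [pow_succ', ← hc, ← h]
  have hbc : b ≠ c := by
    intro h
    apply ha
    have h1 : (c * a ^ q) ^ (q + 1) = 1 := by rw [hc, one_pow]
    rw [mul_pow, ← h, hbq, one_mul, ← pow_mul, mul_comm, pow_mul] at h1
    exact pow_q_eq_one hF h1
  exact pow_eq_smul_three hab hac hbc h0 rfl hbj hcj

theorem gcd_u3 (q : ℕ) (hq : 2 ≤ q) :
    Nat.gcd (q ^ 3 + 1) (((q ^ 2) ^ 3 - 1) / (q ^ 2 - 1)) = q ^ 2 - q + 1 := by
  have hle : q ≤ q ^ 2 := by nlinarith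
  set w := q ^ 2 - q + 1 with hw
  have hwz : (w : ℤ) = (q : ℤ) ^ 2 - q + 1 := by
    rw [hw]
    push_cast [Nat.cast_sub hle]
    ring
  have h1 : q ^ 3 + 1 = (q + 1) * w := by
    zify
    rw [hwz]
    ring
  have h2 : ((q ^ 2) ^ 3 - 1) / (q ^ 2 - 1) = (q ^ 2 + q + 1) * w := by
    have hpos : 0 < q ^ 2 - 1 := by
      have : 4 ≤ q ^ 2 := by nlinarith
      omega
    apply Nat.div_eq_of_eq_mul_right hpos
    have h3 : 1 ≤ q ^ 2 := by nlinarith
    have h4 : 1 ≤ (q ^ 2) ^ 3 := Nat.one_le_pow _ _ (by omega)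
    zify [h3, h4]
    rw [hwz]
    ring
  rw [h1, h2, Nat.gcd_mul_right]
  have h3 : Nat.gcd (q + 1) (q ^ 2 + q + 1) = 1 := by
    rw [show q ^ 2 + q + 1 = 1 + q * (q + 1) by ring]
    simp
  rw [h3, one_mul]

theorem gcd3_dvd_w (q : ℕ) (hq : 2 ≤ q) : Nat.gcd 3 (q + 1) ∣ q ^ 2 - q + 1 := by
  have hle : q ≤ q ^ 2 := by nlinarith
  have h1 : q ^ 2 - q + 1 = (q + 1) * (q - 2) + 3 := by
    obtain ⟨r, rfl⟩ : ∃ r, q = r + 2 := ⟨q - 2, by omega⟩
    simp only [Nat.add_sub_cancel]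
    have : (r + 2) ^ 2 = (r + 2 + 1) * r + 3 + (r + 2) - 1 := by
      have : (r + 2) ^ 2 + 1 = (r + 2 + 1) * r + 3 + (r + 2) := by ring
      omega
    omega
  rw [h1]
  exact dvd_add (Dvd.dvd.mul_right (Nat.gcd_dvd_right 3 (q + 1)) _) (Nat.gcd_dvd_left 3 (q + 1))

theorem scalar_irr (hF : Fintype.card F = q ^ 2) [FiniteDimensional F V] (h3 : finrank F V = 3)
    {T : End F V} (hdet : LinearMap.det T = 1) (hirr : Irreducible T.charpoly)
    (hsym : T.charpoly.map (frobQ hF) = - T.charpoly.reverse) :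
    ∃ c : F, T ^ ((q ^ 2 - q + 1) / Nat.gcd 3 (q + 1)) = c • (1 : End F V) := by
  have hq2 : 2 ≤ q := two_le_of_card_sq hF
  have hnt : Nontrivial V := Module.nontrivial_of_finrank_pos (R := F) (by omega)
  have hdeg : T.charpoly.natDegree = 3 := by rw [LinearMap.charpoly_natDegree, h3]
  have hd : T.charpoly.map (frobQ hF) ∣ T.charpoly.reverse := ⟨-1, by rw [hsym]; ring⟩
  obtain ⟨-, hdvd⟩ := ft_of_map_dvd_reverse hF hirr hd
  rw [hdeg] at hdvd
  have h1 : T ^ (q ^ 3 + 1) = 1 := by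
    have := pow_eq_smul_of_dvd (LinearMap.aeval_self_charpoly T) (j := q ^ 3 + 1) (k := 1)
      (by simpa using hdvd)
    rwa [one_smul] at this
  have h2 := pow_eq_one_of_det_eq_one (T := T) hirr (LinearMap.charpoly_monic T)
    (LinearMap.aeval_self_charpoly T) (hdeg.trans h3.symm) hdet
  rw [h3, hF] at h2
  have h4 : T ^ (q ^ 2 - q + 1) = 1 := by
    rw [← gcd_u3 q hq2]
    exact pow_gcd_eq_one.2 ⟨h1, h2⟩
  apply scalar_of_pow_card_irr hirr (LinearMap.aeval_self_charpoly T)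
  have h5 := pow_div_pow_succ T (q ^ 2 - q + 1) (Nat.gcd 3 (q + 1)) (q ^ 2 - 1) (gcd3_dvd_w q hq2)
    (by
      have hfac : q ^ 2 - 1 = (q + 1) * (q - 1) := by
        obtain ⟨r, rfl⟩ : ∃ r, q = r + 1 := ⟨q - 1, by omega⟩
        simp only [Nat.add_sub_cancel]
        have : (r + 1) ^ 2 = (r + 1 + 1) * r + 1 := by ring
        omega
      rw [hfac]
      exact Dvd.dvd.mul_right (Nat.gcd_dvd_right 3 (q + 1)) _) h4
  rw [hF]
  rwa [show q ^ 2 - 1 + 1 = q ^ 2 by
    have : 1 ≤ q ^ 2 := by nlinarith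
    omega] at h5

end Cfsg.Agent.Lib.Helper48
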