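import Mathlib
import Cfsg.Agent.Lib.Helper48.U3Upper

set_option autoImplicit false
set_option linter.unusedSectionVars false
set_option linter.style.haveILetI false

namespace Cfsg.Agent.Lib.Helper48

open Module Polynomial Cfsg.Agent.Lib.Helper17

universe u

variable {F : Type u} [Field F] [Fintype F] {V : Type u} [AddCommGroup V] [Module F V] {q : ℕ}

/-- roots of a conjugate-reciprocal polynomial are closed under `x ↦ x^(-q)` -/
theorem root_closure (hF : Fintype.card F = q ^ 2) {χ : F[X]} (hc0 : χ.coeff 0 ≠ 0)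
    (hsym : χ.map (frobQ hF) = - χ.reverse) {x : F} (hx : χ.IsRoot x) :
    x ≠ 0 ∧ χ.IsRoot ((x ^ q)⁻¹) := by
  have hq2 : 2 ≤ q := two_le_of_card_sq hF
  have hx0 : x ≠ 0 := by
    rintro rfl
    apply hc0
    rw [coeff_zero_eq_eval_zero]
    exact hx
  refine ⟨hx0, ?_⟩
  have h1 : aeval (x ^ q) (χ.map (frobQ hF)) = 0 := by
    rw [aeval_pow_q_map, coe_aeval_eq_eval, hx.eq_zero, zero_pow (by omega)]
  rw [hsym, map_neg, neg_eq_zero, coe_aeval_eq_eval] at h1
  haveI : Invertible ((x ^ q)⁻¹) := invertibleOfNonzero (inv_ne_zero (pow_ne_zero _ hx0))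
  have h3 := (eval₂_reverse_eq_zero_iff (RingHom.id F) ((x ^ q)⁻¹) χ).1
  rw [invOf_eq_inv, inv_inv, eval₂_id, eval₂_id] at h3
  exact h3 h1

theorem swap_case (hF : Fintype.card F = q ^ 2) {T : End F V} {χ : F[X]} (h0 : aeval T χ = 0)
    (hc0 : χ.coeff 0 = -1) (hsym : χ.map (frobQ hF) = - χ.reverse) (a b c : F)
    (hχ : χ = (X - C a) * (X - C b) * (X - C c)) (ha : a ^ (q + 1) ≠ 1) :
    ∃ k : F, T ^ ((q ^ 2 - 1) / Nat.gcd 3 (q + 1)) = k • (1 : End F V) := by
  have habc : a * b * c = 1 := by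
    rw [hχ, coeff_zero_eq_eval_zero] at hc0
    simp only [eval_mul, eval_sub, eval_X, eval_C, zero_sub] at hc0
    linear_combination -hc0
  have hroot : χ.IsRoot a := by
    rw [hχ]
    simp [IsRoot]
  obtain ⟨ha0, hr⟩ := root_closure hF (by rw [hc0]; simp) hsym hroot
  have hy : (a ^ q)⁻¹ * a ^ q = 1 := inv_mul_cancel₀ (pow_ne_zero _ ha0)
  rw [hχ] at hr
  simp only [IsRoot, eval_mul, eval_sub, eval_X, eval_C, mul_eq_zero, sub_eq_zero] at hr
  rcases hr with (hr | hr) | hr
  · exfalso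
    apply ha
    rw [pow_succ', ← hy, hr]
  · rw [hr] at hy
    refine ⟨_, scalar_swap hF (a := a) (b := c) (c := b) ?_ (by linear_combination habc) hy ha⟩
    rw [show ((X - C a) * (X - C c) * (X - C b) : F[X]) = (X - C a) * (X - C b) * (X - C c) by ring,
      ← hχ, h0]
  · rw [hr] at hy
    refine ⟨_, scalar_swap hF (a := a) (b := b) (c := c) ?_ habc hy ha⟩
    rw [← hχ, h0]

theorem aab_case (p : ℕ) [Fact p.Prime] [CharP F p] (hp : p ≠ 2) {T : End F V} {χ : F[X]}
    (h0 : aeval T χ = 0) (hc0 : χ.coeff 0 = -1) (a b : F)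
    (hχ : χ = (X - C a) * (X - C a) * (X - C b)) (ha : a ^ (q + 1) = 1) :
    ∃ k : F, T ^ (p * ((q + 1) / Nat.gcd 3 (q + 1))) = k • (1 : End F V) := by
  have habc : a * a * b = 1 := by
    rw [hχ, coeff_zero_eq_eval_zero] at hc0
    simp only [eval_mul, eval_sub, eval_X, eval_C, zero_sub] at hc0
    linear_combination -hc0
  exact ⟨_, scalar_aab p hp (by rw [← hχ, h0]) ha habc⟩

theorem u3_scalar (p : ℕ) [Fact p.Prime] [CharP F p] (hp : p ≠ 2) (hF : Fintype.card F = q ^ 2)
    [FiniteDimensional F V] (h3 : finrank F V = 3) {T : End F V} (hdet : LinearMap.det T = 1)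
    (hsym : T.charpoly.map (frobQ hF) = - T.charpoly.reverse) :
    (∃ c : F, T ^ (q + 1) = c • (1 : End F V)) ∨
    (∃ c : F, T ^ (p * ((q + 1) / Nat.gcd 3 (q + 1))) = c • (1 : End F V)) ∨
    (∃ c : F, T ^ ((q ^ 2 - 1) / Nat.gcd 3 (q + 1)) = c • (1 : End F V)) ∨
    (∃ c : F, T ^ ((q ^ 2 - q + 1) / Nat.gcd 3 (q + 1)) = c • (1 : End F V)) := by
  classical
  set χ := T.charpoly with hχdef
  have hmon : χ.Monic := LinearMap.charpoly_monic T
  have hdeg : χ.natDegree = 3 := by rw [hχdef, LinearMap.charpoly_natDegree, h3]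
  have h0 : aeval T χ = 0 := LinearMap.aeval_self_charpoly T
  have hc0 : χ.coeff 0 = -1 := by
    have := LinearMap.det_eq_sign_charpoly_coeff T
    rw [hdet, h3] at this
    linear_combination this
  by_cases hirr : Irreducible χ
  · exact Or.inr (Or.inr (Or.inr (scalar_irr hF h3 hdet hirr hsym)))
  rw [hmon.irreducible_iff_roots_eq_zero_of_degree_le_three (by omega) (by omega)] at hirr
  obtain ⟨l, hl⟩ := Multiset.exists_mem_of_ne_zero hirr
  obtain ⟨g, hg⟩ := dvd_iff_isRoot.2 (isRoot_of_mem_roots hl)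
  have hgmon : g.Monic := (monic_X_sub_C l).of_mul_monic_left (hg ▸ hmon)
  have hgdeg : g.natDegree = 2 := by
    have := congrArg natDegree hg
    rw [(monic_X_sub_C l).natDegree_mul hgmon, natDegree_X_sub_C, hdeg] at this
    omega
  by_cases hgirr : Irreducible g
  · exfalso
    have h1 : χ = - (χ.map (frobQ hF)).reverse := by
      have := congrArg (Polynomial.map (frobQ hF)) hsym
      rw [map_map_frobQ, Polynomial.map_neg, ← reverse_map_frobQ] at this
      exact this
    have h2 : χ.map (frobQ hF) = (X - C (frobQ hF l)) * g.map (frobQ hF) := by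
      rw [hg, Polynomial.map_mul, Polynomial.map_sub, map_X, map_C]
    rw [h2, reverse_mul_of_domain] at h1
    have h4 : g ∣ (X - C (frobQ hF l)).reverse * (g.map (frobQ hF)).reverse := by
      have : g ∣ χ := ⟨X - C l, by rw [hg]; ring⟩
      rw [h1] at this
      exact (dvd_neg).1 this
    rcases hgirr.prime.dvd_or_dvd h4 with h5 | h5
    · have h6 : (X - C (frobQ hF l)).reverse ≠ 0 := by
        rw [Ne, reverse_eq_zero]
        exact X_sub_C_ne_zero _
      have h7 := natDegree_le_of_dvd h5 h6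
      have h8 := reverse_natDegree_le (X - C (frobQ hF l))
      rw [natDegree_X_sub_C] at h8
      omega
    · obtain ⟨hodd, -⟩ := ft_of_dvd_reverse_map hF hgirr h5
      rw [hgdeg] at hodd
      exact absurd hodd (by decide)
  rw [hgmon.irreducible_iff_roots_eq_zero_of_degree_le_three (by omega) (by omega)] at hgirr
  obtain ⟨m, hm⟩ := Multiset.exists_mem_of_ne_zero hgirr
  obtain ⟨h, hh⟩ := dvd_iff_isRoot.2 (isRoot_of_mem_roots hm)
  have hhmon : h.Monic := (monic_X_sub_C m).of_mul_monic_left (hh ▸ hgmon)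
  have hhdeg : h.natDegree = 1 := by
    have := congrArg natDegree hh
    rw [(monic_X_sub_C m).natDegree_mul hhmon, natDegree_X_sub_C, hgdeg] at this
    omega
  obtain ⟨n, hn⟩ : ∃ n : F, h = X - C n := ⟨- h.coeff 0, by
    rw [C_neg, sub_neg_eq_add]
    exact hhmon.eq_X_add_C hhdeg⟩
  have hχ : χ = (X - C l) * (X - C m) * (X - C n) := by rw [hg, hh, hn]; ring
  by_cases h1 : l ^ (q + 1) = 1
  swap
  · exact Or.inr (Or.inr (Or.inl (swap_case hF h0 hc0 hsym l m n hχ h1)))
  by_cases h2 : m ^ (q + 1) = 1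
  swap
  · exact Or.inr (Or.inr (Or.inl (swap_case hF h0 hc0 hsym m l n (by rw [hχ]; ring) h2)))
  by_cases h4 : n ^ (q + 1) = 1
  swap
  · exact Or.inr (Or.inr (Or.inl (swap_case hF h0 hc0 hsym n l m (by rw [hχ]; ring) h4)))
  by_cases hlm : l = m
  · exact Or.inr (Or.inl (aab_case p hp h0 hc0 l n (by rw [hχ, ← hlm]) h1))
  by_cases hln : l = n
  · exact Or.inr (Or.inl (aab_case p hp h0 hc0 l m (by rw [hχ, ← hln]; ring) h1))
  by_cases hmn : m = n
  · exact Or.inr (Or.inl (aab_case p hp h0 hc0 m l (by rw [hχ, ← hmn]; ring) h2))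
  exact Or.inl ⟨1, pow_eq_smul_three hlm hln hmn (by rw [← hχ, h0]) h1 h2 h4⟩

end Cfsg.Agent.Lib.Helper48
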