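import Mathlib
import Cfsg.Agent.Lib.Helper48.USU
import Cfsg.Agent.Lib.Helper48.GLOrders
import Cfsg.Agent.Lib.Helper48.SpecProd

set_option autoImplicit false
set_option linter.unusedSectionVars false
set_option linter.style.haveILetI false

namespace Cfsg.Agent.Lib.Helper48

open Module Polynomial Cfsg.Agent.Lib.Helper17

variable {F : Type*} [Field F] [Fintype F] {q : ℕ}

theorem pow_q_pow_odd (hF : Fintype.card F = q ^ 2) {e : ℕ} (he : Odd e) (c : F) :
    c ^ (q ^ e) = c ^ q := by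
  obtain ⟨m, rfl⟩ := he
  rw [pow_succ, pow_mul c, pow_mul q, ← hF, FiniteField.pow_card_pow]

/-- `w (q+1) = q^e + 1` and `w ∣ 1 + q^2 + ... + q^(2(e-1))` -/
theorem torus_arith (q e : ℕ) (hq : 2 ≤ q) (he : Odd e) :
    (q ^ e + 1) / (q + 1) * (q + 1) = q ^ e + 1 ∧
      (q ^ e + 1) / (q + 1) ∣ ∑ i ∈ Finset.range e, (q ^ 2) ^ i := by
  have h1 : q + 1 ∣ q ^ e + 1 := by simpa using he.nat_add_dvd_pow_add_pow q 1
  have h2 : (q ^ e + 1) / (q + 1) * (q + 1) = q ^ e + 1 := Nat.div_mul_cancel h1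
  refine ⟨h2, ?_⟩
  set w := (q ^ e + 1) / (q + 1) with hw
  set G := ∑ i ∈ Finset.range e, (q ^ 2) ^ i with hG
  set G' := ∑ i ∈ Finset.range e, q ^ i with hG'
  have h3 : (G : ℤ) * ((q : ℤ) ^ 2 - 1) = ((q : ℤ) ^ 2) ^ e - 1 := by
    rw [hG]
    push_cast
    exact geom_sum_mul _ _
  have h4 : (G' : ℤ) * ((q : ℤ) - 1) = (q : ℤ) ^ e - 1 := by
    rw [hG']
    push_cast
    exact geom_sum_mul _ _
  have h5 : (w : ℤ) * ((q : ℤ) + 1) = (q : ℤ) ^ e + 1 := by exact_mod_cast h2
  refine ⟨G', ?_⟩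
  have h6 : ((q : ℤ) ^ 2 - 1) ≠ 0 := by
    have : (2 : ℤ) ≤ q := by exact_mod_cast hq
    nlinarith
  have h7 : (G : ℤ) = w * G' := by
    apply mul_right_cancel₀ h6
    rw [h3]
    have : (w : ℤ) * G' * ((q : ℤ) ^ 2 - 1) = ((w : ℤ) * ((q : ℤ) + 1)) * ((G' : ℤ) * ((q : ℤ) - 1)) := by
      ring
    rw [this, h4, h5]
    ring
  exact_mod_cast h7

theorem exists_herm_torus (hF : Fintype.card F = q ^ 2) (K : Type*) [Field K] [Finite K]
    [Algebra F K] (e : ℕ) (he : Odd e) (hK : finrank F K = e) :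
    ∃ (B : K →ₛₗ[frobQ hF] K →ₗ[F] F) (T : End F K), B.IsSymm ∧ B.Nondegenerate ∧
      (∀ x y, B (T x) (T y) = B x y) ∧ LinearMap.det T = 1 ∧
      ∀ j, T ^ j = 1 ↔ (q ^ e + 1) / (q + 1) ∣ j := by
  classical
  have hq2 : 2 ≤ q := two_le_of_card_sq hF
  haveI : Fintype K := Fintype.ofFinite K
  obtain ⟨p, k, hp, hch, hqp⟩ := exists_char_pow hF
  haveI : Fact p.Prime := ⟨hp⟩
  haveI : CharP K p := charP_of_injective_algebraMap (algebraMap F K).injective p
  have hcard : Fintype.card K = q ^ e * q ^ e := by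
    rw [Module.card_eq_pow_finrank (K := F), hK, hF, ← pow_mul, ← pow_add]
    congr 1
    ring
  let φ : K →+* K := iterateFrobenius K p (k * e)
  have hφa : ∀ y, φ y = y ^ (q ^ e) := by
    intro y
    change iterateFrobenius K p (k * e) y = _
    rw [iterateFrobenius_def, hqp, ← pow_mul]
  have hφφ : ∀ y, φ (φ y) = y := by
    intro y
    rw [hφa, hφa, ← pow_mul, ← hcard, FiniteField.pow_card]
  have hφF : ∀ c : F, φ (algebraMap F K c) = algebraMap F K (c ^ q) := by
    intro c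
    rw [hφa, ← map_pow, pow_q_pow_odd hF he]
  have htr : ∀ z, Algebra.trace F K (φ z) = (Algebra.trace F K z) ^ q := by
    intro z
    apply (algebraMap F K).injective
    rw [← hφF, FiniteField.algebraMap_trace_eq_sum_pow, FiniteField.algebraMap_trace_eq_sum_pow,
      map_sum]
    apply Finset.sum_congr rfl
    intro i _
    rw [map_pow]
  let B : K →ₛₗ[frobQ hF] K →ₗ[F] F := LinearMap.mk₂'ₛₗ (frobQ hF) (RingHom.id F)
    (fun x y => Algebra.trace F K (φ x * y))
    (fun x x' y => by rw [map_add, add_mul, map_add])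
    (fun c x y => by
      rw [Algebra.smul_def, map_mul φ, hφF, mul_assoc, ← Algebra.smul_def, map_smul, frobQ_apply])
    (fun x y y' => by rw [mul_add, map_add])
    (fun c x y => by rw [mul_smul_comm, map_smul, RingHom.id_apply])
  have hB : ∀ x y, B x y = Algebra.trace F K (φ x * y) := fun x y => rfl
  obtain ⟨hw1, hw2⟩ := torus_arith q e hq2 he
  set w := (q ^ e + 1) / (q + 1) with hw
  obtain ⟨σ₀, hσ₀⟩ := exists_units_orderOf_eq K
  have hwdvd : w ∣ orderOf σ₀ := by
    rw [hσ₀, Nat.card_eq_fintype_card, hcard]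
    have h1 : 1 ≤ q ^ e := Nat.one_le_pow _ _ (by omega)
    have : q ^ e * q ^ e - 1 = (q ^ e + 1) * (q ^ e - 1) := by
      obtain ⟨c, hc⟩ := Nat.exists_eq_add_of_le h1
      rw [hc]
      simp only [Nat.add_sub_cancel_left]
      have : (1 + c) * (1 + c) = (1 + c + 1) * c + 1 := by ring
      omega
    rw [this, ← hw1, mul_assoc]
    exact Dvd.intro _ rfl
  obtain ⟨σ, hσo⟩ := exists_orderOf_eq_of_dvd σ₀ hwdvd
  have hσφ : φ (σ : K) * (σ : K) = 1 := by
    rw [hφa, ← pow_succ, ← hw1, ← hσo, pow_mul, ← Units.val_pow_eq_pow_val, pow_orderOf_eq_one,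
      Units.val_one, one_pow]
  refine ⟨B, LinearMap.mulLeft F (σ : K), ⟨?_⟩, ⟨?_, ?_⟩, ?_, ?_, ?_⟩
  · intro x y
    rw [hB, hB, frobQ_apply, ← htr, map_mul, hφφ, mul_comm]
  · intro x hx
    have h3 : φ x = 0 := by
      apply (traceForm_nondegenerate F K).1
      intro y
      rw [Algebra.traceForm_apply]
      exact hx y
    rw [← hφφ x, h3, map_zero]
  · intro y hy
    apply (traceForm_nondegenerate F K).1
    intro z
    rw [Algebra.traceForm_apply, mul_comm]
    have := hy (φ z)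
    rwa [hB, hφφ] at this
  · intro x y
    rw [hB, hB, LinearMap.mulLeft_apply, LinearMap.mulLeft_apply, map_mul φ]
    congr 1
    linear_combination (φ x * y) * hσφ
  · have h1 : LinearMap.det (LinearMap.mulLeft F (σ : K)) = Algebra.norm F (σ : K) := rfl
    rw [h1]
    apply (algebraMap F K).injective
    rw [FiniteField.algebraMap_norm_eq_pow_sum, hK, Nat.card_eq_fintype_card, hF, map_one]
    obtain ⟨c, hc⟩ := hw2
    rw [hc, ← hσo, pow_mul, ← Units.val_pow_eq_pow_val, pow_orderOf_eq_one, Units.val_one, one_pow]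
  · intro j
    rw [← hσo, orderOf_dvd_iff_pow_eq_one, LinearMap.pow_mulLeft]
    constructor
    · intro h
      have := congrArg (fun f : End F K => f 1) h
      simp only [LinearMap.mulLeft_apply, mul_one, Module.End.one_apply] at this
      exact Units.ext (by rw [Units.val_pow_eq_pow_val, this, Units.val_one])
    · intro h
      rw [← Units.val_pow_eq_pow_val, h, Units.val_one]
      apply LinearMap.ext
      intro y
      simp

/-- the cyclic torus of order `(q^e+1)/(q+1)` of `SU_e(q)`, `e` odd -/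
theorem exists_su_torus_odd (hF : Fintype.card F = q ^ 2) (e : ℕ) (he : Odd e) :
    ∃ x : ↥(Cfsg.SU e F q), orderOf x = (q ^ e + 1) / (q + 1) := by
  obtain ⟨p, hp⟩ := CharP.exists F
  have : Fact p.Prime := ⟨CharP.char_is_prime F p⟩
  have : NeZero e := ⟨by rcases he with ⟨m, rfl⟩; omega⟩
  obtain ⟨B, T, hS, hnd, hT, hdet, hord⟩ := exists_herm_torus hF (FiniteField.Extension F p e) e he
    (FiniteField.finrank_extension F p e)
  obtain ⟨x, hx, -⟩ := exists_su_orderOf_of_herm hF B hS hnd (FiniteField.finrank_extension F p e) T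
    hT hdet
  refine ⟨x, ?_⟩
  have key : ∀ j, orderOf x ∣ j ↔ (q ^ e + 1) / (q + 1) ∣ j := by
    intro j
    rw [orderOf_dvd_iff_pow_eq_one, hx, hord]
  exact Nat.dvd_antisymm ((key _).2 dvd_rfl) ((key _).1 dvd_rfl)

end Cfsg.Agent.Lib.Helper48
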