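import Mathlib
import Cfsg.Agent.Lib.Helper48.UTorus

set_option autoImplicit false
set_option linter.unusedSectionVars false
set_option linter.style.haveILetI false

namespace Cfsg.Agent.Lib.Helper48

open Module Polynomial Cfsg.Agent.Lib.Helper17

variable {F : Type*} [Field F] [Fintype F] {q : ℕ}

theorem pow_apply_eigen {V : Type*} [AddCommGroup V] [Module F V] {T : End F V} {v : V} {a : F}
    (h : T v = a • v) (j : ℕ) : (T ^ j) v = a ^ j • v := by
  induction j with
  | zero => simp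
  | succ k ih => rw [pow_succ', Module.End.mul_apply, ih, map_smul, h, smul_smul, pow_succ]

theorem toLin3_apply (M : Matrix (Fin 3) (Fin 3) F) (x : Fin 3 → F) (i : Fin 3) :
    Matrix.toLin' M x i = M i 0 * x 0 + M i 1 * x 1 + M i 2 * x 2 := by
  simp [Matrix.toLin'_apply, Matrix.mulVec, dotProduct, Fin.sum_univ_three]

/-- the hermitian form `x₀ȳ₁ + x₁ȳ₀ + x₂ȳ₂` -/
noncomputable def hypB3 (hF : Fintype.card F = q ^ 2) :
    (Fin 3 → F) →ₛₗ[frobQ hF] (Fin 3 → F) →ₗ[F] F :=
  (hermB hF 3).comp (LinearEquiv.funCongrLeft F F (Equiv.swap (0 : Fin 3) 1)).toLinearMap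

theorem hypB3_apply (hF : Fintype.card F = q ^ 2) (x y : Fin 3 → F) :
    hypB3 hF x y = y 0 * x 1 ^ q + y 1 * x 0 ^ q + y 2 * x 2 ^ q := by
  have h2 : Equiv.swap (0 : Fin 3) 1 2 = 2 := by decide
  simp [hypB3, hermB_apply, Cfsg.hermForm, Fin.sum_univ_three, LinearEquiv.funCongrLeft_apply,
    LinearMap.funLeft_apply, h2]

theorem hypB3_isSymm (hF : Fintype.card F = q ^ 2) : (hypB3 hF).IsSymm := by
  refine ⟨fun x y => ?_⟩
  rw [hypB3_apply, hypB3_apply, frobQ_apply, add_pow_q hF, add_pow_q hF, mul_pow, mul_pow, mul_pow,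
    pow_q_pow_q hF, pow_q_pow_q hF, pow_q_pow_q hF]
  ring

theorem hypB3_nondegenerate (hF : Fintype.card F = q ^ 2) : (hypB3 hF).Nondegenerate := by
  have hq2 : 2 ≤ q := two_le_of_card_sq hF
  have hq0 : q ≠ 0 := by omega
  constructor
  · intro x hx
    have h0 := hx (Pi.single 0 1)
    have h1 := hx (Pi.single 1 1)
    have h2 := hx (Pi.single 2 1)
    rw [hypB3_apply] at h0 h1 h2
    simp at h0 h1 h2
    funext i
    fin_cases i
    · exact h1.1
    · exact h0.1
    · exact h2.1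
  · intro y hy
    have h0 := hy (Pi.single 0 1)
    have h1 := hy (Pi.single 1 1)
    have h2 := hy (Pi.single 2 1)
    rw [hypB3_apply] at h0 h1 h2
    simp [hq0] at h0 h1 h2
    funext i
    fin_cases i
    · exact h1
    · exact h0
    · exact h2

theorem finrank_fin3 : finrank F (Fin 3 → F) = 3 := by simp

theorem exists_su3_diag (hF : Fintype.card F = q ^ 2) (a b c : F) (h1 : a * b ^ q = 1)
    (h3 : c * c ^ q = 1) (hdet : a * b * c = 1) :
    ∃ x : ↥(Cfsg.SU 3 F q), ∀ j, x ^ j = 1 → a ^ j = 1 := by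
  have h2 : b * a ^ q = 1 := by
    have := congrArg (fun t => t ^ q) h1
    simp only [mul_pow, pow_q_pow_q hF, one_pow] at this
    rw [mul_comm]
    exact this
  set T : End F (Fin 3 → F) := Matrix.toLin' (Matrix.diagonal ![a, b, c]) with hT
  have hTa : ∀ x i, T x i = ![a, b, c] i * x i := by
    intro x i
    rw [hT, Matrix.toLin'_apply, Matrix.mulVec_diagonal]
  obtain ⟨x, hx, -⟩ := exists_su_orderOf_of_herm hF (hypB3 hF) (hypB3_isSymm hF)
    (hypB3_nondegenerate hF) finrank_fin3 T (by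
      intro x y
      rw [hypB3_apply, hypB3_apply, hTa, hTa, hTa, hTa, hTa, hTa]
      simp only [Matrix.cons_val_zero, Matrix.cons_val_one, Matrix.cons_val, mul_pow]
      linear_combination (y 0 * x 1 ^ q) * h1 + (y 1 * x 0 ^ q) * h2 + (y 2 * x 2 ^ q) * h3) (by
      rw [hT, LinearMap.det_toLin', Matrix.det_diagonal, Fin.prod_univ_three]
      simpa using hdet)
  refine ⟨x, fun j hj => ?_⟩
  have h4 := (hx j).1 hj
  have h5 : T (Pi.single 0 1) = a • (Pi.single 0 1 : Fin 3 → F) := by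
    funext i
    rw [hTa]
    fin_cases i <;> simp
  have h6 := pow_apply_eigen h5 j
  rw [h4] at h6
  have h7 := congrFun h6 0
  simpa using h7.symm

theorem exists_su3_unip (p : ℕ) [Fact p.Prime] [CharP F p] (hF : Fintype.card F = q ^ 2)
    (a c k : F) (ha : a * a ^ q = 1) (hk : k * k ^ q = 1) (hc : c ^ q = -c) (hc0 : c ≠ 0)
    (hdet : a * a * k = 1) :
    ∃ x : ↥(Cfsg.SU 3 F q), ∀ j, x ^ j = 1 → a ^ j = 1 ∧ p ∣ j := by
  have ha0 : a ≠ 0 := by
    rintro rfl
    simp at hdet
  set T : End F (Fin 3 → F) := Matrix.toLin' !![a, a * c, 0; 0, a, 0; 0, 0, k] with hT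
  have hT0 : ∀ x, T x 0 = a * x 0 + a * c * x 1 := by
    intro x
    rw [hT, toLin3_apply]
    simp
  have hT1 : ∀ x, T x 1 = a * x 1 := by
    intro x
    rw [hT, toLin3_apply]
    simp
  have hT2 : ∀ x, T x 2 = k * x 2 := by
    intro x
    rw [hT, toLin3_apply]
    simp
  obtain ⟨x, hx, -⟩ := exists_su_orderOf_of_herm hF (hypB3 hF) (hypB3_isSymm hF)
    (hypB3_nondegenerate hF) finrank_fin3 T (by
      intro x y
      rw [hypB3_apply, hypB3_apply, hT0, hT0, hT1, hT1, hT2, hT2, add_pow_q hF]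
      simp only [mul_pow, hc]
      linear_combination (y 0 * x 1 ^ q + y 1 * x 0 ^ q) * ha + (y 2 * x 2 ^ q) * hk) (by
      rw [hT, LinearMap.det_toLin', Matrix.det_fin_three]
      simp
      linear_combination hdet)
  refine ⟨x, fun j hj => ?_⟩
  have h4 := (hx j).1 hj
  have h5 : T (Pi.single 0 1) = a • (Pi.single 0 1 : Fin 3 → F) := by
    funext i
    fin_cases i
    · simp [hT0]
    · simp [hT1]
    · simp [hT2]
  have h6 := pow_apply_eigen h5 j
  rw [h4] at h6
  have h7 := congrFun h6 0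
  have haj : a ^ j = 1 := by simpa using h7.symm
  refine ⟨haj, ?_⟩
  have h8 : ∀ m : ℕ, (T ^ m) (Pi.single 1 1) =
      a ^ m • (Pi.single 1 1 : Fin 3 → F) + ((m : F) * a ^ m * c) • (Pi.single 0 1 : Fin 3 → F) := by
    intro m
    induction m with
    | zero => simp
    | succ r ih =>
      rw [pow_succ', Module.End.mul_apply, ih]
      funext i
      fin_cases i
      · simp [hT0]
        ring
      · simp [hT1]
        ring
      · simp [hT2]
  have h9 := congrFun (h8 j) 0
  rw [h4] at h9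
  simp [haj, hc0] at h9
  exact (CharP.cast_eq_zero_iff F p j).1 h9

end Cfsg.Agent.Lib.Helper48
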