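import Mathlib
import Cfsg.Agent.Lib.Helper48.U3Exist
import Cfsg.Agent.Lib.Helper48.U3Class

set_option autoImplicit false
set_option linter.unusedSectionVars false
set_option linter.style.haveILetI false

namespace Cfsg.Agent.Lib.Helper48

open Module Polynomial Cfsg.Agent.Lib.Helper17

universe u

variable {F : Type u} [Field F] [Fintype F] {q : ℕ}

theorem dvd_orderOf_mk_su (hF : Fintype.card F = q ^ 2) {n : ℕ} (hn : 1 ≤ n)
    (x : ↥(Cfsg.SU n F q)) {M : ℕ} (hM : M ∣ orderOf x) (hd : Nat.gcd n (q + 1) ∣ M) :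
    M / Nat.gcd n (q + 1) ∣ orderOf (QuotientGroup.mk x : Cfsg.PSU n F q) := by
  have h1 := hM.trans (orderOf_su_dvd hF hn x)
  have hpos : 0 < Nat.gcd n (q + 1) := Nat.gcd_pos_of_pos_left _ (by omega)
  apply Nat.dvd_of_mul_dvd_mul_right hpos
  rwa [Nat.div_mul_cancel hd]

theorem sq_sub_one_fac (q : ℕ) (hq : 1 ≤ q) : q ^ 2 - 1 = (q + 1) * (q - 1) := by
  obtain ⟨r, rfl⟩ : ∃ r, q = r + 1 := ⟨q - 1, by omega⟩
  simp only [Nat.add_sub_cancel]
  have : (r + 1) ^ 2 = (r + 1 + 1) * r + 1 := by ring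
  omega

theorem exists_gen (hF : Fintype.card F = q ^ 2) : ∃ g : Fˣ, orderOf g = q ^ 2 - 1 := by
  obtain ⟨g, hg⟩ := exists_units_orderOf_eq F
  exact ⟨g, by rw [hg, Nat.card_eq_fintype_card, hF]⟩

theorem exists_norm_one_gen (hF : Fintype.card F = q ^ 2) : ∃ z : Fˣ, orderOf z = q + 1 := by
  obtain ⟨g, hg⟩ := exists_gen hF
  have hq2 : 2 ≤ q := two_le_of_card_sq hF
  exact exists_orderOf_eq_of_dvd g (by rw [hg, sq_sub_one_fac q (by omega)]; exact Dvd.intro _ rfl)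

theorem exists_skew (hF : Fintype.card F = q ^ 2) : ∃ c : F, c ^ q = -c ∧ c ≠ 0 := by
  by_contra hcon
  push Not at hcon
  apply frobQ_ne_id hF
  ext t
  have h1 : (t - t ^ q) ^ q = -(t - t ^ q) := by
    rw [sub_pow_q hF, pow_q_pow_q hF]
    ring
  have h2 := hcon _ h1
  rw [frobQ_apply, RingHom.id_apply]
  exact (sub_eq_zero.1 h2).symm

theorem exists_psu3_one (hF : Fintype.card F = q ^ 2) :
    ∃ y : Cfsg.PSU 3 F q, q + 1 ∣ orderOf y := by
  obtain ⟨z, hz⟩ := exists_norm_one_gen hF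
  have h1 : (z : F) * (z : F) ^ q = 1 := by
    rw [← pow_succ', ← hz, ← Units.val_pow_eq_pow_val, pow_orderOf_eq_one, Units.val_one]
  have h2 : ((z : F))⁻¹ * ((z : F)⁻¹) ^ q = 1 := by
    rw [inv_pow, ← mul_inv, h1, inv_one]
  set T : End F (Fin 3 → F) := Matrix.toLin' (Matrix.diagonal ![(z : F), (z : F)⁻¹, 1]) with hT
  have hTa : ∀ x i, T x i = ![(z : F), (z : F)⁻¹, 1] i * x i := by
    intro x i
    rw [hT, Matrix.toLin'_apply, Matrix.mulVec_diagonal]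
  obtain ⟨x, hx⟩ := exists_su_of_op (q := q) T (by
      rw [hT, LinearMap.det_toLin', Matrix.det_diagonal, Fin.prod_univ_three]
      simp) (by
      intro u v
      simp only [Cfsg.hermForm, Fin.sum_univ_three, hTa]
      simp only [Matrix.cons_val_zero, Matrix.cons_val_one, Matrix.cons_val, mul_pow, one_pow,
        one_mul]
      linear_combination (u 0 * v 0 ^ q) * h1 + (u 1 * v 1 ^ q) * h2)
  refine ⟨QuotientGroup.mk x, ?_⟩
  obtain ⟨c, hc⟩ := ((pord_mk_su hF x) _).2 dvd_rfl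
  rw [hx] at hc
  set j := orderOf (QuotientGroup.mk x : Cfsg.PSU 3 F q) with hj
  have h5 : T (Pi.single 0 1) = (z : F) • (Pi.single 0 1 : Fin 3 → F) := by
    funext i
    rw [hTa]
    fin_cases i <;> simp
  have h6 : T (Pi.single 2 1) = (1 : F) • (Pi.single 2 1 : Fin 3 → F) := by
    funext i
    rw [hTa]
    fin_cases i <;> simp
  have h7 := congrFun (pow_apply_eigen h5 j) 0
  have h8 := congrFun (pow_apply_eigen h6 j) 2
  rw [hc] at h7 h8
  simp at h7 h8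
  rw [← hz]
  apply orderOf_dvd_of_pow_eq_one
  apply Units.ext
  rw [Units.val_pow_eq_pow_val, ← h7, h8, Units.val_one]

theorem exists_psu3_two (p : ℕ) [Fact p.Prime] [CharP F p] (hF : Fintype.card F = q ^ 2) :
    ∃ y : Cfsg.PSU 3 F q, p * (q + 1) / Nat.gcd 3 (q + 1) ∣ orderOf y := by
  obtain ⟨z, hz⟩ := exists_norm_one_gen hF
  obtain ⟨c, hc, hc0⟩ := exists_skew hF
  have h1 : (z : F) * (z : F) ^ q = 1 := by
    rw [← pow_succ', ← hz, ← Units.val_pow_eq_pow_val, pow_orderOf_eq_one, Units.val_one]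
  have h2 : ((z : F) * (z : F))⁻¹ * (((z : F) * (z : F))⁻¹) ^ q = 1 := by
    rw [inv_pow, ← mul_inv, mul_pow, show (z : F) * (z : F) * ((z : F) ^ q * (z : F) ^ q) =
      ((z : F) * (z : F) ^ q) * ((z : F) * (z : F) ^ q) by ring, h1, one_mul, inv_one]
  obtain ⟨x, hx⟩ := exists_su3_unip p hF (z : F) c (((z : F) * (z : F))⁻¹) h1 h2 hc hc0
    (mul_inv_cancel₀ (mul_ne_zero z.ne_zero z.ne_zero))
  refine ⟨QuotientGroup.mk x, dvd_orderOf_mk_su hF (by omega) x ?_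
    (Dvd.dvd.mul_left (Nat.gcd_dvd_right 3 (q + 1)) p)⟩
  obtain ⟨h3, h4⟩ := hx _ (pow_orderOf_eq_one x)
  have h5 : q + 1 ∣ orderOf x := by
    rw [← hz]
    apply orderOf_dvd_of_pow_eq_one
    apply Units.ext
    rw [Units.val_pow_eq_pow_val, h3, Units.val_one]
  have hpq : p ∣ q := by
    have h6 : p ∣ q ^ 2 := hF ▸ char_dvd_card p
    exact (Fact.out : p.Prime).dvd_of_dvd_pow h6
  have hcop : Nat.Coprime p (q + 1) := by
    rw [(Fact.out : p.Prime).coprime_iff_not_dvd]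
    intro h
    have := (Nat.dvd_add_right hpq).1 h
    exact (Fact.out : p.Prime).one_lt.ne' (Nat.dvd_one.1 this)
  exact hcop.mul_dvd_of_dvd_of_dvd h4 h5

theorem exists_psu3_three (hF : Fintype.card F = q ^ 2) :
    ∃ y : Cfsg.PSU 3 F q, (q ^ 2 - 1) / Nat.gcd 3 (q + 1) ∣ orderOf y := by
  have hq2 : 2 ≤ q := two_le_of_card_sq hF
  obtain ⟨g, hg⟩ := exists_gen hF
  have hQ : (g : F) ^ (q ^ 2 - 1) = 1 := by
    rw [← hg, ← Units.val_pow_eq_pow_val, pow_orderOf_eq_one, Units.val_one]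
  have hg0 : (g : F) ≠ 0 := g.ne_zero
  have h1 : (g : F) * (((g : F) ^ q)⁻¹) ^ q = 1 := by
    rw [inv_pow, pow_q_pow_q hF, mul_inv_cancel₀ hg0]
  have h3 : (g : F) ^ (q - 1) * ((g : F) ^ (q - 1)) ^ q = 1 := by
    rw [← pow_succ', ← pow_mul, mul_comm, ← sq_sub_one_fac q (by omega), hQ]
  have hdet : (g : F) * ((g : F) ^ q)⁻¹ * (g : F) ^ (q - 1) = 1 := by
    have : (g : F) * (g : F) ^ (q - 1) = (g : F) ^ q := by
      rw [← pow_succ']
      congr 1
      omega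
    rw [mul_right_comm, this, mul_inv_cancel₀ (pow_ne_zero _ hg0)]
  obtain ⟨x, hx⟩ := exists_su3_diag hF (g : F) (((g : F) ^ q)⁻¹) ((g : F) ^ (q - 1)) h1 h3 hdet
  refine ⟨QuotientGroup.mk x, dvd_orderOf_mk_su hF (by omega) x ?_ ?_⟩
  · rw [← hg]
    apply orderOf_dvd_of_pow_eq_one
    apply Units.ext
    rw [Units.val_pow_eq_pow_val, hx _ (pow_orderOf_eq_one x), Units.val_one]
  · rw [sq_sub_one_fac q (by omega)]
    exact Dvd.dvd.mul_right (Nat.gcd_dvd_right 3 (q + 1)) _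

theorem exists_psu3_four (hF : Fintype.card F = q ^ 2) :
    ∃ y : Cfsg.PSU 3 F q, (q ^ 2 - q + 1) / Nat.gcd 3 (q + 1) ∣ orderOf y := by
  have hq2 : 2 ≤ q := two_le_of_card_sq hF
  obtain ⟨x, hx⟩ := exists_su_torus_odd hF 3 (by decide)
  have h1 : (q ^ 3 + 1) / (q + 1) = q ^ 2 - q + 1 := by
    apply Nat.div_eq_of_eq_mul_right (by omega)
    have hle : q ≤ q ^ 2 := by nlinarith
    zify [hle]
    ring
  rw [h1] at hx
  exact ⟨QuotientGroup.mk x, dvd_orderOf_mk_su hF (by omega) x (by rw [hx]) (gcd3_dvd_w q hq2)⟩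

theorem psu3_upper (p : ℕ) [Fact p.Prime] [CharP F p] (hp : p ≠ 2) (hF : Fintype.card F = q ^ 2)
    (y : Cfsg.PSU 3 F q) :
    orderOf y ∣ q + 1 ∨ orderOf y ∣ p * (q + 1) / Nat.gcd 3 (q + 1) ∨
      orderOf y ∣ (q ^ 2 - 1) / Nat.gcd 3 (q + 1) ∨
      orderOf y ∣ (q ^ 2 - q + 1) / Nat.gcd 3 (q + 1) := by
  obtain ⟨x, hx⟩ := exists_pord_of_PSU hF y
  have hsym : (opSU x).charpoly.map (frobQ hF) = - (opSU x).charpoly.reverse := by
    rw [charpoly_opSU hF x]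
    ring
  rw [Nat.mul_div_assoc p (Nat.gcd_dvd_right 3 (q + 1))]
  rcases u3_scalar p hp hF finrank_fin3 (det_opSU x) hsym with h | h | h | h
  · exact Or.inl ((hx _).1 h)
  · exact Or.inr (Or.inl ((hx _).1 h))
  · exact Or.inr (Or.inr (Or.inl ((hx _).1 h)))
  · exact Or.inr (Or.inr (Or.inr ((hx _).1 h)))

end Cfsg.Agent.Lib.Helper48
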