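import Mathlib
import Cfsg.Agent.Lib.Helper48.UPoly

set_option autoImplicit false
set_option linter.unusedSectionVars false
set_option linter.style.haveILetI false

namespace Cfsg.Agent.Lib.Helper48

open Module Polynomial Cfsg.Agent.Lib.Helper17

variable {F : Type*} [Field F] [Fintype F] {q : ℕ}

/-- the conjugate reciprocal polynomial -/
noncomputable def dag (hF : Fintype.card F = q ^ 2) (P : F[X]) : F[X] := (P.map (frobQ hF)).reverse

theorem dag_mul (hF : Fintype.card F = q ^ 2) (P R : F[X]) :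
    dag hF (P * R) = dag hF P * dag hF R := by
  rw [dag, dag, dag, Polynomial.map_mul, reverse_mul_of_domain]

theorem dag_one (hF : Fintype.card F = q ^ 2) : dag hF (1 : F[X]) = 1 := by
  rw [dag, Polynomial.map_one, ← C_1, reverse_C]

theorem dag_pow (hF : Fintype.card F = q ^ 2) (P : F[X]) (k : ℕ) :
    dag hF (P ^ k) = dag hF P ^ k := by
  induction k with
  | zero => rw [pow_zero, pow_zero, dag_one]
  | succ j ih => rw [pow_succ, pow_succ, dag_mul, ih]

theorem dag_dvd (hF : Fintype.card F = q ^ 2) {P R : F[X]} (h : P ∣ R) : dag hF P ∣ dag hF R := by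
  obtain ⟨S, rfl⟩ := h
  rw [dag_mul]
  exact Dvd.intro _ rfl

theorem reverse_reverse' {P : F[X]} (h : P.coeff 0 ≠ 0) : P.reverse.reverse = P := by
  have h1 : P.reverse.natDegree = P.natDegree := by
    rw [reverse_natDegree, natTrailingDegree_eq_zero.2 (Or.inr h), Nat.sub_zero]
  rw [reverse, h1, reverse]
  ext i
  rw [coeff_reflect, coeff_reflect, revAt_invol]

theorem dag_dag (hF : Fintype.card F = q ^ 2) {P : F[X]} (h : P.coeff 0 ≠ 0) :
    dag hF (dag hF P) = P := by
  rw [dag, dag, ← reverse_map_frobQ, map_map_frobQ, reverse_reverse' h]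

theorem natDegree_dag (hF : Fintype.card F = q ^ 2) {P : F[X]} (h : P.coeff 0 ≠ 0) :
    (dag hF P).natDegree = P.natDegree := by
  have h1 : (P.map (frobQ hF)).coeff 0 ≠ 0 := by
    rw [coeff_map]
    exact (_root_.map_ne_zero _).2 h
  rw [dag, reverse_natDegree, natTrailingDegree_eq_zero.2 (Or.inr h1), Nat.sub_zero, natDegree_map]

theorem natDegree_dag_le (hF : Fintype.card F = q ^ 2) (P : F[X]) :
    (dag hF P).natDegree ≤ P.natDegree := by
  rw [dag]
  exact (reverse_natDegree_le _).trans_eq (natDegree_map _)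

theorem dag_ne_zero (hF : Fintype.card F = q ^ 2) {P : F[X]} (h : P ≠ 0) : dag hF P ≠ 0 := by
  rw [dag, Ne, reverse_eq_zero, Polynomial.map_eq_zero]
  exact h

theorem coeff_zero_dag (hF : Fintype.card F = q ^ 2) (P : F[X]) :
    (dag hF P).coeff 0 = P.leadingCoeff ^ q := by
  rw [dag, coeff_zero_reverse, leadingCoeff_map, frobQ_apply]

theorem leadingCoeff_dag (hF : Fintype.card F = q ^ 2) {P : F[X]} (h : P.coeff 0 ≠ 0) :
    (dag hF P).leadingCoeff = P.coeff 0 ^ q := by
  have h1 : (P.map (frobQ hF)).coeff 0 ≠ 0 := by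
    rw [coeff_map]
    exact (_root_.map_ne_zero _).2 h
  rw [dag, reverse_leadingCoeff, trailingCoeff, natTrailingDegree_eq_zero.2 (Or.inr h1), coeff_map,
    frobQ_apply]

/-- `(X^j - c)† = -c^q (X^j - c^(-q))` -/
theorem dag_X_pow_sub_C (hF : Fintype.card F = q ^ 2) {j : ℕ} (hj : 1 ≤ j) {c : F} (hc : c ≠ 0) :
    dag hF (X ^ j - C c) = C (-(c ^ q)) * (X ^ j - C ((c ^ q)⁻¹)) := by
  have h1 : ((X ^ j - C c : F[X]).map (frobQ hF)) = X ^ j - C (c ^ q) := by
    rw [Polynomial.map_sub, Polynomial.map_pow, map_X, map_C, frobQ_apply]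
  rw [dag, h1, reverse, natDegree_X_pow_sub_C, reflect_sub, reflect_monomial, reflect_C,
    revAt_le le_rfl, Nat.sub_self, pow_zero, mul_sub, ← C_mul, neg_mul,
    mul_inv_cancel₀ (pow_ne_zero _ hc)]
  simp only [C_neg, map_one]
  ring

theorem dag_dvd_X_pow_sub_C (hF : Fintype.card F = q ^ 2) {P : F[X]} {j : ℕ} (hj : 1 ≤ j) {c : F}
    (hc : c ^ (q + 1) = 1) (h : P ∣ X ^ j - C c) : dag hF P ∣ X ^ j - C c := by
  have hc0 : c ≠ 0 := by
    rintro rfl
    rw [zero_pow (by omega)] at hc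
    exact zero_ne_one hc
  have h1 := dag_dvd hF h
  rw [dag_X_pow_sub_C hF hj hc0] at h1
  have h2 : (c ^ q)⁻¹ = c := by
    apply inv_eq_of_mul_eq_one_left
    rw [← pow_succ', hc]
  rw [h2] at h1
  have hu : IsUnit (C (-(c ^ q)) : F[X]) :=
    Polynomial.isUnit_C.2 (neg_ne_zero.2 (pow_ne_zero _ hc0)).isUnit
  exact (hu.dvd_mul_left).1 h1

end Cfsg.Agent.Lib.Helper48
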