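import Mathlib
import Cfsg.Agent.Lib.Helper48.UDag
import Cfsg.Agent.Lib.Helper48.USU
import Cfsg.Agent.Lib.Helper48.SpBad

set_option autoImplicit false
set_option linter.unusedSectionVars false
set_option linter.style.haveILetI false

namespace Cfsg.Agent.Lib.Helper48

open Module Polynomial Cfsg.Agent.Lib.Helper17

variable {F : Type*} [Field F] [Fintype F] {q n : ℕ}

/-- a unitary operator together with its inverse -/
structure UData (q : ℕ) (T T' : End F (Fin n → F)) : Prop where
  iso : ∀ u v, Cfsg.hermForm n F q (T u) (T v) = Cfsg.hermForm n F q u v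
  mul : T * T' = 1
  mul' : T' * T = 1

theorem udata_opSU (x : ↥(Cfsg.SU n F q)) : UData q (opSU x) (opSU x⁻¹) :=
  ⟨opSU_herm x, by rw [← opSU_mul, mul_inv_cancel, opSU_one],
    by rw [← opSU_mul, inv_mul_cancel, opSU_one]⟩

variable {T T' : End F (Fin n → F)}

theorem UData.adj (h : UData q T T') (u v : Fin n → F) :
    Cfsg.hermForm n F q (T u) v = Cfsg.hermForm n F q u (T' v) := by
  have h1 : v = T (T' v) := by rw [← Module.End.mul_apply, h.mul, Module.End.one_apply]
  conv_lhs => rw [h1]
  exact h.iso _ _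

theorem UData.adj_pow (h : UData q T T') (k : ℕ) (u v : Fin n → F) :
    Cfsg.hermForm n F q ((T ^ k) u) v = Cfsg.hermForm n F q u ((T' ^ k) v) := by
  induction k generalizing u v with
  | zero => simp
  | succ j ih => rw [pow_succ', pow_succ, Module.End.mul_apply, Module.End.mul_apply, h.adj, ih]

theorem UData.adj_aeval (hF : Fintype.card F = q ^ 2) (h : UData q T T') (P : F[X])
    (u v : Fin n → F) :
    Cfsg.hermForm n F q (aeval T P u) v =
      Cfsg.hermForm n F q u (aeval T' (P.map (frobQ hF)) v) := by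
  induction P using Polynomial.induction_on' with
  | add P R hP hR =>
    rw [map_add, LinearMap.add_apply, hermForm_add_left, hP, hR, Polynomial.map_add, map_add,
      LinearMap.add_apply, hermForm_add_right hF]
  | monomial k a =>
    rw [aeval_monomial, Polynomial.map_monomial, aeval_monomial, Algebra.algebraMap_eq_smul_one,
      Algebra.algebraMap_eq_smul_one, smul_mul_assoc, one_mul, smul_mul_assoc, one_mul,
      LinearMap.smul_apply, LinearMap.smul_apply, hermForm_smul_left, hermForm_smul_right,
      frobQ_apply, pow_q_pow_q hF, h.adj_pow]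

theorem aeval_reverse_eq {V : Type*} [AddCommGroup V] [Module F V] {T T' : End F V}
    (h1 : T * T' = 1) (R : F[X]) :
    aeval T R.reverse = T ^ R.natDegree * aeval T' R := by
  set N := R.natDegree with hN
  have hcomm : ∀ i, i ≤ N → T ^ N * T' ^ i = T ^ (N - i) := by
    intro i hi
    have h3 : ∀ j, T ^ j * T' ^ j = 1 := by
      intro j
      induction j with
      | zero => simp
      | succ k ih =>
        rw [pow_succ, pow_succ', mul_assoc, ← mul_assoc T, h1, one_mul, ih]
    conv_lhs => rw [show N = (N - i) + i by omega, pow_add, mul_assoc, h3, mul_one]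
  rw [aeval_eq_sum_range' (n := N + 1) (lt_of_le_of_lt (reverse_natDegree_le R) (Nat.lt_succ_self _)),
    aeval_eq_sum_range, Finset.mul_sum, ← Finset.sum_range_reflect]
  apply Finset.sum_congr rfl
  intro i hi
  rw [Finset.mem_range] at hi
  rw [coeff_reverse, ← hN, revAt_le (by omega), mul_smul_comm, hcomm _ (by omega)]
  congr 2 <;> omega

theorem UData.aeval_map_eq_zero (hF : Fintype.card F = q ^ 2) (h : UData q T T') {P : F[X]}
    {x : Fin n → F} (hx : aeval T (dag hF P) x = 0) : aeval T' (P.map (frobQ hF)) x = 0 := by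
  rw [dag, aeval_reverse_eq h.mul, Module.End.mul_apply] at hx
  have h3 : ∀ j, T' ^ j * T ^ j = 1 := by
    intro j
    induction j with
    | zero => simp
    | succ k ih =>
      rw [pow_succ, pow_succ', mul_assoc, ← mul_assoc T', h.mul', one_mul, ih]
  have := congrArg (T' ^ (P.map (frobQ hF)).natDegree) hx
  rwa [← Module.End.mul_apply, h3, Module.End.one_apply, map_zero] at this

theorem UData.aeval_dag_eq_zero (hF : Fintype.card F = q ^ 2) (h : UData q T T') {P : F[X]}
    (hP : aeval T P = 0) : aeval T (dag hF P) = 0 := by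
  have h1 : aeval T' (P.map (frobQ hF)) = 0 := by
    apply LinearMap.ext
    intro v
    apply hermForm_right_eq_zero hF
    intro u
    rw [← h.adj_aeval hF, hP, LinearMap.zero_apply, hermForm_zero_left]
  rw [dag, aeval_reverse_eq h.mul, h1, mul_zero]

/-- orthogonally decomposable operators -/
def ODecomp (q : ℕ) (T : End F (Fin n → F)) : Prop :=
  ∃ A B : Submodule F (Fin n → F), IsCompl A B ∧ A ≠ ⊥ ∧ B ≠ ⊥ ∧ (∀ v ∈ A, T v ∈ A) ∧
    (∀ v ∈ B, T v ∈ B) ∧ ∀ a ∈ A, ∀ b ∈ B, Cfsg.hermForm n F q a b = 0

theorem UData.odecomp_of_coprime (hF : Fintype.card F = q ^ 2) (h : UData q T T') {P R : F[X]}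
    (hcop : IsCoprime P R) (hPR : aeval T (P * R) = 0) (hP : P ∣ dag hF P)
    (hP0 : aeval T P ≠ 0) (hR0 : aeval T R ≠ 0) : ODecomp q T := by
  have hq2 : 2 ≤ q := two_le_of_card_sq hF
  have hdis := disjoint_ker_aeval_of_isCoprime T hcop
  have hsup := sup_ker_aeval_eq_ker_aeval_mul_of_coprime T hcop
  rw [hPR, LinearMap.ker_zero] at hsup
  refine ⟨LinearMap.ker (aeval T P), LinearMap.ker (aeval T R), ⟨hdis, codisjoint_iff.2 hsup⟩,
    ?_, ?_, fun v hv => ker_aeval_invariant (Commute.refl T) P v hv,
    fun v hv => ker_aeval_invariant (Commute.refl T) R v hv, ?_⟩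
  · intro hA
    rw [hA, bot_sup_eq] at hsup
    exact hR0 (LinearMap.ker_eq_top.1 hsup)
  · intro hB
    rw [hB, sup_bot_eq] at hsup
    exact hP0 (LinearMap.ker_eq_top.1 hsup)
  · intro a ha b hb
    obtain ⟨u, v, huv⟩ := hcop
    have hb' : b = aeval T P (aeval T u b) := by
      have h3 := congrArg (fun S => aeval T S b) huv
      simp only [map_add, map_mul, map_one, LinearMap.add_apply, Module.End.mul_apply,
        Module.End.one_apply] at h3
      rw [LinearMap.mem_ker.1 hb, map_zero, add_zero] at h3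
      rw [← Module.End.mul_apply, ← map_mul, mul_comm, map_mul, Module.End.mul_apply, h3]
    have ha' : aeval T (dag hF P) a = 0 := by
      obtain ⟨S, hS⟩ := hP
      rw [hS, mul_comm, map_mul, Module.End.mul_apply, LinearMap.mem_ker.1 ha, map_zero]
    rw [← hermForm_conj hF, hb', h.adj_aeval hF, h.aeval_map_eq_zero hF ha',
      hermForm_zero_right (by omega), zero_pow (by omega)]

theorem UData.nilpotent_of_not_odecomp (hF : Fintype.card F = q ^ 2) (h : UData q T T')
    (hT : ¬ ODecomp q T) {g : F[X]} (hg : g ∣ dag hF g) (hnu : ¬ IsUnit (aeval T g)) :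
    ∃ i, aeval T (g ^ i) = 0 := by
  set c := aeval T g with hc
  have hint : IsIntegral F c := Algebra.IsIntegral.isIntegral c
  have hne : minpoly F c ≠ 0 := minpoly.ne_zero hint
  obtain ⟨P', hP', hnd⟩ := exists_eq_pow_rootMultiplicity_mul_and_not_dvd (minpoly F c) hne 0
  rw [C_0, sub_zero] at hP' hnd
  set i := rootMultiplicity 0 (minpoly F c) with hi
  refine ⟨i, ?_⟩
  have hcop : IsCoprime (X ^ i : F[X]) P' :=
    IsCoprime.pow_left ((irreducible_X.isCoprime_or_dvd P').resolve_right hnd)
  have hcop' : IsCoprime (g ^ i) (P'.comp g) := by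
    have := hcop.map (compRingHom g)
    simpa using this
  have hPR : aeval T (g ^ i * P'.comp g) = 0 := by
    have h1 : g ^ i * P'.comp g = (minpoly F c).comp g := by
      rw [hP', mul_comp, pow_comp, X_comp]
    rw [h1, aeval_comp, ← hc, minpoly.aeval]
  by_contra hcon
  apply hT
  refine h.odecomp_of_coprime hF hcop' hPR ?_ hcon ?_
  · rw [dag_pow]
    exact pow_dvd_pow_of_dvd hg i
  · intro h0
    apply hnu
    rw [aeval_comp, ← hc] at h0
    apply isUnit_of_aeval_eq_zero h0
    intro h00
    exact hnd (X_dvd_iff.2 h00)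

end Cfsg.Agent.Lib.Helper48
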