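import Mathlib
import Cfsg.Agent.Lib.Helper48.UAdj
import Cfsg.Agent.Lib.Helper48.L3Upper

set_option autoImplicit false
set_option linter.unusedSectionVars false
set_option linter.style.haveILetI false

namespace Cfsg.Agent.Lib.Helper48

open Module Polynomial Cfsg.Agent.Lib.Helper17

universe u

variable {F : Type u} [Field F] [Fintype F] {q n : ℕ}

/-- the order `(q^D - (-1)^D)/(q+1)` of the norm one part of the cyclic torus of `GU_D(q)` -/
def uM (q D : ℕ) : ℕ := if Odd D then (q ^ D + 1) / (q + 1) else (q ^ D - 1) / (q + 1)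

/-- an irreducible divisor of `X^S - 1` divides `X^(S/d) - μ` with `μ^(q+1) = 1`, if `d ∣ q+1` -/
theorem exists_dvd_X_pow_sub_C (hF : Fintype.card F = q ^ 2) {f : F[X]} (hf : Irreducible f)
    {S d : ℕ} (hS : f ∣ X ^ S - 1) (hdS : d ∣ S) (hdq : d ∣ q + 1) :
    ∃ μ : F, μ ^ (q + 1) = 1 ∧ f ∣ X ^ (S / d) - C μ := by
  have hq2 : 2 ≤ q := two_le_of_card_sq hF
  haveI : Fact (Irreducible f) := ⟨hf⟩
  set θ : AdjoinRoot f := AdjoinRoot.root f with hθ
  have h1 : θ ^ S = 1 := by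
    have := AdjoinRoot.mk_eq_zero.2 hS
    rw [← AdjoinRoot.aeval_eq] at this
    simp only [map_sub, map_pow, aeval_X, map_one] at this
    exact sub_eq_zero.1 this
  have h2 : (θ ^ (S / d)) ^ (q + 1) = 1 := by
    obtain ⟨c, hc⟩ := hdq
    rw [hc, pow_mul, ← pow_mul θ, Nat.div_mul_cancel hdS, h1, one_pow]
  have h3 : (θ ^ (S / d)) ^ Fintype.card F = θ ^ (S / d) := by
    have : q ^ 2 = (q + 1) * (q - 1) + 1 := by
      obtain ⟨r, rfl⟩ : ∃ r, q = r + 1 := ⟨q - 1, by omega⟩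
      simp only [Nat.add_sub_cancel]
      ring
    rw [hF, this, pow_succ, pow_mul, h2, one_pow, one_mul]
  obtain ⟨μ, hμ⟩ := exists_algebraMap_eq_of_pow_card h3
  refine ⟨μ, ?_, ?_⟩
  · apply (algebraMap F (AdjoinRoot f)).injective
    rw [map_pow, ← hμ, h2, map_one]
  · rw [← AdjoinRoot.mk_eq_zero, ← AdjoinRoot.aeval_eq]
    simp only [map_sub, map_pow, aeval_X, aeval_C]
    rw [← hθ, hμ, sub_self]

theorem pow_dvd_X_pow_sub_C (p : ℕ) [Fact p.Prime] [CharP F p] {g : F[X]} {j : ℕ} {μ : F}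
    (h : g ∣ X ^ j - C μ) {κ t : ℕ} (hκ : κ ≤ p ^ t) :
    g ^ κ ∣ X ^ (p ^ t * j) - C (μ ^ p ^ t) := by
  have h1 : ((X ^ j - C μ) ^ (p ^ t) : F[X]) = X ^ (p ^ t * j) - C (μ ^ p ^ t) := by
    rw [sub_pow_char_pow, ← pow_mul, ← C_pow, mul_comm]
  rw [← h1]
  exact (pow_dvd_pow_of_dvd h κ).trans (pow_dvd_pow _ hκ)

theorem dvd_X_pow_card_pow_sub_one {f : F[X]} (hf : Irreducible f) (h0 : f.coeff 0 ≠ 0) :
    f ∣ X ^ (Fintype.card F ^ f.natDegree - 1) - 1 := by
  have h1 : f ∣ X ^ (Nat.card F ^ f.natDegree) - X :=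
    (hf.natDegree_dvd_iff_dvd_X_pow_card_pow_sub_X).1 dvd_rfl
  rw [Nat.card_eq_fintype_card] at h1
  have hpos : 1 ≤ Fintype.card F ^ f.natDegree := Nat.one_le_pow _ _ Fintype.card_pos
  have h2 : (X ^ (Fintype.card F ^ f.natDegree) - X : F[X]) =
      X * (X ^ (Fintype.card F ^ f.natDegree - 1) - 1) := by
    rw [mul_sub, mul_one, ← pow_succ', Nat.sub_add_cancel hpos]
  rw [h2] at h1
  refine (hf.prime.dvd_or_dvd h1).resolve_left ?_
  intro h
  obtain ⟨g, hg⟩ := h
  have := congrArg (fun P : F[X] => P.coeff 0) hg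
  simp only [coeff_X_zero, mul_coeff_zero] at this
  have h3 : g.coeff 0 = 0 := by
    rcases mul_eq_zero.1 this.symm with h4 | h4
    · exact absurd h4 h0
    · exact h4
  have h5 : X ∣ g := X_dvd_iff.2 h3
  obtain ⟨g', rfl⟩ := h5
  have h6 : (X : F[X]) * 1 = X * (f * g') := by
    rw [mul_one]
    conv_lhs => rw [hg]
    ring
  have h7 := mul_left_cancel₀ X_ne_zero h6
  exact hf.not_isUnit (IsUnit.of_mul_eq_one _ h7.symm)

variable {T T' : End F (Fin n → F)}

theorem natDegree_le_of_aeval_pow_min {f : F[X]} (hf : Irreducible f) {κ : ℕ}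
    (h0 : aeval T (f ^ κ) = 0) (hmin : ∀ j, aeval T (f ^ j) = 0 → κ ≤ j) :
    κ * f.natDegree ≤ n := by
  have h1 : minpoly F T ∣ f ^ κ := minpoly.dvd F T h0
  obtain ⟨j, hj, hass⟩ := (dvd_prime_pow hf.prime κ).1 h1
  have h2 : aeval T (f ^ j) = 0 := by
    obtain ⟨w, hw⟩ := hass.dvd
    rw [hw, map_mul, minpoly.aeval, zero_mul]
  have h3 : j = κ := le_antisymm hj (hmin j h2)
  have h4 : (minpoly F T).natDegree = κ * f.natDegree := by
    rw [natDegree_eq_of_degree_eq (degree_eq_degree_of_associated hass), h3, natDegree_pow]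
  have h5 := natDegree_le_of_dvd (LinearMap.minpoly_dvd_charpoly T) (LinearMap.charpoly_monic T).ne_zero
  rw [LinearMap.charpoly_natDegree, Module.finrank_fin_fun, h4] at h5
  exact h5

/-- type B: the minimal polynomial is divisible by `(f f†)^κ` -/
theorem UData.mul_natDegree_le_typeB (hF : Fintype.card F = q ^ 2) (h : UData q T T') {f : F[X]}
    (hf : Irreducible f) (hf0 : f.coeff 0 ≠ 0) (hB : ¬ f ∣ dag hF f) {κ : ℕ} (hκ : 1 ≤ κ)
    (h0 : aeval T ((f * dag hF f) ^ κ) = 0)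
    (hmin : ∀ j, aeval T ((f * dag hF f) ^ j) = 0 → κ ≤ j) :
    (f * dag hF f) ^ κ ∣ minpoly F T ∧ κ * (2 * f.natDegree) ≤ n := by
  classical
  set m := minpoly F T with hm
  have hcop : IsCoprime f (dag hF f) := (hf.isCoprime_or_dvd _).resolve_right hB
  have hm0 : m ≠ 0 := minpoly.ne_zero (Algebra.IsIntegral.isIntegral T)
  have hne : aeval T (f ^ (κ - 1) * dag hF f ^ κ) ≠ 0 := by
    intro hz
    have hz' := h.aeval_dag_eq_zero hF hz
    rw [dag_mul, dag_pow, dag_pow, dag_dag hF hf0] at hz'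
    obtain ⟨a, b, hab⟩ := hcop
    have h1 : (f * dag hF f) ^ (κ - 1) =
        a * (dag hF f ^ (κ - 1) * f ^ κ) + b * (f ^ (κ - 1) * dag hF f ^ κ) := by
      have h2 : f ^ κ = f ^ (κ - 1) * f := by rw [← pow_succ, Nat.sub_add_cancel hκ]
      have h3 : dag hF f ^ κ = dag hF f ^ (κ - 1) * dag hF f := by
        rw [← pow_succ, Nat.sub_add_cancel hκ]
      rw [h2, h3, mul_pow]
      linear_combination (-(f ^ (κ - 1) * dag hF f ^ (κ - 1))) * hab
    have h4 : aeval T ((f * dag hF f) ^ (κ - 1)) = 0 := by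
      rw [h1, map_add, map_mul, map_mul (aeval T) b, hz, hz', mul_zero, mul_zero, add_zero]
    have := hmin _ h4
    omega
  have hfk : f ^ κ ∣ m := by
    obtain ⟨j, hj, hass⟩ := (dvd_prime_pow hf.prime κ).1 (EuclideanDomain.gcd_dvd_right m (f ^ κ))
    have h1 : aeval T (EuclideanDomain.gcd m (f ^ κ) * dag hF f ^ κ) = 0 := by
      rw [EuclideanDomain.gcd_eq_gcd_ab, add_mul, map_add,
        show m * EuclideanDomain.gcdA m (f ^ κ) * dag hF f ^ κ =
          m * (EuclideanDomain.gcdA m (f ^ κ) * dag hF f ^ κ) by ring,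
        show f ^ κ * EuclideanDomain.gcdB m (f ^ κ) * dag hF f ^ κ =
          (f * dag hF f) ^ κ * EuclideanDomain.gcdB m (f ^ κ) by rw [mul_pow]; ring,
        map_mul, map_mul (aeval T) ((f * dag hF f) ^ κ), h0, hm, minpoly.aeval, zero_mul, zero_mul,
        add_zero]
    have h2 : aeval T (f ^ j * dag hF f ^ κ) = 0 := by
      obtain ⟨w, hw⟩ := hass.dvd
      rw [hw, mul_right_comm, map_mul, h1, zero_mul]
    have hjk : j = κ := by
      by_contra hne'
      apply hne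
      have : f ^ (κ - 1) = f ^ (κ - 1 - j) * f ^ j := by
        rw [← pow_add]
        congr 1
        omega
      rw [this, mul_assoc, map_mul, h2, mul_zero]
    rw [hjk] at hass
    exact hass.symm.dvd.trans (EuclideanDomain.gcd_dvd_left m (f ^ κ))
  have hdm : dag hF m ∣ m := by
    have h1 : m ∣ dag hF m := minpoly.dvd F T (h.aeval_dag_eq_zero hF (minpoly.aeval F T))
    obtain ⟨w, hw⟩ := h1
    have hd0 : dag hF m ≠ 0 := dag_ne_zero hF hm0
    have hw0 : w ≠ 0 := by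
      rintro rfl
      rw [mul_zero] at hw
      exact hd0 hw
    have h2 : w.natDegree = 0 := by
      have h3 := natDegree_dag_le hF m
      rw [hw, natDegree_mul hm0 hw0] at h3
      omega
    have hwu : IsUnit w := by
      rw [eq_C_of_natDegree_eq_zero h2] at hw0 ⊢
      exact Polynomial.isUnit_C.2 (by simpa using hw0 : w.coeff 0 ≠ 0).isUnit
    rw [hw]
    exact (hwu.mul_right_dvd).2 dvd_rfl
  have hdk : dag hF f ^ κ ∣ m := by
    rw [← dag_pow]
    exact (dag_dvd hF hfk).trans hdm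
  have hall : (f * dag hF f) ^ κ ∣ m := by
    rw [mul_pow]
    exact (hcop.pow).mul_dvd hfk hdk
  refine ⟨hall, ?_⟩
  have h5 := natDegree_le_of_dvd (hall.trans (LinearMap.minpoly_dvd_charpoly T))
    (LinearMap.charpoly_monic T).ne_zero
  rw [LinearMap.charpoly_natDegree, Module.finrank_fin_fun, natDegree_pow,
    natDegree_mul hf.ne_zero (dag_ne_zero hF hf.ne_zero), natDegree_dag hF hf0] at h5
  rw [two_mul]
  exact h5

end Cfsg.Agent.Lib.Helper48
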