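import Mathlib
import Cfsg.Agent.Lib.Helper48.UStruct
import Cfsg.Agent.Lib.Helper48.HalfTorusArith

set_option autoImplicit false

namespace Cfsg.Agent.Lib.Helper48

theorem succ_dvd_sq_sub_one (q : ℕ) (hq : 1 ≤ q) : q ^ 2 - 1 = (q + 1) * (q - 1) := by
  obtain ⟨r, rfl⟩ : ∃ r, q = r + 1 := ⟨q - 1, by omega⟩
  simp only [Nat.add_sub_cancel]
  have : (r + 1) ^ 2 = (r + 1 + 1) * r + 1 := by ring
  omega

theorem uM_mul (q n : ℕ) (hq : 1 ≤ q) :
    uM q n * (q + 1) = if Odd n then q ^ n + 1 else q ^ n - 1 := by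
  unfold uM
  split_ifs with h
  · apply Nat.div_mul_cancel
    have := Odd.nat_add_dvd_pow_add_pow q 1 h
    rwa [one_pow] at this
  · apply Nat.div_mul_cancel
    obtain ⟨e, he⟩ := Nat.not_odd_iff_even.1 h
    have h1 : q ^ 2 - 1 ∣ (q ^ 2) ^ e - 1 := by
      have := Nat.sub_dvd_pow_sub_pow (q ^ 2) 1 e
      rwa [one_pow] at this
    rw [he, ← two_mul, pow_mul]
    exact (Dvd.intro _ (succ_dvd_sq_sub_one q hq).symm).trans h1

theorem uM_int (q n : ℕ) (hq : 1 ≤ q) :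
    ((uM q n : ℕ) : ℤ) = ∑ i ∈ Finset.range n, (q : ℤ) ^ i * (-1) ^ (n - 1 - i) := by
  have h1 : ((uM q n : ℕ) : ℤ) * ((q : ℤ) + 1) = (q : ℤ) ^ n - (-1) ^ n := by
    have h2 := uM_mul q n hq
    have hpos : 1 ≤ q ^ n := Nat.one_le_pow _ _ hq
    split_ifs at h2 with h
    · rw [h.neg_one_pow]
      have : ((uM q n * (q + 1) : ℕ) : ℤ) = ((q ^ n + 1 : ℕ) : ℤ) := by rw [h2]
      push_cast at this
      linarith
    · rw [(Nat.not_odd_iff_even.1 h).neg_one_pow]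
      have : ((uM q n * (q + 1) : ℕ) : ℤ) = ((q ^ n - 1 : ℕ) : ℤ) := by rw [h2]
      rw [Nat.cast_sub hpos] at this
      push_cast at this
      linarith
  have h3 := geom_sum₂_mul (q : ℤ) (-1) n
  have h4 : ((q : ℤ) + 1) ≠ 0 := by positivity
  apply mul_right_cancel₀ h4
  rw [h1, ← h3]
  ring

theorem dvd_uM_iff (q m d : ℕ) (hq : 1 ≤ q) (hd : d ∣ q + 1) : d ∣ uM q m ↔ d ∣ m := by
  rw [← ZMod.natCast_eq_zero_iff, ← ZMod.natCast_eq_zero_iff]
  have h1 : (q : ZMod d) = -1 := by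
    have h2 : ((q + 1 : ℕ) : ZMod d) = 0 := (ZMod.natCast_eq_zero_iff _ _).2 hd
    push_cast at h2
    exact eq_neg_of_add_eq_zero_left h2
  have h3 : ((uM q m : ℕ) : ZMod d) = (m : ZMod d) * (-1) ^ (m - 1) := by
    have h4 : ((uM q m : ℕ) : ZMod d) = (((uM q m : ℕ) : ℤ) : ZMod d) := by push_cast; rfl
    rw [h4, uM_int q m hq]
    push_cast
    rw [h1]
    have h5 : ∀ i ∈ Finset.range m, (-1 : ZMod d) ^ i * (-1) ^ (m - 1 - i) = (-1) ^ (m - 1) := by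
      intro i hi
      rw [Finset.mem_range] at hi
      rw [← pow_add]
      congr 1
      omega
    rw [Finset.sum_congr rfl h5, Finset.sum_const, Finset.card_range, nsmul_eq_mul]
  rw [h3]
  exact IsUnit.mul_left_eq_zero ((isUnit_one.neg).pow _)

theorem gcd_dvd_uM (q n : ℕ) (hq : 2 ≤ q) (hn : 1 ≤ n) : Nat.gcd n (q + 1) ∣ uM q n :=
  (dvd_uM_iff q n _ (by omega) (Nat.gcd_dvd_right _ _)).2 (Nat.gcd_dvd_left _ _)

theorem coprime_uM (p q D t : ℕ) (hp : p.Prime) (hpq : p ∣ q) (hq : 1 ≤ q) (hD : 1 ≤ D) :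
    Nat.Coprime (uM q D) (p ^ t) := by
  apply Nat.Coprime.pow_right
  apply Nat.Coprime.symm
  rw [Nat.Prime.coprime_iff_not_dvd hp]
  intro h
  have h1 : p ∣ uM q D * (q + 1) := Dvd.dvd.mul_right h _
  have h2 : p ∣ q ^ D := dvd_pow hpq (by omega)
  have hpos : 1 ≤ q ^ D := Nat.one_le_pow _ _ hq
  rw [uM_mul q D hq] at h1
  have h3 : p ∣ 1 := by
    split_ifs at h1
    · exact (Nat.dvd_add_right h2).1 h1
    · have h4 : q ^ D = (q ^ D - 1) + 1 := by omega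
      rw [h4] at h2
      exact (Nat.dvd_add_right h1).1 h2
  exact hp.one_lt.ne' (Nat.dvd_one.1 h3)

/-- for `n` odd: `(q^(2n)-1)/(q^2-1) = uM q n * G` with `G = (q^n-1)/(q-1)` prime to `q+1` -/
theorem geom_sq_odd (q n : ℕ) (hq : 2 ≤ q) (hn : Odd n) :
    ((q ^ 2) ^ n - 1) / (q ^ 2 - 1) = uM q n * ((q ^ n - 1) / (q - 1)) ∧
      Nat.Coprime (q + 1) ((q ^ n - 1) / (q - 1)) ∧ q ^ n + 1 = uM q n * (q + 1) := by
  have h1 := uM_mul q n (by omega)
  rw [if_pos hn] at h1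
  have hpos : 1 ≤ q ^ n := Nat.one_le_pow _ _ (by omega)
  have h2 : (q ^ n - 1) / (q - 1) * (q - 1) = q ^ n - 1 := by
    apply Nat.div_mul_cancel
    have := Nat.sub_dvd_pow_sub_pow q 1 n
    rwa [one_pow] at this
  refine ⟨?_, ?_, h1.symm⟩
  · have h3 : (q ^ 2) ^ n - 1 = (q ^ 2 - 1) * (uM q n * ((q ^ n - 1) / (q - 1))) := by
      rw [succ_dvd_sq_sub_one q (by omega)]
      have h4 : (q + 1) * (q - 1) * (uM q n * ((q ^ n - 1) / (q - 1))) =
          (uM q n * (q + 1)) * ((q ^ n - 1) / (q - 1) * (q - 1)) := by ring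
      rw [h4, h1, h2, ← pow_mul, mul_comm 2 n, pow_mul]
      obtain ⟨c, hc⟩ := Nat.exists_eq_add_of_le hpos
      rw [hc]
      simp only [Nat.add_sub_cancel_left]
      have : (1 + c) ^ 2 = (1 + c + 1) * c + 1 := by ring
      omega
    rw [h3]
    apply Nat.mul_div_cancel_left
    have : 4 ≤ q ^ 2 := by nlinarith
    omega
  · rw [← Nat.geomSum_eq hq n]
    apply Nat.Coprime.symm
    rw [← ZMod.isUnit_iff_coprime]
    have h5 : (q : ZMod (q + 1)) = -1 := by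
      have h6 : ((q + 1 : ℕ) : ZMod (q + 1)) = 0 := ZMod.natCast_self _
      push_cast at h6
      exact eq_neg_of_add_eq_zero_left h6
    push_cast
    rw [h5, neg_one_geom_sum, if_neg (Nat.not_even_iff_odd.2 hn)]
    exact isUnit_one

/-- for `n = 2e`: `uM q n = ((q^2)^e - 1)/(q^2-1) * (q-1)` -/
theorem uM_even (q e : ℕ) (hq : 2 ≤ q) (he : 1 ≤ e) :
    uM q (2 * e) = ((q ^ 2) ^ e - 1) / (q ^ 2 - 1) * (q - 1) ∧
      (q ^ 2) ^ e - 1 = uM q (2 * e) * (q + 1) := by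
  have h1 := uM_mul q (2 * e) (by omega)
  rw [if_neg (by simp), pow_mul] at h1
  refine ⟨?_, h1.symm⟩
  have h2 : ((q ^ 2) ^ e - 1) / (q ^ 2 - 1) * (q ^ 2 - 1) = (q ^ 2) ^ e - 1 := by
    apply Nat.div_mul_cancel
    have := Nat.sub_dvd_pow_sub_pow (q ^ 2) 1 e
    rwa [one_pow] at this
  apply Nat.eq_of_mul_eq_mul_right (show 0 < q + 1 by omega)
  rw [h1, ← h2, succ_dvd_sq_sub_one q (by omega)]
  rw [Nat.mul_div_cancel _ (by
    have : 1 ≤ q - 1 := by omega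
    positivity)]
  ring

theorem uM_two_mul (q m : ℕ) (hq : 2 ≤ q) :
    uM q (2 * m) = (if Even m then q ^ m + 1 else q ^ m - 1) * uM q m := by
  have h1 := uM_mul q (2 * m) (by omega)
  rw [if_neg (by simp)] at h1
  have h2 := uM_mul q m (by omega)
  have hpos : 1 ≤ q ^ m := Nat.one_le_pow _ _ (by omega)
  have h3 : q ^ (2 * m) - 1 = (q ^ m + 1) * (q ^ m - 1) := by
    rw [mul_comm 2 m, pow_mul]
    obtain ⟨c, hc⟩ := Nat.exists_eq_add_of_le hpos
    rw [hc]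
    simp only [Nat.add_sub_cancel_left]
    have : (1 + c) ^ 2 = (1 + c + 1) * c + 1 := by ring
    omega
  apply Nat.eq_of_mul_eq_mul_right (show 0 < q + 1 by omega)
  rw [h1, h3, mul_assoc, h2]
  by_cases hm : Even m
  · rw [if_pos hm, if_neg (Nat.not_odd_iff_even.2 hm)]
  · rw [if_neg hm, if_pos (Nat.not_even_iff_odd.1 hm), mul_comm]

/-- arithmetic of S2496 -/
theorem half_torus_u_dvd_iff (q m : ℕ) (hq : 2 ≤ q) (hm : 1 ≤ m) :
    (if Even m then q ^ m + 1 else q ^ m - 1) ∣ uM q (2 * m) / Nat.gcd (2 * m) (q + 1) ↔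
      padicValNat 2 (q + 1) < padicValNat 2 (2 * m) := by
  have hd := gcd_dvd_uM q (2 * m) hq (by omega)
  have hpos : 2 ≤ q ^ m := by
    calc 2 ≤ q := hq
      _ ≤ q ^ m := Nat.le_self_pow (by omega) q
  have ha : 0 < (if Even m then q ^ m + 1 else q ^ m - 1) := by
    split_ifs <;> omega
  rw [← gcd_two_mul_dvd_iff m (q + 1) hm (by omega), Nat.dvd_div_iff_mul_dvd hd, uM_two_mul q m hq,
    mul_comm, Nat.mul_dvd_mul_iff_left ha, dvd_uM_iff q m _ (by omega) (Nat.gcd_dvd_right _ _)]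

end Cfsg.Agent.Lib.Helper48
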