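import Mathlib
import Cfsg.Agent.Lib.Helper48.UStruct

set_option autoImplicit false
set_option linter.unusedSectionVars false
set_option linter.style.haveILetI false

namespace Cfsg.Agent.Lib.Helper48

open Module Polynomial Cfsg.Agent.Lib.Helper17

universe u

variable {F : Type u} [Field F] [Fintype F] {q : ℕ}

theorem prodMap_eq_smul_one_iff {V₁ V₂ : Type*} [AddCommGroup V₁] [Module F V₁] [AddCommGroup V₂]
    [Module F V₂] (X₁ : End F V₁) (X₂ : End F V₂) (c : F) :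
    (LinearMap.prodMap X₁ X₂ : End F (V₁ × V₂)) = c • (1 : End F (V₁ × V₂)) ↔
      (X₁ = c • (1 : End F V₁) ∧ X₂ = c • (1 : End F V₂)) := by
  constructor
  · intro hc
    constructor
    · refine LinearMap.ext fun v => ?_
      have := congrArg (fun f : End F (V₁ × V₂) => (f (v, 0)).1) hc
      simpa using this
    · refine LinearMap.ext fun v => ?_
      have := congrArg (fun f : End F (V₁ × V₂) => (f (0, v)).2) hc
      simpa using this
  · rintro ⟨h1, h2⟩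
    rw [h1, h2]
    ext <;> simp

theorem exists_su_block (hF : Fintype.card F = q ^ 2) {n₁ n₂ : ℕ} (h₁ : 1 ≤ n₁) (h₂ : 1 ≤ n₂)
    (x₁ : ↥(Cfsg.SU n₁ F q)) (x₂ : ↥(Cfsg.SU n₂ F q)) :
    ∃ x : ↥(Cfsg.SU (n₁ + n₂) F q), ODecomp q (opSU x) ∧
      ∀ (j : ℕ) (c : F), opSU x ^ j = c • (1 : End F (Fin (n₁ + n₂) → F)) ↔
        (opSU x₁ ^ j = c • (1 : End F (Fin n₁ → F)) ∧ opSU x₂ ^ j = c • (1 : End F (Fin n₂ → F))) := by
  have hq2 : 2 ≤ q := two_le_of_card_sq hF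
  haveI : Nonempty (Fin n₁) := ⟨⟨0, h₁⟩⟩
  haveI : Nonempty (Fin n₂) := ⟨⟨0, h₂⟩⟩
  set φ := appendEquiv F n₁ n₂ with hφ
  set P : End F ((Fin n₁ → F) × (Fin n₂ → F)) := LinearMap.prodMap (opSU x₁) (opSU x₂) with hP
  have hTφ : ∀ p, φ.conj P (φ p) = φ (P p) := by
    intro p
    rw [LinearEquiv.conj_apply_apply, LinearEquiv.symm_apply_apply]
  obtain ⟨x, hx⟩ := exists_su_of_op (q := q) (φ.conj P)
    (by rw [det_conj', hP, LinearMap.det_prodMap, det_opSU, det_opSU, one_mul]) (by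
      intro u v
      obtain ⟨p, rfl⟩ := φ.surjective u
      obtain ⟨p', rfl⟩ := φ.surjective v
      rw [hTφ, hTφ, hφ, hermForm_append, hermForm_append, hP]
      simp only [LinearMap.prodMap_apply]
      rw [opSU_herm, opSU_herm])
  refine ⟨x, ?_, ?_⟩
  · rw [hx]
    refine ⟨(LinearMap.range (LinearMap.inl F (Fin n₁ → F) (Fin n₂ → F))).map
        (φ : ((Fin n₁ → F) × (Fin n₂ → F)) →ₗ[F] (Fin (n₁ + n₂) → F)),
      (LinearMap.range (LinearMap.inr F (Fin n₁ → F) (Fin n₂ → F))).map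
        (φ : ((Fin n₁ → F) × (Fin n₂ → F)) →ₗ[F] (Fin (n₁ + n₂) → F)), ?_, ?_, ?_, ?_, ?_, ?_⟩
    · exact (Submodule.orderIsoMapComap φ).isCompl LinearMap.isCompl_range_inl_inr
    · rw [Ne, Submodule.map_eq_bot_iff]
      obtain ⟨v, hv⟩ := exists_ne (0 : Fin n₁ → F)
      intro h
      have : LinearMap.inl F (Fin n₁ → F) (Fin n₂ → F) v ∈
          (⊥ : Submodule F ((Fin n₁ → F) × (Fin n₂ → F))) := h ▸ LinearMap.mem_range_self _ v
      rw [Submodule.mem_bot] at this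
      exact hv (congrArg Prod.fst this)
    · rw [Ne, Submodule.map_eq_bot_iff]
      obtain ⟨v, hv⟩ := exists_ne (0 : Fin n₂ → F)
      intro h
      have : LinearMap.inr F (Fin n₁ → F) (Fin n₂ → F) v ∈
          (⊥ : Submodule F ((Fin n₁ → F) × (Fin n₂ → F))) := h ▸ LinearMap.mem_range_self _ v
      rw [Submodule.mem_bot] at this
      exact hv (congrArg Prod.snd this)
    · rintro _ ⟨_, ⟨v, rfl⟩, rfl⟩
      refine ⟨P (LinearMap.inl F _ _ v), ⟨opSU x₁ v, by simp [hP]⟩, ?_⟩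
      exact (hTφ _).symm
    · rintro _ ⟨_, ⟨v, rfl⟩, rfl⟩
      refine ⟨P (LinearMap.inr F _ _ v), ⟨opSU x₂ v, by simp [hP]⟩, ?_⟩
      exact (hTφ _).symm
    · rintro _ ⟨_, ⟨v, rfl⟩, rfl⟩ _ ⟨_, ⟨w, rfl⟩, rfl⟩
      change Cfsg.hermForm (n₁ + n₂) F q (φ _) (φ _) = 0
      rw [hφ, hermForm_append]
      simp only [LinearMap.inl_apply, LinearMap.inr_apply]
      rw [hermForm_zero_right (by omega), hermForm_zero_left, add_zero]
  · intro j c
    rw [hx, conj_pow', ← conj_one' φ, ← map_smul, φ.conj.injective.eq_iff, hP, prodMap_pow',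
      prodMap_eq_smul_one_iff]

end Cfsg.Agent.Lib.Helper48
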