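import Mathlib
import Cfsg.Agent.Lib.Helper48.UStruct
import Cfsg.Agent.Lib.Helper48.U3Spec
import Cfsg.Agent.Lib.Helper48.ProjSpec

set_option autoImplicit false
set_option linter.unusedSectionVars false
set_option linter.style.haveILetI false

namespace Cfsg.Agent.Lib.Helper48

open Module Polynomial Cfsg.Agent.Lib.Helper17

universe u

variable {F : Type u} [Field F] [Fintype F] {q : ℕ}

theorem twoScalar_herm (hF : Fintype.card F = q ^ 2) {n : ℕ} (A B : Submodule F (Fin n → F))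
    (h : IsCompl A B) (horth : ∀ a ∈ A, ∀ b ∈ B, Cfsg.hermForm n F q a b = 0) (α β : F)
    (hα : α ^ (q + 1) = 1) (hβ : β ^ (q + 1) = 1) (u v : Fin n → F) :
    Cfsg.hermForm n F q (twoScalar A B h α β u) (twoScalar A B h α β v) =
      Cfsg.hermForm n F q u v := by
  have hq2 : 2 ≤ q := two_le_of_card_sq hF
  have horth' : ∀ a ∈ A, ∀ b ∈ B, Cfsg.hermForm n F q b a = 0 := by
    intro a ha b hb
    rw [← hermForm_conj hF, horth a ha b hb, zero_pow (by omega)]
  obtain ⟨a, ha, b, hb, rfl⟩ : ∃ a ∈ A, ∃ b ∈ B, a + b = u := by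
    have : u ∈ A ⊔ B := by rw [h.sup_eq_top]; exact Submodule.mem_top
    exact Submodule.mem_sup.1 this
  obtain ⟨a', ha', b', hb', rfl⟩ : ∃ a ∈ A, ∃ b ∈ B, a + b = v := by
    have : v ∈ A ⊔ B := by rw [h.sup_eq_top]; exact Submodule.mem_top
    exact Submodule.mem_sup.1 this
  simp only [map_add]
  rw [twoScalar_apply_left A B h α β a ha, twoScalar_apply_right A B h α β b hb,
    twoScalar_apply_left A B h α β a' ha', twoScalar_apply_right A B h α β b' hb']
  simp only [hermForm_add_left, hermForm_add_right hF, hermForm_smul_left, hermForm_smul_right]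
  rw [horth a ha b' hb', horth' a' ha' b hb]
  have h1 : α * α ^ q = 1 := by rw [← pow_succ', hα]
  have h2 : β * β ^ q = 1 := by rw [← pow_succ', hβ]
  linear_combination (Cfsg.hermForm n F q a a') * h1 + (Cfsg.hermForm n F q b b') * h2

theorem exists_good_of_odecomp (hF : Fintype.card F = q ^ 2) {n : ℕ} (x : ↥(Cfsg.SU n F q))
    (hT : ODecomp q (opSU x)) {a : ℕ} (ha : POrd (opSU x) a) {r : ℕ} (hr : r.Prime)
    (hrq : r ∣ q + 1) (hrn : ¬ r ∣ n) :
    ∃ (x' : ↥(Cfsg.SU n F q)) (b : ℕ), POrd (opSU x') b ∧ a ∣ b ∧ r ∣ b := by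
  by_cases hra : r ∣ a
  · exact ⟨x, a, ha, dvd_rfl, hra⟩
  have hq2 : 2 ≤ q := two_le_of_card_sq hF
  obtain ⟨ζ, hζ, hζn⟩ := exists_root_of_unity (F := F) hr (by
    rw [hF, sq_sub_one_fac q (by omega)]
    exact Dvd.dvd.mul_right hrq _) hrn
  have hζq : ζ ^ (q + 1) = 1 := by
    obtain ⟨k, hk⟩ := hrq
    rw [hk, pow_mul, hζ, one_pow]
  obtain ⟨A, B, hAB, hA, hB, hTA, hTB, horth⟩ := hT
  have hnt : Nontrivial (Fin n → F) := by
    obtain ⟨v, -, hv0⟩ := (Submodule.ne_bot_iff A).1 hA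
    exact ⟨v, 0, hv0⟩
  have hr0 : r ≠ 0 := hr.ne_zero
  set z := twoScalar A B hAB (ζ ^ finrank F B) (ζ ^ ((r - 1) * finrank F A)) with hz
  have hzc : Commute (opSU x) z := twoScalar_commute A B hAB _ _ _ hTA hTB
  have hzdet : LinearMap.det z = 1 := by
    rw [hz, twoScalar_det, ← pow_mul, ← pow_mul, ← pow_add]
    have : finrank F B * finrank F A + (r - 1) * finrank F A * finrank F B =
        r * (finrank F A * finrank F B) := by
      obtain ⟨k, rfl⟩ : ∃ k, r = k + 1 := ⟨r - 1, by omega⟩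
      simp only [Nat.add_sub_cancel]
      ring
    rw [this, pow_mul, hζ, one_pow]
  have hzr : z ^ r = 1 := by
    rw [hz, twoScalar_pow, ← pow_mul, ← pow_mul, mul_comm _ r, mul_comm _ r, pow_mul, pow_mul, hζ,
      one_pow, one_pow, twoScalar_one]
  have hzns : ∀ c : F, z ≠ c • (1 : End F (Fin n → F)) := by
    intro c hc
    obtain ⟨a, ha, ha0⟩ := (Submodule.ne_bot_iff A).1 hA
    obtain ⟨b, hb, hb0⟩ := (Submodule.ne_bot_iff B).1 hB
    have h1 := congrArg (fun f : End F (Fin n → F) => f a) hc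
    have h2 := congrArg (fun f : End F (Fin n → F) => f b) hc
    simp only [LinearMap.smul_apply, Module.End.one_apply] at h1 h2
    rw [hz, twoScalar_apply_left A B hAB _ _ a ha] at h1
    rw [hz, twoScalar_apply_right A B hAB _ _ b hb] at h2
    have h3 := smul_left_injective F ha0 h1
    have h4 := smul_left_injective F hb0 h2
    apply hζn
    have hfr : finrank F A + finrank F B = n := by
      rw [Submodule.finrank_add_eq_of_isCompl hAB, Module.finrank_fin_fun]
    rw [← hfr, add_comm, pow_add, h3, ← h4, ← pow_add]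
    have : (r - 1) * finrank F A + finrank F A = r * finrank F A := by
      obtain ⟨k, rfl⟩ : ∃ k, r = k + 1 := ⟨r - 1, by omega⟩
      simp only [Nat.add_sub_cancel]
      ring
    rw [this, pow_mul, hζ, one_pow]
  obtain ⟨z', hz'⟩ := exists_su_of_op (q := q) z hzdet (twoScalar_herm hF A B hAB horth _ _
    (by rw [← pow_mul, mul_comm, pow_mul, hζq, one_pow])
    (by rw [← pow_mul, mul_comm, pow_mul, hζq, one_pow]))
  refine ⟨x * z', a * r, ?_, Dvd.intro _ rfl, Dvd.intro_left _ rfl⟩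
  rw [opSU_mul, hz']
  exact ha.mul (pord_of_prime hr hzr hzns) hzc (isUnit_of_det_eq_one (det_opSU x))
    (isUnit_of_det_eq_one hzdet) (Nat.Coprime.symm ((Nat.Prime.coprime_iff_not_dvd hr).2 hra))

end Cfsg.Agent.Lib.Helper48
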