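import Mathlib
import Cfsg.Agent.Lib.Helper48.USU
import Cfsg.Agent.Lib.Helper48.GLOrders
import Cfsg.Agent.Lib.Helper48.RegNilp
import Cfsg.Agent.Lib.Helper48.UBlock

set_option autoImplicit false
set_option linter.unusedSectionVars false
set_option linter.style.haveILetI false

namespace Cfsg.Agent.Lib.Helper48

open Module Cfsg.Agent.Lib.Helper17
open scoped Matrix

universe u

variable {F : Type u} [Field F] [Fintype F] {q : ℕ}

/-- the hyperbolic hermitian form on `F^e × F^e` -/
noncomputable def hypH (hF : Fintype.card F = q ^ 2) (e : ℕ) :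
    ((Fin e → F) × (Fin e → F)) →ₛₗ[frobQ hF] ((Fin e → F) × (Fin e → F)) →ₗ[F] F :=
  LinearMap.mk₂'ₛₗ (frobQ hF) (RingHom.id F)
    (fun v w => Cfsg.hermForm e F q w.2 v.1 + Cfsg.hermForm e F q w.1 v.2)
    (fun x x' y => by
      rw [Prod.fst_add, Prod.snd_add, hermForm_add_right hF, hermForm_add_right hF]
      ring)
    (fun c x y => by
      rw [Prod.smul_fst, Prod.smul_snd, hermForm_smul_right, hermForm_smul_right, frobQ_apply,
        smul_eq_mul]
      ring)
    (fun x y y' => by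
      rw [Prod.fst_add, Prod.snd_add, hermForm_add_left, hermForm_add_left]
      ring)
    (fun c x y => by
      rw [Prod.smul_fst, Prod.smul_snd, hermForm_smul_left, hermForm_smul_left, RingHom.id_apply,
        smul_eq_mul]
      ring)

theorem hypH_apply (hF : Fintype.card F = q ^ 2) (e : ℕ) (v w : (Fin e → F) × (Fin e → F)) :
    hypH hF e v w = Cfsg.hermForm e F q w.2 v.1 + Cfsg.hermForm e F q w.1 v.2 := rfl

theorem hypH_isSymm (hF : Fintype.card F = q ^ 2) (e : ℕ) : (hypH hF e).IsSymm := by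
  refine ⟨fun x y => ?_⟩
  rw [hypH_apply, hypH_apply, frobQ_apply, add_pow_q hF, hermForm_conj hF, hermForm_conj hF,
    add_comm]

theorem hypH_nondegenerate (hF : Fintype.card F = q ^ 2) (e : ℕ) : (hypH hF e).Nondegenerate := by
  have hq2 : 2 ≤ q := two_le_of_card_sq hF
  have hleft : ∀ x, (∀ y, hypH hF e x y = 0) → x = 0 := by
    intro x hx
    apply Prod.ext
    · apply hermForm_right_eq_zero hF
      intro u
      have := hx (0, u)
      rw [hypH_apply] at this
      simpa [hermForm_zero_left] using this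
    · apply hermForm_right_eq_zero hF
      intro u
      have := hx (u, 0)
      rw [hypH_apply] at this
      simpa [hermForm_zero_left] using this
  refine ⟨hleft, ?_⟩
  intro y hy
  apply hleft
  intro x
  rw [← (hypH_isSymm hF e).eq x y, hy x, map_zero]

theorem hermForm_mulVec_mulVec (hF : Fintype.card F = q ^ 2) {e : ℕ}
    (A C : Matrix (Fin e) (Fin e) F) (h : (A.map (frobQ hF))ᵀ * C = 1) (u v : Fin e → F) :
    Cfsg.hermForm e F q (C *ᵥ u) (A *ᵥ v) = Cfsg.hermForm e F q u v := by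
  have h1 : ∀ a b : Fin e → F, Cfsg.hermForm e F q a b = a ⬝ᵥ (fun i => b i ^ q) := fun _ _ => rfl
  have h2 : (fun i => (A *ᵥ v) i ^ q) = (A.map (frobQ hF)) *ᵥ (fun i => v i ^ q) := by
    funext i
    simp only [Matrix.mulVec, dotProduct, sum_pow_q hF, mul_pow, Matrix.map_apply, frobQ_apply]
  rw [h1, h1, h2, Matrix.dotProduct_mulVec, ← Matrix.mulVec_transpose, Matrix.mulVec_mulVec, h,
    Matrix.one_mulVec]

theorem exists_su_torus_even (hF : Fintype.card F = q ^ 2) (e : ℕ) (he : 1 ≤ e) :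
    ∃ x : ↥(Cfsg.SU (2 * e) F q), orderOf x = (q ^ (2 * e) - 1) / (q + 1) := by
  classical
  have hq2 : 2 ≤ q := two_le_of_card_sq hF
  obtain ⟨g₀, hg₀⟩ := exists_GL_orderOf_singer (F := F) e e he le_rfl
  rw [Nat.card_eq_fintype_card, hF] at hg₀
  have hdvd : q + 1 ∣ (q ^ 2) ^ e - 1 := by
    have h1 : q ^ 2 - 1 ∣ (q ^ 2) ^ e - 1 := by
      have := Nat.sub_dvd_pow_sub_pow (q ^ 2) 1 e
      rwa [one_pow] at this
    have h2 : q + 1 ∣ q ^ 2 - 1 := by
      refine ⟨q - 1, ?_⟩
      obtain ⟨r, rfl⟩ : ∃ r, q = r + 1 := ⟨q - 1, by omega⟩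
      simp only [Nat.add_sub_cancel]
      have : (r + 1) ^ 2 = (r + 1 + 1) * r + 1 := by ring
      omega
    exact h2.trans h1
  set g := g₀ ^ (q + 1) with hg
  have hgo : orderOf g = (q ^ (2 * e) - 1) / (q + 1) := by
    rw [hg, orderOf_pow_of_dvd (by omega) (hg₀ ▸ hdvd), hg₀, pow_mul]
  set A : Matrix (Fin e) (Fin e) F := (g : Matrix (Fin e) (Fin e) F) with hA
  set D : Matrix (Fin e) (Fin e) F := (A.map (frobQ hF))ᵀ with hD
  have hApow : ∀ j, A ^ j = ((g ^ j : GL (Fin e) F) : Matrix (Fin e) (Fin e) F) := by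
    intro j
    rw [Units.val_pow_eq_pow_val]
  have hdetA : (frobQ hF) A.det = A.det := by
    have h1 : A.det = ((g₀ : Matrix (Fin e) (Fin e) F).det) ^ (q + 1) := by
      rw [hA, hg, Units.val_pow_eq_pow_val, Matrix.det_pow]
    rw [h1, frobQ_apply, ← pow_mul, mul_comm, pow_mul, pow_succ, pow_q_pow_q hF, pow_succ, mul_comm]
  have hdetA0 : A.det ≠ 0 := by
    have : IsUnit A.det := by
      rw [← Matrix.isUnit_iff_isUnit_det]
      exact g.isUnit
    exact this.ne_zero
  have hdetD : D.det = A.det := by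
    rw [hD, Matrix.det_transpose, ← RingHom.mapMatrix_apply, ← RingHom.map_det, hdetA]
  set C : Matrix (Fin e) (Fin e) F := D⁻¹ with hC
  have hDu : IsUnit D.det := by
    rw [hdetD]
    exact hdetA0.isUnit
  have hDC : D * C = 1 := Matrix.mul_nonsing_inv D hDu
  have hCD : C * D = 1 := Matrix.nonsing_inv_mul D hDu
  set T : End F ((Fin e → F) × (Fin e → F)) :=
    LinearMap.prodMap (Matrix.mulVecLin A) (Matrix.mulVecLin C) with hT
  have hiso : ∀ x y, hypH hF e (T x) (T y) = hypH hF e x y := by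
    intro x y
    rw [hypH_apply, hypH_apply, hT]
    simp only [LinearMap.prodMap_apply, Matrix.mulVecLin_apply]
    rw [hermForm_mulVec_mulVec hF A C hDC, ← hermForm_conj hF e (C *ᵥ x.2) (A *ᵥ y.1),
      hermForm_mulVec_mulVec hF A C hDC, hermForm_conj hF]
  have hdet : LinearMap.det T = 1 := by
    rw [hT, LinearMap.det_prodMap, ← Matrix.toLin'_apply', ← Matrix.toLin'_apply',
      LinearMap.det_toLin', LinearMap.det_toLin', ← hdetD, ← Matrix.det_mul, hDC, Matrix.det_one]
  have hone : ∀ M : Matrix (Fin e) (Fin e) F,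
      (Matrix.mulVecLin M : End F (Fin e → F)) = (1 : F) • (1 : End F (Fin e → F)) ↔ M = 1 := by
    intro M
    rw [one_smul, ← Matrix.toLin'_apply']
    have h1 : (1 : End F (Fin e → F)) = Matrix.toLin' (1 : Matrix (Fin e) (Fin e) F) := by
      rw [Matrix.toLin'_one]
      rfl
    rw [h1]
    exact Matrix.toLin'.injective.eq_iff
  have hpow : ∀ j, T ^ j = 1 ↔ orderOf g ∣ j := by
    intro j
    have h1 : T ^ j = 1 ↔ T ^ j = (1 : F) • (1 : End F ((Fin e → F) × (Fin e → F))) := by
      rw [one_smul]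
    rw [h1, hT, prodMap_pow', prodMap_eq_smul_one_iff, ← mulVecLin_pow, ← mulVecLin_pow, hone, hone,
      orderOf_dvd_iff_pow_eq_one, ← Units.val_eq_one, ← hApow]
    constructor
    · exact fun h => h.1
    · intro h
      refine ⟨h, ?_⟩
      have h2 : D ^ j = 1 := by
        rw [hD, ← Matrix.transpose_pow, ← RingHom.mapMatrix_apply, ← map_pow, h, map_one,
          Matrix.transpose_one]
      have hcm : Commute C D := by rw [Commute, SemiconjBy, hCD, hDC]
      calc C ^ j = C ^ j * D ^ j := by rw [h2, mul_one]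
        _ = 1 := by rw [← hcm.mul_pow, hCD, one_pow]
  obtain ⟨x, hx, -⟩ := exists_su_orderOf_of_herm hF (hypH hF e) (hypH_isSymm hF e)
    (hypH_nondegenerate hF e) (n := 2 * e)
    (by rw [finrank_prod, Module.finrank_fin_fun, two_mul]) T hiso hdet
  refine ⟨x, ?_⟩
  rw [← hgo]
  apply Nat.dvd_antisymm
  · exact orderOf_dvd_of_pow_eq_one ((hx _).2 ((hpow _).2 dvd_rfl))
  · exact (hpow _).1 ((hx _).1 (pow_orderOf_eq_one x))

end Cfsg.Agent.Lib.Helper48
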