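import Mathlib
import Cfsg.Agent.Lib.Helper48.UStruct
import Cfsg.Agent.Lib.Helper48.UArith
import Cfsg.Agent.Lib.Helper48.U3Aux

set_option autoImplicit false
set_option linter.unusedSectionVars false
set_option linter.style.haveILetI false

namespace Cfsg.Agent.Lib.Helper48

open Module Polynomial Cfsg.Agent.Lib.Helper17

universe u

variable {F : Type u} [Field F] [Fintype F] {q n : ℕ}

/-- norm formula for the root of a monic irreducible polynomial over a finite field -/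
theorem dvd_X_pow_geom_sub_C {f : F[X]} (hf : Irreducible f) (hfm : f.Monic) :
    f ∣ X ^ ((Fintype.card F ^ f.natDegree - 1) / (Fintype.card F - 1)) -
      C ((-1) ^ f.natDegree * f.coeff 0) := by
  have : Fact (Irreducible f) := ⟨hf⟩
  have hfin : Module.Finite F (AdjoinRoot f) := hfm.finite_adjoinRoot
  have hFin : Finite (AdjoinRoot f) := Module.finite_of_finite F
  have hnorm : Algebra.norm F (AdjoinRoot.root f) = (-1) ^ f.natDegree * f.coeff 0 := by
    have h1 := Algebra.PowerBasis.norm_gen_eq_coeff_zero_minpoly (AdjoinRoot.powerBasis hf.ne_zero)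
    rw [AdjoinRoot.powerBasis_gen, AdjoinRoot.powerBasis_dim, AdjoinRoot.minpoly_root hf.ne_zero,
      hfm.leadingCoeff, inv_one, C_1, mul_one] at h1
    exact h1
  have hpow := FiniteField.algebraMap_norm_eq_pow (K := F) (K' := AdjoinRoot f)
    (x := AdjoinRoot.root f)
  have hcard : Nat.card (AdjoinRoot f) = Fintype.card F ^ f.natDegree := by
    rw [Module.natCard_eq_pow_finrank (K := F), Nat.card_eq_fintype_card,
      (AdjoinRoot.powerBasis hf.ne_zero).finrank, AdjoinRoot.powerBasis_dim]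
  rw [hnorm, hcard, Nat.card_eq_fintype_card] at hpow
  rw [← AdjoinRoot.mk_eq_zero, map_sub, map_pow, AdjoinRoot.mk_X, AdjoinRoot.mk_C, ← hpow,
    AdjoinRoot.algebraMap_eq, sub_self]

theorem dvd_X_pow_gcd_sub_one {f : F[X]} {a b : ℕ} (ha : f ∣ X ^ a - 1) (hb : f ∣ X ^ b - 1) :
    f ∣ X ^ Nat.gcd a b - 1 := by
  rw [← AdjoinRoot.mk_eq_zero, map_sub, map_pow, AdjoinRoot.mk_X, map_one, sub_eq_zero] at ha hb ⊢
  exact pow_gcd_eq_one.2 ⟨ha, hb⟩

theorem dvd_X_pow_mul_sub_C {f : F[X]} {j : ℕ} {c : F} (h : f ∣ X ^ j - C c) (k : ℕ) :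
    f ∣ X ^ (j * k) - C (c ^ k) := by
  rw [pow_mul, C_pow]
  exact h.trans (sub_dvd_pow_sub_pow _ _ k)

section General

variable {V : Type*} [AddCommGroup V] [Module F V] {T : End F V}

theorem scalar_typeA (hF : Fintype.card F = q ^ 2) (p : ℕ) [Fact p.Prime] [CharP F p] {f : F[X]}
    (hf : Irreducible f) (hA : f ∣ dag hF f) {κ : ℕ} (h0 : aeval T (f ^ κ) = 0) :
    ∃ c : F, T ^ (p ^ Nat.clog p κ * uM q f.natDegree) = c • (1 : End F V) := by
  have hp : p.Prime := Fact.out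
  obtain ⟨hodd, hd⟩ := ft_of_dvd_reverse_map hF hf hA
  have hq1 : q + 1 ∣ q ^ f.natDegree + 1 := by
    have := Odd.nat_add_dvd_pow_add_pow q 1 hodd
    rwa [one_pow] at this
  obtain ⟨μ, hμ, hd2⟩ := exists_dvd_X_pow_sub_C hF hf hd hq1 dvd_rfl
  have h3 := pow_dvd_X_pow_sub_C p hd2 (Nat.le_pow_clog hp.one_lt κ)
  refine ⟨μ ^ p ^ Nat.clog p κ, ?_⟩
  rw [uM, if_pos hodd]
  exact pow_eq_smul_of_dvd h0 h3

theorem scalar_typeB (hF : Fintype.card F = q ^ 2) (p : ℕ) [Fact p.Prime] [CharP F p] {f : F[X]}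
    (hf : Irreducible f) (hf0 : f.coeff 0 ≠ 0) (hB : ¬ f ∣ dag hF f) {κ : ℕ}
    (h0 : aeval T ((f * dag hF f) ^ κ) = 0) :
    ∃ c : F, T ^ (p ^ Nat.clog p κ * uM q (2 * f.natDegree)) = c • (1 : End F V) := by
  have hp : p.Prime := Fact.out
  have hq2 : 2 ≤ q := two_le_of_card_sq hF
  have he : 1 ≤ f.natDegree := hf.natDegree_pos
  have hd := dvd_X_pow_card_pow_sub_one hf hf0
  rw [hF] at hd
  obtain ⟨-, harith⟩ := uM_even q f.natDegree hq2 he
  have hq1 : q + 1 ∣ (q ^ 2) ^ f.natDegree - 1 := harith ▸ Dvd.intro_left _ rfl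
  obtain ⟨μ, hμ, hd2⟩ := exists_dvd_X_pow_sub_C hF hf hd hq1 dvd_rfl
  have h4 : ((q ^ 2) ^ f.natDegree - 1) / (q + 1) = uM q (2 * f.natDegree) := by
    rw [harith]
    exact Nat.mul_div_cancel _ (by omega)
  rw [h4] at hd2
  have hj : 1 ≤ uM q (2 * f.natDegree) := by
    rcases Nat.eq_zero_or_pos (uM q (2 * f.natDegree)) with h | h
    · rw [h, zero_mul] at harith
      have h5 : 2 ≤ (q ^ 2) ^ f.natDegree := by
        calc 2 ≤ q := hq2
          _ ≤ q ^ 2 := Nat.le_self_pow (by norm_num) q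
          _ ≤ (q ^ 2) ^ f.natDegree := Nat.le_self_pow (by omega) _
      omega
    · exact h
  have hd3 := dag_dvd_X_pow_sub_C hF hj hμ hd2
  have hcop : IsCoprime f (dag hF f) := (hf.isCoprime_or_dvd _).resolve_right hB
  have hd4 := hcop.mul_dvd hd2 hd3
  have h3 := pow_dvd_X_pow_sub_C p hd4 (Nat.le_pow_clog hp.one_lt κ)
  exact ⟨_, pow_eq_smul_of_dvd h0 h3⟩

end General

theorem scalar_full_A (hF : Fintype.card F = q ^ 2) (x : ↥(Cfsg.SU n F q)) {f : F[X]}
    (hf : Irreducible f) (hfm : f.Monic) (hA : f ∣ dag hF f) (hdeg : f.natDegree = n)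
    (h0 : aeval (opSU x) f = 0) :
    ∃ c : F, opSU x ^ (uM q n / Nat.gcd n (q + 1)) = c • (1 : End F (Fin n → F)) := by
  have hq2 : 2 ≤ q := two_le_of_card_sq hF
  have hn : 1 ≤ n := hdeg ▸ hf.natDegree_pos
  haveI : Nonempty (Fin n) := ⟨⟨0, hn⟩⟩
  obtain ⟨hodd, hd⟩ := ft_of_dvd_reverse_map hF hf hA
  rw [hdeg] at hodd hd
  set T := opSU x with hT
  have hmin : minpoly F T = f := (minpoly.eq_of_irreducible_of_monic hf h0 hfm).symm
  have hchar : T.charpoly = f := by
    have h1 : f ∣ T.charpoly := hmin ▸ LinearMap.minpoly_dvd_charpoly T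
    apply eq_of_monic_of_dvd_of_natDegree_le hfm (LinearMap.charpoly_monic T) h1
    rw [LinearMap.charpoly_natDegree, hdeg, Module.finrank_fin_fun]
  have hcoeff : (-1 : F) ^ n * f.coeff 0 = 1 := by
    have := LinearMap.det_eq_sign_charpoly_coeff T
    rw [hchar, Module.finrank_fin_fun, hT, det_opSU] at this
    exact this.symm
  have hnorm := dvd_X_pow_geom_sub_C hf hfm
  rw [hdeg, hcoeff, hF, C_1] at hnorm
  obtain ⟨g1, g2, g3⟩ := geom_sq_odd q n hq2 hodd
  rw [g1] at hnorm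
  rw [g3] at hd
  have h5 := dvd_X_pow_gcd_sub_one hd hnorm
  rw [Nat.gcd_mul_left, g2, mul_one] at h5
  obtain ⟨μ, -, hd2⟩ := exists_dvd_X_pow_sub_C hF hf h5 (gcd_dvd_uM q n hq2 hn)
    (Nat.gcd_dvd_right n (q + 1))
  exact ⟨μ, pow_eq_smul_of_dvd h0 hd2⟩

theorem scalar_full_B (hF : Fintype.card F = q ^ 2) (x : ↥(Cfsg.SU n F q)) {f : F[X]}
    (hf : Irreducible f) (hfm : f.Monic) (hf0 : f.coeff 0 ≠ 0) (hB : ¬ f ∣ dag hF f)
    (hdeg : 2 * f.natDegree = n) (h0 : aeval (opSU x) (f * dag hF f) = 0) :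
    ∃ c : F, opSU x ^ (uM q n / Nat.gcd n (q + 1)) = c • (1 : End F (Fin n → F)) := by
  have hq2 : 2 ≤ q := two_le_of_card_sq hF
  have he : 1 ≤ f.natDegree := hf.natDegree_pos
  have hn : 1 ≤ n := by omega
  haveI : Nonempty (Fin n) := ⟨⟨0, hn⟩⟩
  set T := opSU x with hT
  have h := udata_opSU x
  rw [← hT] at h
  obtain ⟨hall, -⟩ := h.mul_natDegree_le_typeB hF hf hf0 hB (κ := 1) le_rfl
    (by rw [pow_one]; exact h0) (by
      intro j hj
      by_contra hcon
      have hj0 : j = 0 := by omega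
      rw [hj0, pow_zero, map_one] at hj
      exact one_ne_zero hj)
  rw [pow_one] at hall
  have hd0 : dag hF f ≠ 0 := dag_ne_zero hF hf.ne_zero
  set f' := dag hF f * C (dag hF f).leadingCoeff⁻¹ with hf'
  have hf'm : f'.Monic := monic_mul_leadingCoeff_inv hd0
  have hchar : T.charpoly = f * f' := by
    have h1 : f * f' ∣ T.charpoly := by
      refine Dvd.dvd.trans ?_ (hall.trans (LinearMap.minpoly_dvd_charpoly T))
      rw [hf', ← mul_assoc]
      have hu : IsUnit (C (dag hF f).leadingCoeff⁻¹ : F[X]) :=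
        Polynomial.isUnit_C.2 (inv_ne_zero (leadingCoeff_ne_zero.2 hd0)).isUnit
      exact (hu.mul_right_dvd).2 dvd_rfl
    apply eq_of_monic_of_dvd_of_natDegree_le (hfm.mul hf'm) (LinearMap.charpoly_monic T) h1
    rw [LinearMap.charpoly_natDegree, Module.finrank_fin_fun, natDegree_mul hf.ne_zero hf'm.ne_zero,
      hf', natDegree_mul_leadingCoeff_inv _ hd0, natDegree_dag hF hf0]
    omega
  have hcoeff : f.coeff 0 ^ q = f.coeff 0 := by
    have h1 := LinearMap.det_eq_sign_charpoly_coeff T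
    rw [hchar, Module.finrank_fin_fun, hT, det_opSU, ← hdeg, pow_mul, neg_one_sq, one_pow, one_mul,
      mul_coeff_zero, hf', mul_coeff_zero, coeff_zero_dag, hfm.leadingCoeff, one_pow, one_mul,
      coeff_C_zero, leadingCoeff_dag hF hf0] at h1
    have h2 : f.coeff 0 ^ q ≠ 0 := pow_ne_zero _ hf0
    field_simp at h1
    exact h1
  set c₀ : F := (-1) ^ f.natDegree * f.coeff 0 with hc₀
  have hc₀0 : c₀ ≠ 0 := mul_ne_zero (pow_ne_zero _ (by simp)) hf0
  have hc₀q : c₀ ^ (q - 1) = 1 := by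
    have h1 : c₀ ^ q = c₀ := by
      have h3 := neg_pow_q hF (1 : F)
      rw [one_pow] at h3
      rw [hc₀, mul_pow, hcoeff, ← pow_mul, mul_comm f.natDegree q, pow_mul, h3]
    have h2 : c₀ ^ (q - 1) * c₀ = 1 * c₀ := by
      rw [← pow_succ, Nat.sub_add_cancel (by omega), h1, one_mul]
    exact mul_right_cancel₀ hc₀0 h2
  have hnorm := dvd_X_pow_mul_sub_C (dvd_X_pow_geom_sub_C hf hfm) (q - 1)
  obtain ⟨g1, -⟩ := uM_even q f.natDegree hq2 he
  rw [← hc₀, hc₀q, hF, ← g1, hdeg, C_1] at hnorm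
  have hdS := gcd_dvd_uM q n hq2 hn
  obtain ⟨μ, hμ, hd2⟩ := exists_dvd_X_pow_sub_C hF hf hnorm hdS (Nat.gcd_dvd_right n (q + 1))
  have hj : 1 ≤ uM q n / Nat.gcd n (q + 1) := by
    rcases Nat.eq_zero_or_pos (uM q n / Nat.gcd n (q + 1)) with h6 | h6
    · exfalso
      rw [h6, pow_zero] at hd2
      have h7 : (1 - C μ : F[X]) = C (1 - μ) := by rw [C_sub, C_1]
      rw [h7] at hd2
      by_cases hμ1 : μ = 1
      · have h8 : uM q n = 0 := by
          have := Nat.div_mul_cancel hdS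
          rw [h6, zero_mul] at this
          exact this.symm
        obtain ⟨-, g2⟩ := uM_even q f.natDegree hq2 he
        rw [hdeg, h8, zero_mul] at g2
        have h5 : 2 ≤ (q ^ 2) ^ f.natDegree := by
          calc 2 ≤ q := hq2
            _ ≤ q ^ 2 := Nat.le_self_pow (by norm_num) q
            _ ≤ (q ^ 2) ^ f.natDegree := Nat.le_self_pow (by omega) _
        omega
      · have h9 : IsUnit (C (1 - μ) : F[X]) :=
          Polynomial.isUnit_C.2 (sub_ne_zero.2 (Ne.symm hμ1)).isUnit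
        exact hf.not_isUnit (isUnit_of_dvd_unit hd2 h9)
    · exact h6
  have hd3 := dag_dvd_X_pow_sub_C hF hj hμ hd2
  have hcop : IsCoprime f (dag hF f) := (hf.isCoprime_or_dvd _).resolve_right hB
  exact ⟨μ, pow_eq_smul_of_dvd h0 (hcop.mul_dvd hd2 hd3)⟩

theorem not_isUnit_aeval_of_dvd_minpoly {V : Type*} [AddCommGroup V] [Module F V]
    [FiniteDimensional F V] {T : End F V} {f : F[X]} (hf : Irreducible f)
    (hd : f ∣ minpoly F T) : ¬ IsUnit (aeval T f) := by
  intro hu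
  obtain ⟨w, hw⟩ := hd
  have hm0 : minpoly F T ≠ 0 := minpoly.ne_zero (Algebra.IsIntegral.isIntegral T)
  have h1 : aeval T f * aeval T w = 0 := by rw [← map_mul, ← hw, minpoly.aeval]
  have h2 : aeval T w = 0 := by
    obtain ⟨u, hu'⟩ := hu
    rw [← hu'] at h1
    exact (Units.mul_right_eq_zero u).1 h1
  have h3 : minpoly F T ∣ w := minpoly.dvd F T h2
  have hw0 : w ≠ 0 := by
    rintro rfl
    rw [mul_zero] at hw
    exact hm0 hw
  have h4 := natDegree_le_of_dvd h3 hw0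
  rw [hw, natDegree_mul hf.ne_zero hw0] at h4
  have := hf.natDegree_pos
  omega

/-- the structure of orthogonally indecomposable elements of `SU_n(q)` -/
theorem exists_type (hF : Fintype.card F = q ^ 2) (p : ℕ) [Fact p.Prime] [CharP F p] (hn : 1 ≤ n)
    (x : ↥(Cfsg.SU n F q)) (hT : ¬ ODecomp q (opSU x)) :
    ∃ D κ : ℕ, 1 ≤ D ∧ 1 ≤ κ ∧ κ * D ≤ n ∧
      (∃ c : F, opSU x ^ (p ^ Nat.clog p κ * uM q D) = c • (1 : End F (Fin n → F))) ∧
      (D = n → ∃ c : F, opSU x ^ (uM q n / Nat.gcd n (q + 1)) = c • (1 : End F (Fin n → F))) := by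
  classical
  haveI : Nonempty (Fin n) := ⟨⟨0, hn⟩⟩
  have h := udata_opSU x
  set T := opSU x with hTdef
  obtain ⟨f, hfm, hf, hfd⟩ := exists_monic_irreducible_factor (minpoly F T) (minpoly.not_isUnit F T)
  have hnu : ¬ IsUnit (aeval T f) := not_isUnit_aeval_of_dvd_minpoly hf hfd
  have hTu : IsUnit T := isUnit_of_det_eq_one (by rw [hTdef, det_opSU])
  have he : 1 ≤ f.natDegree := hf.natDegree_pos
  have hf0 : f.coeff 0 ≠ 0 := by
    intro h0
    have h1 : (X : F[X]) ∣ f := X_dvd_iff.2 h0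
    have h2 : Associated (X : F[X]) f := ((hf.dvd_iff.1 h1).resolve_left not_isUnit_X).symm
    have h3 : (X : F[X]) = f := eq_of_monic_of_associated monic_X hfm h2
    rw [← h3, aeval_X] at hnu
    exact hnu hTu
  have hone : ∀ g : F[X], ¬ aeval T (g ^ 0) = 0 := by
    intro g hg
    rw [pow_zero, map_one] at hg
    exact one_ne_zero hg
  by_cases hA : f ∣ dag hF f
  · have hex := h.nilpotent_of_not_odecomp hF hT hA hnu
    set κ := Nat.find hex with hκ
    have hκ0 : aeval T (f ^ κ) = 0 := Nat.find_spec hex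
    have hκ1 : 1 ≤ κ := by
      by_contra hcon
      have : κ = 0 := by omega
      rw [this] at hκ0
      exact hone f hκ0
    have hle := natDegree_le_of_aeval_pow_min hf hκ0 (fun j hj => Nat.find_min' hex hj)
    refine ⟨f.natDegree, κ, he, hκ1, hle, scalar_typeA hF p hf hA hκ0, fun hD => ?_⟩
    have hκ2 : κ = 1 := by
      rw [hD] at hle
      have : κ * n ≤ 1 * n := by omega
      have := Nat.le_of_mul_le_mul_right this (by omega)
      omega
    rw [hκ2, pow_one] at hκ0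
    exact scalar_full_A hF x hf hfm hA hD hκ0
  · have hg : f * dag hF f ∣ dag hF (f * dag hF f) := by
      rw [dag_mul, dag_dag hF hf0, mul_comm]
    have hnu2 : ¬ IsUnit (aeval T (f * dag hF f)) := by
      intro hu
      rw [map_mul] at hu
      have hc : Commute (aeval T f) (aeval T (dag hF f)) := by
        rw [Commute, SemiconjBy, ← map_mul, ← map_mul, mul_comm]
      exact hnu (hc.isUnit_mul_iff.1 hu).1
    have hex := h.nilpotent_of_not_odecomp hF hT hg hnu2
    set κ := Nat.find hex with hκ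
    have hκ0 : aeval T ((f * dag hF f) ^ κ) = 0 := Nat.find_spec hex
    have hκ1 : 1 ≤ κ := by
      by_contra hcon
      have : κ = 0 := by omega
      rw [this] at hκ0
      exact hone _ hκ0
    obtain ⟨-, hle⟩ := h.mul_natDegree_le_typeB hF hf hf0 hA hκ1 hκ0
      (fun j hj => Nat.find_min' hex hj)
    refine ⟨2 * f.natDegree, κ, by omega, hκ1, hle, scalar_typeB hF p hf hf0 hA hκ0, fun hD => ?_⟩
    have hκ2 : κ = 1 := by
      rw [hD] at hle
      have : κ * n ≤ 1 * n := by omega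
      have := Nat.le_of_mul_le_mul_right this (by omega)
      omega
    rw [hκ2, pow_one] at hκ0
    exact scalar_full_B hF x hf hfm hf0 hA hD hκ0

end Cfsg.Agent.Lib.Helper48
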