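import Mathlib
import Cfsg.Agent.Lib.Helper48.USU
import Cfsg.Agent.Lib.Helper48.JordanGL

set_option autoImplicit false
set_option linter.unusedSectionVars false
set_option linter.style.haveILetI false

namespace Cfsg.Agent.Lib.Helper48

open Module Cfsg.Agent.Lib.Helper17

universe u

variable {F : Type u} [Field F] [Fintype F] {q : ℕ}

/-- hermitian Cayley transform of a skew-adjoint nilpotent operator -/
theorem exists_cayley_unip (hF : Fintype.card F = q ^ 2) (p : ℕ) [Fact p.Prime] [CharP F p]
    {V : Type*} [AddCommGroup V] [Module F V] (B : V →ₛₗ[frobQ hF] V →ₗ[F] F) (ν : End F V)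
    (hskew : ∀ x y, B (ν x) y = - B x (ν y)) (hnil : IsNilpotent ν) (c : F) (hc : c + c ^ q ≠ 0) :
    ∃ T : End F V, (∀ x y, B (T x) (T y) = B x y) ∧ ∀ s : ℕ, T ^ (p ^ s) = 1 ↔ ν ^ (p ^ s) = 0 := by
  set a : End F V := 1 + c • ν with ha
  set b : End F V := 1 - c ^ q • ν with hb
  have hnil2 : IsNilpotent (c ^ q • ν) := by
    obtain ⟨m, hm⟩ := hnil
    exact ⟨m, by rw [smul_pow, hm, smul_zero]⟩
  obtain ⟨bu, hbu⟩ := IsNilpotent.isUnit_one_sub hnil2
  rw [← hb] at hbu
  set b' : End F V := ((bu⁻¹ : (End F V)ˣ) : End F V) with hb'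
  have hbb' : b * b' = 1 := by rw [← hbu, hb', Units.mul_inv]
  have hb'b : b' * b = 1 := by rw [← hbu, hb', Units.inv_mul]
  have hνb : Commute ν b := (Commute.one_right ν).sub_right ((Commute.refl ν).smul_right _)
  have hνb' : Commute ν b' := by
    rw [hb']
    apply Commute.units_inv_right
    rw [hbu]
    exact hνb
  have hab : Commute a b := (Commute.one_left b).add_left (hνb.smul_left _)
  have hadj1 : ∀ x y, B (a x) y = B x (b y) := by
    intro x y
    simp only [ha, hb, LinearMap.add_apply, LinearMap.sub_apply, Module.End.one_apply,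
      LinearMap.smul_apply, map_add, map_sub, map_smulₛₗ, map_smul, hskew, frobQ_apply, smul_eq_mul,
      RingHom.id_apply]
    ring
  have hadj2 : ∀ x y, B (b x) y = B x (a y) := by
    intro x y
    simp only [ha, hb, LinearMap.add_apply, LinearMap.sub_apply, Module.End.one_apply,
      LinearMap.smul_apply, map_add, map_sub, map_smulₛₗ, map_smul, hskew, frobQ_apply, smul_eq_mul, RingHom.id_apply,
      pow_q_pow_q hF]
    ring
  refine ⟨a * b', ?_, ?_⟩
  · intro x y
    rw [Module.End.mul_apply, Module.End.mul_apply, hadj1]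
    have h1 : b (a (b' y)) = a y := by
      rw [← Module.End.mul_apply, ← Module.End.mul_apply, ← hab.eq, mul_assoc, hbb', mul_one]
    rw [h1, ← hadj2, ← Module.End.mul_apply, hbb', Module.End.one_apply]
  · intro s
    have h1 : a * b' - 1 = (c + c ^ q) • (ν * b') := by
      have h2 : a - b = (c + c ^ q) • ν := by
        rw [ha, hb, add_smul]
        abel
      rw [← smul_mul_assoc, ← h2, sub_mul, hbb']
    rw [← sub_eq_zero, ← sub_one_pow_char_pow, h1, smul_pow, hνb'.mul_pow]
    constructor
    · intro h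
      have h3 : ν ^ p ^ s * b' ^ p ^ s = 0 :=
        (smul_eq_zero.1 h).resolve_left (pow_ne_zero _ hc)
      have h4 : b' ^ p ^ s * b ^ p ^ s = 1 := by
        have hcm : Commute b' b := by rw [Commute, SemiconjBy, hbb', hb'b]
        rw [← hcm.mul_pow, hb'b, one_pow]
      calc ν ^ p ^ s = ν ^ p ^ s * (b' ^ p ^ s * b ^ p ^ s) := by rw [h4, mul_one]
        _ = 0 := by rw [← mul_assoc, h3, zero_mul]
    · intro h
      rw [h, zero_mul, smul_zero]

end Cfsg.Agent.Lib.Helper48
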