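import Mathlib
import Cfsg.Agent.Lib.Helper48.UUnipAbs
import Cfsg.Agent.Lib.Helper48.RegUnipExist
import Cfsg.Agent.Lib.Helper48.U3Spec
import Cfsg.Agent.Lib.Helper17.UnitHyp

set_option autoImplicit false
set_option linter.unusedSectionVars false
set_option linter.style.haveILetI false

namespace Cfsg.Agent.Lib.Helper48

open Module Cfsg.Agent.Lib.Helper17

universe u

variable {F : Type u} [Field F] [Fintype F] {q : ℕ}

/-- coordinatewise `q`-th power -/
def frobVec (q : ℕ) {N : ℕ} (x : Fin N → F) : Fin N → F := fun i => x i ^ q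

theorem frobVec_add (hF : Fintype.card F = q ^ 2) {N : ℕ} (x y : Fin N → F) :
    frobVec q (x + y) = frobVec q x + frobVec q y := by
  funext i
  simp only [frobVec, Pi.add_apply, add_pow_q hF]

theorem frobVec_smul {N : ℕ} (c : F) (x : Fin N → F) :
    frobVec q (c • x) = c ^ q • frobVec q x := by
  funext i
  simp only [frobVec, Pi.smul_apply, smul_eq_mul, mul_pow]

theorem frobVec_frobVec (hF : Fintype.card F = q ^ 2) {N : ℕ} (x : Fin N → F) :
    frobVec q (frobVec q x) = x := by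
  funext i
  simp only [frobVec, pow_q_pow_q hF]

theorem antiB_eq_sum (N : ℕ) (u v : Fin N → F) :
    antiB F N u v = ∑ i : Fin N, (-1) ^ (i : ℕ) * u i * v (Fin.rev i) := by
  rw [antiB_apply, dotProduct]
  apply Finset.sum_congr rfl
  intro i _
  rw [Matrix.mulVec, dotProduct, Finset.sum_eq_single (Fin.rev i)]
  · simp only [antiM, Matrix.of_apply, Fin.val_rev]
    rw [if_pos (by have := i.2; omega)]
    ring
  · intro j _ hj
    simp only [antiM, Matrix.of_apply]
    rw [if_neg, zero_mul]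
    intro h
    apply hj
    apply Fin.ext
    rw [Fin.val_rev]
    omega
  · intro h
    exact absurd (Finset.mem_univ _) h

theorem antiB_frob (hF : Fintype.card F = q ^ 2) (N : ℕ) (u v : Fin N → F) :
    (antiB F N u v) ^ q = antiB F N (frobVec q u) (frobVec q v) := by
  rw [antiB_eq_sum, antiB_eq_sum, sum_pow_q hF]
  apply Finset.sum_congr rfl
  intro i _
  have h1 : ((-1 : F) ^ (i : ℕ)) ^ q = (-1) ^ (i : ℕ) := by
    have h3 := neg_pow_q hF (1 : F)
    rw [one_pow] at h3
    rw [← pow_mul, mul_comm, pow_mul, h3]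
  rw [mul_pow, mul_pow, h1]
  rfl

theorem antiB_swap (N : ℕ) (u v : Fin N → F) :
    antiB F N u v = (-1) ^ (N + 1) * antiB F N v u := by
  rw [antiB_eq_sum, antiB_eq_sum, Finset.mul_sum, ← Equiv.sum_comp Fin.revPerm]
  apply Finset.sum_congr rfl
  intro i _
  simp only [Fin.revPerm_apply, Fin.rev_rev]
  have h1 : (-1 : F) ^ (N + 1) * (-1) ^ (i : ℕ) = (-1) ^ ((Fin.rev i : Fin N) : ℕ) := by
    have h2 : N + 1 + (i : ℕ) = ((Fin.rev i : Fin N) : ℕ) + 2 * ((i : ℕ) + 1) := by
      rw [Fin.val_rev]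
      have := i.2
      omega
    rw [← pow_add, h2, pow_add, pow_mul, neg_one_sq, one_pow, mul_one]
  rw [← h1]
  ring

/-- the antidiagonal hermitian form -/
noncomputable def antiH (hF : Fintype.card F = q ^ 2) (N : ℕ) (k : F) :
    (Fin N → F) →ₛₗ[frobQ hF] (Fin N → F) →ₗ[F] F :=
  LinearMap.mk₂'ₛₗ (frobQ hF) (RingHom.id F) (fun x y => k * antiB F N (frobVec q x) y)
    (fun x x' y => by rw [frobVec_add hF, map_add, LinearMap.add_apply, mul_add])
    (fun c x y => by
      rw [frobVec_smul, map_smul, LinearMap.smul_apply, frobQ_apply, smul_eq_mul, smul_eq_mul]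
      ring)
    (fun x y y' => by rw [map_add, mul_add])
    (fun c x y => by
      rw [map_smul, RingHom.id_apply, smul_eq_mul, smul_eq_mul]
      ring)

theorem antiH_apply (hF : Fintype.card F = q ^ 2) (N : ℕ) (k : F) (x y : Fin N → F) :
    antiH hF N k x y = k * antiB F N (frobVec q x) y := rfl

theorem antiH_isSymm (hF : Fintype.card F = q ^ 2) (N : ℕ) (k : F)
    (hk : k ^ q = (-1) ^ (N + 1) * k) : (antiH hF N k).IsSymm := by
  refine ⟨fun x y => ?_⟩
  rw [antiH_apply, antiH_apply, frobQ_apply, mul_pow, antiB_frob hF, frobVec_frobVec hF, hk,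
    antiB_swap N x]
  have h1 : (-1 : F) ^ (N + 1) * (-1) ^ (N + 1) = 1 := by
    rw [← mul_pow]
    simp
  linear_combination (k * antiB F N (frobVec q y) x) * h1

theorem antiH_nondegenerate (hF : Fintype.card F = q ^ 2) (N : ℕ) (k : F) (hk0 : k ≠ 0)
    (hk : k ^ q = (-1) ^ (N + 1) * k) : (antiH hF N k).Nondegenerate := by
  have hq2 : 2 ≤ q := two_le_of_card_sq hF
  have hleft : ∀ x, (∀ y, antiH hF N k x y = 0) → x = 0 := by
    intro x hx
    have h1 : frobVec q x = 0 := by
      apply antiB_nondeg F N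
      intro w
      have := hx w
      rw [antiH_apply] at this
      exact (mul_eq_zero.1 this).resolve_left hk0
    funext i
    have h2 := congrFun h1 i
    exact eq_zero_of_pow_eq_zero h2
  refine ⟨hleft, ?_⟩
  intro y hy
  apply hleft
  intro x
  rw [← (antiH_isSymm hF N k hk).eq x y, hy x, map_zero]

theorem jordanBlock_sub_one_pow_mulVec_ge {N : ℕ} (k : ℕ) (x : Fin N → F) (i : Fin N)
    (hi : k ≤ (i : ℕ)) :
    (((Cfsg.jordanBlock N F - 1) ^ k).mulVec x) i = x ⟨(i : ℕ) - k, by omega⟩ := by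
  induction k generalizing i with
  | zero => simp
  | succ k ih =>
    rw [pow_succ', ← Matrix.mulVec_mulVec, jordanBlock_sub_one_mulVec, dif_pos (by omega), ih _ (by
      simp only
      omega)]
    congr 1
    apply Fin.ext
    simp only
    omega

theorem jordanBlock_sub_one_pow_eq_zero_iff {N : ℕ} (k : ℕ) :
    (Matrix.mulVecLin (Cfsg.jordanBlock N F - 1)) ^ k = 0 ↔ N ≤ k := by
  rw [← mulVecLin_pow]
  constructor
  · intro h
    by_contra hcon
    have hk : k < N := by omega
    have h1 := congrArg (fun f : End F (Fin N → F) => f (Pi.single ⟨0, by omega⟩ 1) ⟨k, hk⟩) h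
    simp only [Matrix.mulVecLin_apply, LinearMap.zero_apply, Pi.zero_apply] at h1
    rw [jordanBlock_sub_one_pow_mulVec_ge k _ ⟨k, hk⟩ le_rfl] at h1
    simp at h1
  · intro h
    rw [← Nat.sub_add_cancel h, pow_add, jordanBlock_sub_one_pow, mul_zero]
    simp

theorem exists_su_unip (hF : Fintype.card F = q ^ 2) (p : ℕ) [Fact p.Prime] [CharP F p] (N : ℕ) :
    ∃ x : ↥(Cfsg.SU N F q), orderOf x = p ^ Nat.clog p N := by
  have hp : p.Prime := Fact.out
  have hq2 : 2 ≤ q := two_le_of_card_sq hF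
  obtain ⟨k, hk0, hk⟩ : ∃ k : F, k ≠ 0 ∧ k ^ q = (-1) ^ (N + 1) * k := by
    rcases Nat.even_or_odd N with h | h
    · obtain ⟨k, hk, hk0⟩ := exists_skew hF
      exact ⟨k, hk0, by rw [hk, (h.add_one).neg_one_pow]; ring⟩
    · exact ⟨1, one_ne_zero, by rw [one_pow, (h.add_one).neg_one_pow, one_mul]⟩
  obtain ⟨c, hc⟩ := exists_trace_ne_zero hF
  set ν : End F (Fin N → F) := Matrix.mulVecLin (Cfsg.jordanBlock N F - 1) with hν
  have hfν : ∀ x, frobVec q (ν x) = ν (frobVec q x) := by
    intro x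
    funext i
    simp only [frobVec, hν, Matrix.mulVecLin_apply, jordanBlock_sub_one_mulVec]
    split_ifs
    · rfl
    · exact zero_pow (by omega)
  obtain ⟨T, hT, hTs⟩ := exists_cayley_unip hF p (antiH hF N k) ν (by
      intro x y
      rw [antiH_apply, antiH_apply, hfν, antiB_skew F N]
      ring) ⟨N, (jordanBlock_sub_one_pow_eq_zero_iff N).2 le_rfl⟩ c hc
  have key : ∀ s, T ^ (p ^ s) = 1 ↔ N ≤ p ^ s := by
    intro s
    rw [hTs, hν, jordanBlock_sub_one_pow_eq_zero_iff]
  have hdet : LinearMap.det T = 1 := by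
    apply eq_one_of_pow_char_pow_eq_one p (t := Nat.clog p N)
    rw [← map_pow, (key _).2 (Nat.le_pow_clog hp.one_lt N), map_one]
  obtain ⟨x, hx, -⟩ := exists_su_orderOf_of_herm hF (antiH hF N k) (antiH_isSymm hF N k hk)
    (antiH_nondegenerate hF N k hk0 hk) (Module.finrank_fin_fun F) T hT hdet
  refine ⟨x, ?_⟩
  have h1 : orderOf x ∣ p ^ Nat.clog p N :=
    orderOf_dvd_of_pow_eq_one ((hx _).2 ((key _).2 (Nat.le_pow_clog hp.one_lt N)))
  obtain ⟨j, hj, hj2⟩ := (Nat.dvd_prime_pow hp).1 h1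
  have h2 : N ≤ p ^ j := (key j).1 ((hx _).1 (by rw [← hj2]; exact pow_orderOf_eq_one x))
  have h3 : Nat.clog p N ≤ j := Nat.clog_le_of_le_pow h2
  rw [hj2, le_antisymm hj h3]

end Cfsg.Agent.Lib.Helper48
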