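import Mathlib
import Cfsg.Agent.Lib.Helper48.UType
import Cfsg.Agent.Lib.Helper48.UCert
import Cfsg.Agent.Lib.Helper48.UBlock
import Cfsg.Agent.Lib.Helper48.UUnip
import Cfsg.Agent.Lib.Helper48.UTorus
import Cfsg.Agent.Lib.Helper48.UTorusEven
import Cfsg.Agent.Lib.Helper48.ProjPSL
import Cfsg.Agent.Lib.Helper48.SpecProd

set_option autoImplicit false
set_option linter.unusedSectionVars false
set_option linter.style.haveILetI false

namespace Cfsg.Agent.Lib.Helper48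

open Module Polynomial Cfsg.Agent.Lib.Helper17

universe u

variable {F : Type u} [Field F] [Fintype F] {q n : ℕ}

theorem exists_su_torus (hF : Fintype.card F = q ^ 2) (D : ℕ) (hD : 1 ≤ D) :
    ∃ x : ↥(Cfsg.SU D F q), orderOf x = uM q D := by
  rcases Nat.even_or_odd D with h | h
  · obtain ⟨e, rfl⟩ : ∃ e, D = 2 * e := by
      obtain ⟨e, he⟩ := h
      exact ⟨e, by omega⟩
    rw [uM, if_neg (by simp)]
    exact exists_su_torus_even hF e (by omega)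
  · rw [uM, if_pos h]
    exact exists_su_torus_odd hF D h

theorem exists_su_p_pow (hF : Fintype.card F = q ^ 2) (p : ℕ) [Fact p.Prime] [CharP F p] (N t : ℕ)
    (h : t = 0 ∨ p ^ (t - 1) < N) : ∃ g : ↥(Cfsg.SU N F q), orderOf g = p ^ t := by
  have hp : p.Prime := Fact.out
  obtain ⟨g, hg⟩ := exists_su_unip hF p N
  have ht : t ≤ Nat.clog p N := by
    rcases h with rfl | h
    · exact Nat.zero_le _
    · by_contra hcon
      have h1 : Nat.clog p N ≤ t - 1 := by omega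
      have h2 := (Nat.clog_le_iff_le_pow hp.one_lt).1 h1
      omega
  refine ⟨g ^ (orderOf g / p ^ t), ?_⟩
  apply orderOf_pow_orderOf_div
  · rw [hg]; exact (pow_pos hp.pos _).ne'
  · rw [hg]; exact pow_dvd_pow p ht

theorem pord_block (p : ℕ) [Fact p.Prime] [CharP F p] {n₁ n₂ : ℕ} (h₂ : 1 ≤ n₂)
    (x₁ : ↥(Cfsg.SU n₁ F q)) (x₂ : ↥(Cfsg.SU n₂ F q)) {t : ℕ} (ht : orderOf x₂ = p ^ t)
    (x : ↥(Cfsg.SU (n₁ + n₂) F q))
    (hx : ∀ (j : ℕ) (c : F), opSU x ^ j = c • (1 : End F (Fin (n₁ + n₂) → F)) ↔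
        (opSU x₁ ^ j = c • (1 : End F (Fin n₁ → F)) ∧ opSU x₂ ^ j = c • (1 : End F (Fin n₂ → F)))) :
    POrd (opSU x) (Nat.lcm (orderOf x₁) (p ^ t)) := by
  haveI : Nonempty (Fin n₂) := ⟨⟨0, h₂⟩⟩
  intro j
  constructor
  · rintro ⟨c, hc⟩
    obtain ⟨h1, h2⟩ := (hx j c).1 hc
    have hc1 : c = 1 := by
      apply eq_one_of_pow_char_pow_eq_one p (t := t)
      apply smul_one_injective' (V := Fin n₂ → F)
      rw [one_smul, ← one_pow (p ^ t), ← _root_.smul_pow, ← h2, ← pow_mul, mul_comm, pow_mul,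
        (opSU_pow_eq_one_iff x₂ (p ^ t)).2 (by rw [ht]), one_pow, one_pow]
    rw [hc1, one_smul] at h1 h2
    exact Nat.lcm_dvd ((opSU_pow_eq_one_iff _ _).1 h1) (ht ▸ (opSU_pow_eq_one_iff _ _).1 h2)
  · intro h
    refine ⟨1, (hx j 1).2 ⟨?_, ?_⟩⟩
    · rw [one_smul, opSU_pow_eq_one_iff]
      exact (Nat.dvd_lcm_left _ _).trans h
    · rw [one_smul, opSU_pow_eq_one_iff, ht]
      exact (Nat.dvd_lcm_right _ _).trans h

theorem char_dvd_q (hF : Fintype.card F = q ^ 2) (p : ℕ) [Fact p.Prime] [CharP F p] : p ∣ q := by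
  have hp : p.Prime := Fact.out
  have h1 : p ∣ Fintype.card F := char_dvd_card p
  rw [hF] at h1
  exact hp.dvd_of_dvd_pow h1

theorem psu_dichotomy (hF : Fintype.card F = q ^ 2) (p : ℕ) [Fact p.Prime] [CharP F p] (hn : 2 ≤ n)
    (r : ℕ) (hr : r.Prime) (hrq : r ∣ q + 1) (hrn : ¬ r ∣ n) (x : ↥(Cfsg.SU n F q)) (a : ℕ)
    (ha : POrd (opSU x) a) :
    (∃ (x' : ↥(Cfsg.SU n F q)) (b : ℕ), POrd (opSU x') b ∧ a ∣ b ∧ r ∣ b) ∨
    a ∣ uM q n / Nat.gcd n (q + 1) ∨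
    (∃ t, 1 ≤ t ∧ n = p ^ (t - 1) + 1 ∧ a ∣ p ^ t) := by
  have hp : p.Prime := Fact.out
  by_cases hT : ODecomp q (opSU x)
  · exact Or.inl (exists_good_of_odecomp hF x hT ha hr hrq hrn)
  obtain ⟨D, κ, hD, hκ, hle, ⟨c, hc⟩, hfull⟩ := exists_type hF p (by omega) x hT
  have ha1 : a ∣ p ^ Nat.clog p κ * uM q D := (ha _).1 ⟨c, hc⟩
  by_cases hDn : D = n
  · obtain ⟨c', hc'⟩ := hfull hDn
    exact Or.inr (Or.inl ((ha _).1 ⟨c', hc'⟩))
  have hDlt : D < n := by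
    have : D ≤ κ * D := Nat.le_mul_of_pos_left D (by omega)
    omega
  have hblock : ∀ t, (t = 0 ∨ p ^ (t - 1) < n - D) → a ∣ p ^ t * uM q D →
      ∃ (x' : ↥(Cfsg.SU n F q)) (b : ℕ), POrd (opSU x') b ∧ a ∣ b ∧ r ∣ b := by
    intro t ht hat
    obtain ⟨N, rfl⟩ : ∃ N, n = D + N := ⟨n - D, by omega⟩
    rw [Nat.add_sub_cancel_left] at ht
    obtain ⟨σ, hσ⟩ := exists_su_torus hF D hD
    obtain ⟨u, hu⟩ := exists_su_p_pow hF p N t ht
    obtain ⟨x₀, hdec, hx₀⟩ := exists_su_block hF hD (by omega) σ u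
    have h1 := pord_block p (by omega) σ u hu x₀ hx₀
    obtain ⟨x', b, h2, h3, h4⟩ := exists_good_of_odecomp hF x₀ hdec h1 hr hrq hrn
    refine ⟨x', b, h2, ?_, h4⟩
    rw [hσ, (coprime_uM p q D t hp (char_dvd_q hF p) (by have := two_le_of_card_sq hF; omega) hD).lcm_eq_mul, mul_comm] at h3
    exact hat.trans h3
  rcases Nat.lt_or_ge κ 2 with hk2 | hk2
  · have hk : κ = 1 := by omega
    rw [hk, Nat.clog_one_right] at ha1
    exact Or.inl (hblock 0 (Or.inl rfl) ha1)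
  · have ht1 : 1 ≤ Nat.clog p κ := Nat.clog_pos hp.one_lt (by omega)
    have htk : p ^ (Nat.clog p κ - 1) < κ := Nat.pow_pred_clog_lt_self hp.one_lt (by omega)
    rcases Nat.lt_or_ge D 2 with he2 | he2
    · have he : D = 1 := by omega
      subst he
      rw [mul_one] at hle
      by_cases hlt : p ^ (Nat.clog p κ - 1) + 1 < n
      · exact Or.inl (hblock _ (Or.inr (by omega)) ha1)
      · right; right
        refine ⟨Nat.clog p κ, ht1, by omega, ?_⟩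
        have h1 : uM q 1 = 1 := by
          rw [uM, if_pos (by decide), pow_one, Nat.div_self (by omega)]
        rwa [h1, mul_one] at ha1
    · have hke : D + κ ≤ n := by
        have : D + κ ≤ κ * D := by nlinarith
        omega
      exact Or.inl (hblock _ (Or.inr (by omega)) ha1)

section PSU

theorem orderOf_mk_of_pord (hF : Fintype.card F = q ^ 2) (x : ↥(Cfsg.SU n F q)) {b : ℕ}
    (h : POrd (opSU x) b) : orderOf (QuotientGroup.mk x : Cfsg.PSU n F q) = b :=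
  (pord_mk_su hF x).unique h

theorem exists_PSU_torus (hF : Fintype.card F = q ^ 2) (hn : 1 ≤ n) :
    ∃ y : Cfsg.PSU n F q, orderOf y = uM q n / Nat.gcd n (q + 1) := by
  obtain ⟨σ, hσ⟩ := exists_su_torus hF n hn
  exact exists_orderOf_eq_of_dvd _ (dvd_orderOf_mk_su hF hn σ (hσ ▸ dvd_rfl)
    (gcd_dvd_uM q n (two_le_of_card_sq hF) hn))

theorem exists_PSU_unip (hF : Fintype.card F = q ^ 2) (p : ℕ) [Fact p.Prime] [CharP F p]
    (hn : 1 ≤ n) : ∃ y : Cfsg.PSU n F q, orderOf y = p ^ Nat.clog p n := by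
  haveI : Nonempty (Fin n) := ⟨⟨0, hn⟩⟩
  obtain ⟨u, hu⟩ := exists_su_unip hF p n
  refine ⟨QuotientGroup.mk u, orderOf_mk_of_pord hF u (pord_unip p _ _ ?_)⟩
  intro j
  rw [opSU_pow_eq_one_iff, hu]

theorem exists_PSU_prime (hF : Fintype.card F = q ^ 2) (hn : 2 ≤ n) (r : ℕ) (hr : r.Prime)
    (hrq : r ∣ q + 1) (hrn : ¬ r ∣ n) : ∃ y : Cfsg.PSU n F q, orderOf y = r := by
  obtain ⟨N, rfl⟩ : ∃ N, n = 1 + N := ⟨n - 1, by omega⟩
  obtain ⟨x₀, hdec, -⟩ := exists_su_block hF le_rfl (by omega) (1 : ↥(Cfsg.SU 1 F q))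
    (1 : ↥(Cfsg.SU N F q))
  obtain ⟨x', b, h2, -, h4⟩ := exists_good_of_odecomp hF x₀ hdec (pord_mk_su hF x₀) hr hrq hrn
  exact exists_orderOf_eq_of_dvd _ ((orderOf_mk_of_pord hF x' h2).symm ▸ h4)

end PSU

end Cfsg.Agent.Lib.Helper48
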